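import Cfsg.Agent.Lib.Char.J2.Reflections
import Cfsg.Agent.Lib.Char.J2.HundredData

/-!
The faithful action of J2 on one hundred blocks, and elements given by four transversal indices.
-/

set_option autoImplicit false
set_option maxRecDepth 10000

namespace CfsgLib.Char.J2

open Cfsg.Spor

/-- The mask of blocks containing a line. -/
def col (i : ℕ) : ℕ := (lineCols >>> (100 * i)) &&& (2 ^ 100 - 1)

/-- A line lies in a block. -/
def inBlk (i b : ℕ) : Bool := (col i).testBit b

/-- The generators on lines. -/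
def gP (k i : ℕ) : ℕ := (gPermArr >>> (9 * (315 * k + i))) &&& 511

/-- The generators on blocks. -/
def gB (k b : ℕ) : ℕ := (genArr >>> (700 * k + 7 * b)) &&& 127

theorem gP_check : ((List.range 4).all fun k => (List.range 315).all fun i =>
    decide (gP k i = gPerm k i)) = true := by
  decide +kernel

theorem gB_check : ((List.range 4).all fun k => ((List.range 100).all fun b => decide (gB k b < 100)) &&
    (List.range 315).all fun i => (List.range 100).all fun b =>
      inBlk (gP k i) (gB k b) == inBlk i b) = true := by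
  decide +kernel

theorem block_rows : blockMasks.length = 100 ∧ blockMasks.Nodup ∧
    ((List.range 100).all fun b => decide (blockMasks.getD b 0 < 2 ^ 315) &&
      (List.range 315).all fun i => (blockMasks.getD b 0).testBit i == inBlk i b) = true := by
  decide +kernel

theorem col_nodup : ((List.range 315).map col).Nodup ∧
    ((List.range 315).all fun i => decide (col i < 2 ^ 100)) = true := by
  decide +kernel

theorem block_ext {b b' : Fin 100} (h : ∀ i : Fin 315, inBlk i.1 b.1 = inBlk i.1 b'.1) : b = b' := by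
  obtain ⟨hl, hnd, hc⟩ := block_rows
  simp only [List.all_eq_true, List.mem_range, Bool.and_eq_true, decide_eq_true_eq, beq_iff_eq] at hc
  have e : blockMasks.getD b.1 0 = blockMasks.getD b'.1 0 := by
    refine Nat.eq_of_testBit_eq fun i => ?_
    by_cases hi : i < 315
    · rw [(hc b.1 b.2).2 i hi, (hc b'.1 b'.2).2 i hi]
      exact h ⟨i, hi⟩
    · rw [Nat.testBit_eq_false_of_lt ((hc b.1 b.2).1.trans_le (Nat.pow_le_pow_right two_pos (by omega))),
        Nat.testBit_eq_false_of_lt ((hc b'.1 b'.2).1.trans_le (Nat.pow_le_pow_right two_pos (by omega)))]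
  rw [List.getD_eq_getElem _ _ (by rw [hl]; exact b.2),
    List.getD_eq_getElem _ _ (by rw [hl]; exact b'.2), hnd.getElem_inj_iff] at e
  exact Fin.ext e

theorem line_ext {i j : Fin 315} (h : ∀ b : Fin 100, inBlk i.1 b.1 = inBlk j.1 b.1) : i = j := by
  obtain ⟨hnd, hlt⟩ := col_nodup
  simp only [List.all_eq_true, List.mem_range, decide_eq_true_eq] at hlt
  have e : col i.1 = col j.1 := by
    refine Nat.eq_of_testBit_eq fun b => ?_
    by_cases hb : b < 100
    · exact h ⟨b, hb⟩
    · rw [Nat.testBit_eq_false_of_lt ((hlt i.1 i.2).trans_le (Nat.pow_le_pow_right two_pos (by omega))),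
        Nat.testBit_eq_false_of_lt ((hlt j.1 j.2).trans_le (Nat.pow_le_pow_right two_pos (by omega)))]
  refine Fin.ext (List.inj_on_of_nodup_map hnd (List.mem_range.2 i.2) (List.mem_range.2 j.2) e)

/-- An isometry moves blocks to blocks by a permutation. -/
def MovesBlocks (f : ↥Isom) (p : Equiv.Perm (Fin 100)) : Prop :=
  ∀ (i : Fin 315) (b : Fin 100), inBlk (lineHom f i).1 (p b).1 = inBlk i.1 b.1

theorem MovesBlocks.unique {f : ↥Isom} {p p' : Equiv.Perm (Fin 100)} (h : MovesBlocks f p)
    (h' : MovesBlocks f p') : p = p' := by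
  refine Equiv.ext fun b => block_ext fun i => ?_
  have e := h ((lineHom f).symm i) b
  have e' := h' ((lineHom f).symm i) b
  rw [Equiv.apply_symm_apply] at e e'
  rw [e, e']

theorem MovesBlocks.mul {f g : ↥Isom} {p q : Equiv.Perm (Fin 100)} (h : MovesBlocks f p)
    (h' : MovesBlocks g q) : MovesBlocks (f * g) (p * q) := by
  intro i b
  rw [map_mul, Equiv.Perm.mul_apply, Equiv.Perm.mul_apply, h, h']

theorem exists_moves (f : ↥Isom) : ∃ p, MovesBlocks f p := by
  have hf : f ∈ gen4 := by rw [gen4_eq_top]; trivial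
  induction hf using Subgroup.closure_induction with
  | mem f hf =>
    obtain ⟨k, rfl⟩ := hf
    have hc := gB_check
    have hp := gP_check
    simp only [List.all_eq_true, List.mem_range, Bool.and_eq_true, decide_eq_true_eq,
      beq_iff_eq] at hc hp
    let σ : Fin 100 → Fin 100 := fun b => ⟨gB k.1 b.1, (hc k.1 k.2).1 b.1 b.2⟩
    have hσ : ∀ i b, inBlk (lineHom (gI k) i).1 (σ b).1 = inBlk i.1 b.1 := by
      intro i b
      rw [lineHom_apply, lineFun_gI, ← hp k.1 k.2 i.1 i.2]
      exact (hc k.1 k.2).2 i.1 i.2 b.1 b.2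
    have hinj : Function.Injective σ := fun b b' e => block_ext fun i => by
      rw [← hσ i b, ← hσ i b', e]
    exact ⟨Equiv.ofBijective σ ⟨hinj, Finite.injective_iff_surjective.1 hinj⟩, hσ⟩
  | one => exact ⟨1, fun i b => by simp⟩
  | mul f g _ _ hf hg =>
    obtain ⟨p, hp⟩ := hf
    obtain ⟨q, hq⟩ := hg
    exact ⟨p * q, hp.mul hq⟩
  | inv f _ hf =>
    obtain ⟨p, hp⟩ := hf
    refine ⟨p⁻¹, fun i b => ?_⟩
    have := hp (lineHom f⁻¹ i) (p⁻¹ b)
    rw [← Equiv.Perm.mul_apply, ← map_mul, mul_inv_cancel, map_one, ← Equiv.Perm.mul_apply,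
      mul_inv_cancel] at this
    exact this.symm

/-- The action on the blocks. -/
noncomputable def rho : ↥Isom →* Equiv.Perm (Fin 100) where
  toFun f := (exists_moves f).choose
  map_one' := (exists_moves 1).choose_spec.unique (fun i b => by simp)
  map_mul' f g := (exists_moves (f * g)).choose_spec.unique
    ((exists_moves f).choose_spec.mul (exists_moves g).choose_spec)

theorem moves_rho (f : ↥Isom) : MovesBlocks f (rho f) := (exists_moves f).choose_spec

theorem ker_rho : rho.ker = Subgroup.center ↥Isom := by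
  rw [center_Isom]
  ext f
  rw [MonoidHom.mem_ker, MonoidHom.mem_ker]
  constructor
  · intro h
    refine Equiv.ext fun i => line_ext fun b => ?_
    have := moves_rho f i b
    rw [h] at this
    exact this
  · intro h
    refine (moves_rho f).unique fun i b => ?_
    rw [h]
    rfl

theorem rho_gI (k : Fin 4) (b : Fin 100) : (rho (gI k) b).1 = gB k.1 b.1 := by
  have hc := gB_check
  have hp := gP_check
  simp only [List.all_eq_true, List.mem_range, Bool.and_eq_true, decide_eq_true_eq, beq_iff_eq] at hc hp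
  have e : rho (gI k) b = ⟨gB k.1 b.1, (hc k.1 k.2).1 b.1 b.2⟩ := by
    refine block_ext fun i => ?_
    obtain ⟨i, rfl⟩ := (lineHom (gI k)).surjective i
    rw [moves_rho (gI k) i b, lineHom_apply, lineFun_gI, ← hp k.1 k.2 i.1 i.2,
      (hc k.1 k.2).2 i.1 i.2 b.1 b.2]
  rw [e]

/-- The permutation group of degree one hundred. -/
noncomputable def P100 : Subgroup (Equiv.Perm (Fin 100)) := rho.range

/-- J2 is this permutation group. -/
noncomputable def equivP100 : J2 ≃* ↥P100 :=
  (QuotientGroup.congr (Subgroup.center ↥twoJ2) rho.ker toIsom (by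
    rw [ker_rho, ← comap_center_Isom]
    exact Subgroup.map_comap_eq_self_of_surjective toIsom.surjective _)).trans
    (QuotientGroup.quotientKerEquivRange rho)

theorem card_P100 : Nat.card ↥P100 = 604800 := by
  rw [← Nat.card_congr equivP100.toEquiv, card_J2]

/-- The action of a word on blocks. -/
def wB : List ℕ → ℕ → ℕ
  | [], b => b
  | k :: w, b => gB (k % 4) (wB w b)

theorem rho_gWord : ∀ (w : List ℕ) (b : Fin 100), (rho (gWord w) b).1 = wB w b.1
  | [], b => by rw [gWord, map_one]; rfl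
  | k :: w, b => by
    rw [gWord, map_mul, Equiv.Perm.mul_apply, rho_gI, rho_gWord w b]
    rfl

/-- A transversal permutation. -/
def tA (l n x : ℕ) : ℕ :=
  ((match l with
    | 0 => transArr0
    | 1 => transArr1
    | 2 => transArr2
    | _ => transArr3) >>> (700 * n + 7 * x)) &&& 127

/-- The length of an orbit of the chain. -/
def orbLen (l : ℕ) : ℕ := [100, 63, 32, 3].getD l 0

/-- The base. -/
def bpt (j : ℕ) : ℕ := [0, 1, 3, 2].getD j 0

/-- The generators of a level, as words. -/
def lvlGen (l g : ℕ) : List ℕ := (levelGens.getD l []).getD g []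

theorem trans_check : ((List.range 4).all fun l => (List.range (orbLen l)).all fun n =>
    let e := (levelTrees.getD l []).getD n (0, 0)
    if n = 0 then (List.range 100).all fun x => decide (tA l 0 x = x)
    else decide (e.1 < n) && (List.range 100).all fun x =>
      decide (tA l n x = wB (lvlGen l e.2) (tA l e.1 x))) = true := by
  decide +kernel

theorem base_check : ((List.range 4).all fun l =>
    decide (((List.range (orbLen l)).map fun n => tA l n (bpt l)).Nodup) &&
      ((List.range (orbLen l)).all fun n => (List.range l).all fun j =>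
        decide (tA l n (bpt j) = bpt j))) = true := by
  decide +kernel

theorem exists_trans (l : Fin 4) : ∀ n, n < orbLen l.1 → ∃ f : ↥Isom,
    ∀ x : Fin 100, (rho f x).1 = tA l.1 n x.1 := by
  have h := trans_check
  simp only [List.all_eq_true, List.mem_range] at h
  have hl := h l.1 l.2
  intro n
  induction n using Nat.strong_induction_on with
  | _ n ih =>
    intro hn
    have := hl n hn
    by_cases h0 : n = 0
    · subst h0
      simp only [if_pos, List.all_eq_true, List.mem_range, decide_eq_true_eq] at this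
      exact ⟨1, fun x => by rw [map_one, this x.1 x.2]; rfl⟩
    · simp only [if_neg h0, Bool.and_eq_true, List.all_eq_true, List.mem_range, decide_eq_true_eq] at this
      obtain ⟨hp, he⟩ := this
      obtain ⟨f, hf⟩ := ih _ hp (by omega)
      refine ⟨gWord (lvlGen l.1 ((levelTrees.getD l.1 []).getD n (0, 0)).2) * f, fun x => ?_⟩
      rw [map_mul, Equiv.Perm.mul_apply, rho_gWord, hf x, ← he x.1 x.2]

/-- A transversal element. -/
noncomputable def tr100 (l : Fin 4) (n : Fin (orbLen l.1)) : ↥P100 :=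
  ⟨rho (exists_trans l n.1 n.2).choose, ⟨_, rfl⟩⟩

theorem tr100_apply (l : Fin 4) (n : Fin (orbLen l.1)) (x : Fin 100) :
    ((tr100 l n).1 x).1 = tA l.1 n.1 x.1 := (exists_trans l n.1 n.2).choose_spec x

theorem tr0_apply (n : Fin 100) (x : Fin 100) : ((tr100 0 n).1 x).1 = tA 0 n.1 x.1 :=
  tr100_apply 0 n x

theorem tr1_apply (n : Fin 63) (x : Fin 100) : ((tr100 1 n).1 x).1 = tA 1 n.1 x.1 :=
  tr100_apply 1 n x

theorem tr2_apply (n : Fin 32) (x : Fin 100) : ((tr100 2 n).1 x).1 = tA 2 n.1 x.1 :=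
  tr100_apply 2 n x

theorem tr3_apply (n : Fin 3) (x : Fin 100) : ((tr100 3 n).1 x).1 = tA 3 n.1 x.1 :=
  tr100_apply 3 n x

/-- The indices of an element. -/
abbrev Idx := Fin 100 × Fin 63 × Fin 32 × Fin 3

/-- The element of four indices. -/
noncomputable def elem (e : Idx) : ↥P100 :=
  tr100 0 e.1 * (tr100 1 e.2.1 * (tr100 2 e.2.2.1 * tr100 3 e.2.2.2))

/-- The image of a point under the element of four indices. -/
def appE (a b c d x : ℕ) : ℕ := tA 0 a (tA 1 b (tA 2 c (tA 3 d x)))

theorem elem_apply (e : Idx) (x : Fin 100) :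
    ((elem e).1 x).1 = appE e.1.1 e.2.1.1 e.2.2.1.1 e.2.2.2.1 x.1 := by
  simp only [elem, appE, Subgroup.coe_mul, Equiv.Perm.mul_apply, tr0_apply, tr1_apply, tr2_apply, tr3_apply]

/-- A base point. -/
def bP (j : Fin 4) : Fin 100 := ⟨bpt j.1, by revert j; decide⟩

theorem elem_base_injective : Function.Injective fun e : Idx => fun j => (elem e).1 (bP j) := by
  have hb := base_check
  simp only [List.all_eq_true, List.mem_range, Bool.and_eq_true, decide_eq_true_eq] at hb
  have hfix : ∀ l n j, l < 4 → n < orbLen l → j < l → tA l n (bpt j) = bpt j :=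
    fun l n j hl hn hj => (hb l hl).2 n hn j hj
  have hinj : ∀ (l : Fin 4) (n m : Fin (orbLen l.1)), tA l.1 n.1 (bpt l.1) = tA l.1 m.1 (bpt l.1) →
      n = m := fun l n m e =>
    Fin.ext (List.inj_on_of_nodup_map (hb l.1 l.2).1 (List.mem_range.2 n.2) (List.mem_range.2 m.2) e)
  rintro ⟨a, b, c, d⟩ ⟨a', b', c', d'⟩ h
  have e : ∀ j : Fin 4, appE a.1 b.1 c.1 d.1 (bpt j.1) = appE a'.1 b'.1 c'.1 d'.1 (bpt j.1) := by
    intro j
    have h1 := congrArg Fin.val (congrFun h j)
    rwa [elem_apply, elem_apply] at h1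
  have e0 := e 0
  simp only [appE, show ((0 : Fin 4) : ℕ) = 0 from rfl] at e0
  rw [hfix 3 d.1 0 (by norm_num) d.2 (by norm_num), hfix 2 c.1 0 (by norm_num) c.2 (by norm_num),
    hfix 1 b.1 0 (by norm_num) b.2 (by norm_num), hfix 3 d'.1 0 (by norm_num) d'.2 (by norm_num),
    hfix 2 c'.1 0 (by norm_num) c'.2 (by norm_num), hfix 1 b'.1 0 (by norm_num) b'.2 (by norm_num)] at e0
  obtain rfl := hinj 0 a a' e0
  have cancel : ∀ x y : Fin 100, tA 0 a.1 x.1 = tA 0 a.1 y.1 → x = y := fun x y e =>
    (tr100 0 a).1.injective (Fin.ext (by rwa [tr0_apply, tr0_apply]))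
  have lt : ∀ (l : Fin 4) (n : Fin (orbLen l.1)) {x : ℕ}, x < 100 → tA l.1 n.1 x < 100 := by
    intro l n x hx
    rw [← tr100_apply l n ⟨x, hx⟩]
    exact ((tr100 l n).1 _).2
  have e1 : ∀ j : Fin 4, tA 1 b.1 (tA 2 c.1 (tA 3 d.1 (bpt j.1))) =
      tA 1 b'.1 (tA 2 c'.1 (tA 3 d'.1 (bpt j.1))) := fun j =>
    congrArg Fin.val (cancel ⟨_, lt 1 b (lt 2 c (lt 3 d (bP j).2))⟩
      ⟨_, lt 1 b' (lt 2 c' (lt 3 d' (bP j).2))⟩ (e j))
  have e11 := e1 1
  simp only [show ((1 : Fin 4) : ℕ) = 1 from rfl] at e11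
  rw [hfix 3 d.1 1 (by norm_num) d.2 (by norm_num), hfix 2 c.1 1 (by norm_num) c.2 (by norm_num),
    hfix 3 d'.1 1 (by norm_num) d'.2 (by norm_num), hfix 2 c'.1 1 (by norm_num) c'.2 (by norm_num)] at e11
  obtain rfl := hinj 1 b b' e11
  have e2 : ∀ j : Fin 4, tA 2 c.1 (tA 3 d.1 (bpt j.1)) = tA 2 c'.1 (tA 3 d'.1 (bpt j.1)) := fun j =>
    congrArg Fin.val ((tr100 1 b).1.injective (a₁ := ⟨_, lt 2 c (lt 3 d (bP j).2)⟩)
      (a₂ := ⟨_, lt 2 c' (lt 3 d' (bP j).2)⟩) (Fin.ext (by rw [tr1_apply, tr1_apply]; exact e1 j)))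
  have e22 := e2 2
  simp only [show ((2 : Fin 4) : ℕ) = 2 from rfl] at e22
  rw [hfix 3 d.1 2 (by norm_num) d.2 (by norm_num),
    hfix 3 d'.1 2 (by norm_num) d'.2 (by norm_num)] at e22
  obtain rfl := hinj 2 c c' e22
  obtain rfl := hinj 3 d d' (congrArg Fin.val ((tr100 2 c).1.injective
    (a₁ := ⟨_, lt 3 d (bP 3).2⟩) (a₂ := ⟨_, lt 3 d' (bP 3).2⟩)
    (Fin.ext (by rw [tr2_apply, tr2_apply]; exact e2 3))))
  rfl

theorem elem_bijective : Function.Bijective elem := by
  have hinj : Function.Injective elem := fun e e' h => elem_base_injective (by simp only [h])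
  refine (Nat.bijective_iff_injective_and_card elem).2 ⟨hinj, ?_⟩
  rw [card_P100]
  simp [Nat.card_eq_fintype_card]

theorem eq_of_base {g h : ↥P100} (e : ∀ j, g.1 (bP j) = h.1 (bP j)) : g = h := by
  obtain ⟨a, rfl⟩ := elem_bijective.2 g
  obtain ⟨b, rfl⟩ := elem_bijective.2 h
  rw [elem_base_injective (funext e : (fun j => (elem a).1 (bP j)) = fun j => (elem b).1 (bP j))]

end CfsgLib.Char.J2
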