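import Cfsg.Agent.Lib.Char.J2.Quat

/-!
The small icosians, the units, and the small icosians congruent to one.
-/

set_option autoImplicit false
set_option maxRecDepth 20000

namespace CfsgLib.Char.J2

/-- The icosians of trace form at most sixteen. -/
def smallD : List Qt := [
  ⟨(-2, 0), (-2, 0), (0, 0), (0, 0)⟩,
  ⟨(-2, 0), (-1, 0), (-1, 1), (0, -1)⟩,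
  ⟨(-2, 0), (-1, 0), (-1, 1), (0, 1)⟩,
  ⟨(-2, 0), (-1, 0), (1, -1), (0, -1)⟩,
  ⟨(-2, 0), (-1, 0), (1, -1), (0, 1)⟩,
  ⟨(-2, 0), (-1, 1), (0, -1), (-1, 0)⟩,
  ⟨(-2, 0), (-1, 1), (0, -1), (1, 0)⟩,
  ⟨(-2, 0), (-1, 1), (0, 1), (-1, 0)⟩,
  ⟨(-2, 0), (-1, 1), (0, 1), (1, 0)⟩,
  ⟨(-2, 0), (0, -1), (-1, 0), (-1, 1)⟩,
  ⟨(-2, 0), (0, -1), (-1, 0), (1, -1)⟩,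
  ⟨(-2, 0), (0, -1), (1, 0), (-1, 1)⟩,
  ⟨(-2, 0), (0, -1), (1, 0), (1, -1)⟩,
  ⟨(-2, 0), (0, 0), (-2, 0), (0, 0)⟩,
  ⟨(-2, 0), (0, 0), (0, 0), (-2, 0)⟩,
  ⟨(-2, 0), (0, 0), (0, 0), (0, 0)⟩,
  ⟨(-2, 0), (0, 0), (0, 0), (2, 0)⟩,
  ⟨(-2, 0), (0, 0), (2, 0), (0, 0)⟩,
  ⟨(-2, 0), (0, 1), (-1, 0), (-1, 1)⟩,
  ⟨(-2, 0), (0, 1), (-1, 0), (1, -1)⟩,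
  ⟨(-2, 0), (0, 1), (1, 0), (-1, 1)⟩,
  ⟨(-2, 0), (0, 1), (1, 0), (1, -1)⟩,
  ⟨(-2, 0), (1, -1), (0, -1), (-1, 0)⟩,
  ⟨(-2, 0), (1, -1), (0, -1), (1, 0)⟩,
  ⟨(-2, 0), (1, -1), (0, 1), (-1, 0)⟩,
  ⟨(-2, 0), (1, -1), (0, 1), (1, 0)⟩,
  ⟨(-2, 0), (1, 0), (-1, 1), (0, -1)⟩,
  ⟨(-2, 0), (1, 0), (-1, 1), (0, 1)⟩,
  ⟨(-2, 0), (1, 0), (1, -1), (0, -1)⟩,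
  ⟨(-2, 0), (1, 0), (1, -1), (0, 1)⟩,
  ⟨(-2, 0), (2, 0), (0, 0), (0, 0)⟩,
  ⟨(-2, 1), (-1, -1), (-1, 0), (0, 0)⟩,
  ⟨(-2, 1), (-1, -1), (1, 0), (0, 0)⟩,
  ⟨(-2, 1), (-1, 0), (0, 0), (-1, -1)⟩,
  ⟨(-2, 1), (-1, 0), (0, 0), (-1, 1)⟩,
  ⟨(-2, 1), (-1, 0), (0, 0), (1, -1)⟩,
  ⟨(-2, 1), (-1, 0), (0, 0), (1, 1)⟩,
  ⟨(-2, 1), (-1, 1), (-1, 0), (0, 0)⟩,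
  ⟨(-2, 1), (-1, 1), (1, 0), (0, 0)⟩,
  ⟨(-2, 1), (0, -1), (0, -1), (0, -1)⟩,
  ⟨(-2, 1), (0, -1), (0, -1), (0, 1)⟩,
  ⟨(-2, 1), (0, -1), (0, 1), (0, -1)⟩,
  ⟨(-2, 1), (0, -1), (0, 1), (0, 1)⟩,
  ⟨(-2, 1), (0, 0), (-1, -1), (-1, 0)⟩,
  ⟨(-2, 1), (0, 0), (-1, -1), (1, 0)⟩,
  ⟨(-2, 1), (0, 0), (-1, 1), (-1, 0)⟩,
  ⟨(-2, 1), (0, 0), (-1, 1), (1, 0)⟩,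
  ⟨(-2, 1), (0, 0), (1, -1), (-1, 0)⟩,
  ⟨(-2, 1), (0, 0), (1, -1), (1, 0)⟩,
  ⟨(-2, 1), (0, 0), (1, 1), (-1, 0)⟩,
  ⟨(-2, 1), (0, 0), (1, 1), (1, 0)⟩,
  ⟨(-2, 1), (0, 1), (0, -1), (0, -1)⟩,
  ⟨(-2, 1), (0, 1), (0, -1), (0, 1)⟩,
  ⟨(-2, 1), (0, 1), (0, 1), (0, -1)⟩,
  ⟨(-2, 1), (0, 1), (0, 1), (0, 1)⟩,
  ⟨(-2, 1), (1, -1), (-1, 0), (0, 0)⟩,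
  ⟨(-2, 1), (1, -1), (1, 0), (0, 0)⟩,
  ⟨(-2, 1), (1, 0), (0, 0), (-1, -1)⟩,
  ⟨(-2, 1), (1, 0), (0, 0), (-1, 1)⟩,
  ⟨(-2, 1), (1, 0), (0, 0), (1, -1)⟩,
  ⟨(-2, 1), (1, 0), (0, 0), (1, 1)⟩,
  ⟨(-2, 1), (1, 1), (-1, 0), (0, 0)⟩,
  ⟨(-2, 1), (1, 1), (1, 0), (0, 0)⟩,
  ⟨(-2, 2), (0, 0), (0, 0), (0, 0)⟩,
  ⟨(-1, -1), (-2, 1), (0, 0), (-1, 0)⟩,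
  ⟨(-1, -1), (-2, 1), (0, 0), (1, 0)⟩,
  ⟨(-1, -1), (-1, 0), (-2, 1), (0, 0)⟩,
  ⟨(-1, -1), (-1, 0), (0, -1), (0, 0)⟩,
  ⟨(-1, -1), (-1, 0), (0, 1), (0, 0)⟩,
  ⟨(-1, -1), (-1, 0), (2, -1), (0, 0)⟩,
  ⟨(-1, -1), (-1, 1), (-1, 1), (-1, 1)⟩,
  ⟨(-1, -1), (-1, 1), (-1, 1), (1, -1)⟩,
  ⟨(-1, -1), (-1, 1), (1, -1), (-1, 1)⟩,
  ⟨(-1, -1), (-1, 1), (1, -1), (1, -1)⟩,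
  ⟨(-1, -1), (0, -1), (0, 0), (-1, 0)⟩,
  ⟨(-1, -1), (0, -1), (0, 0), (1, 0)⟩,
  ⟨(-1, -1), (0, 0), (-1, 0), (-2, 1)⟩,
  ⟨(-1, -1), (0, 0), (-1, 0), (0, -1)⟩,
  ⟨(-1, -1), (0, 0), (-1, 0), (0, 1)⟩,
  ⟨(-1, -1), (0, 0), (-1, 0), (2, -1)⟩,
  ⟨(-1, -1), (0, 0), (1, 0), (-2, 1)⟩,
  ⟨(-1, -1), (0, 0), (1, 0), (0, -1)⟩,
  ⟨(-1, -1), (0, 0), (1, 0), (0, 1)⟩,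
  ⟨(-1, -1), (0, 0), (1, 0), (2, -1)⟩,
  ⟨(-1, -1), (0, 1), (0, 0), (-1, 0)⟩,
  ⟨(-1, -1), (0, 1), (0, 0), (1, 0)⟩,
  ⟨(-1, -1), (1, -1), (-1, 1), (-1, 1)⟩,
  ⟨(-1, -1), (1, -1), (-1, 1), (1, -1)⟩,
  ⟨(-1, -1), (1, -1), (1, -1), (-1, 1)⟩,
  ⟨(-1, -1), (1, -1), (1, -1), (1, -1)⟩,
  ⟨(-1, -1), (1, 0), (-2, 1), (0, 0)⟩,
  ⟨(-1, -1), (1, 0), (0, -1), (0, 0)⟩,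
  ⟨(-1, -1), (1, 0), (0, 1), (0, 0)⟩,
  ⟨(-1, -1), (1, 0), (2, -1), (0, 0)⟩,
  ⟨(-1, -1), (2, -1), (0, 0), (-1, 0)⟩,
  ⟨(-1, -1), (2, -1), (0, 0), (1, 0)⟩,
  ⟨(-1, 0), (-2, 0), (0, -1), (-1, 1)⟩,
  ⟨(-1, 0), (-2, 0), (0, -1), (1, -1)⟩,
  ⟨(-1, 0), (-2, 0), (0, 1), (-1, 1)⟩,
  ⟨(-1, 0), (-2, 0), (0, 1), (1, -1)⟩,
  ⟨(-1, 0), (-2, 1), (-1, -1), (0, 0)⟩,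
  ⟨(-1, 0), (-2, 1), (-1, 1), (0, 0)⟩,
  ⟨(-1, 0), (-2, 1), (1, -1), (0, 0)⟩,
  ⟨(-1, 0), (-2, 1), (1, 1), (0, 0)⟩,
  ⟨(-1, 0), (-1, -1), (0, 0), (-2, 1)⟩,
  ⟨(-1, 0), (-1, -1), (0, 0), (0, -1)⟩,
  ⟨(-1, 0), (-1, -1), (0, 0), (0, 1)⟩,
  ⟨(-1, 0), (-1, -1), (0, 0), (2, -1)⟩,
  ⟨(-1, 0), (-1, 0), (-1, 0), (-1, 0)⟩,
  ⟨(-1, 0), (-1, 0), (-1, 0), (-1, 2)⟩,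
  ⟨(-1, 0), (-1, 0), (-1, 0), (1, -2)⟩,
  ⟨(-1, 0), (-1, 0), (-1, 0), (1, 0)⟩,
  ⟨(-1, 0), (-1, 0), (-1, 2), (-1, 0)⟩,
  ⟨(-1, 0), (-1, 0), (-1, 2), (1, 0)⟩,
  ⟨(-1, 0), (-1, 0), (1, -2), (-1, 0)⟩,
  ⟨(-1, 0), (-1, 0), (1, -2), (1, 0)⟩,
  ⟨(-1, 0), (-1, 0), (1, 0), (-1, 0)⟩,
  ⟨(-1, 0), (-1, 0), (1, 0), (-1, 2)⟩,
  ⟨(-1, 0), (-1, 0), (1, 0), (1, -2)⟩,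
  ⟨(-1, 0), (-1, 0), (1, 0), (1, 0)⟩,
  ⟨(-1, 0), (-1, 1), (-2, 0), (0, -1)⟩,
  ⟨(-1, 0), (-1, 1), (-2, 0), (0, 1)⟩,
  ⟨(-1, 0), (-1, 1), (0, 0), (-2, 1)⟩,
  ⟨(-1, 0), (-1, 1), (0, 0), (0, -1)⟩,
  ⟨(-1, 0), (-1, 1), (0, 0), (0, 1)⟩,
  ⟨(-1, 0), (-1, 1), (0, 0), (2, -1)⟩,
  ⟨(-1, 0), (-1, 1), (2, 0), (0, -1)⟩,
  ⟨(-1, 0), (-1, 1), (2, 0), (0, 1)⟩,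
  ⟨(-1, 0), (-1, 2), (-1, 0), (-1, 0)⟩,
  ⟨(-1, 0), (-1, 2), (-1, 0), (1, 0)⟩,
  ⟨(-1, 0), (-1, 2), (1, 0), (-1, 0)⟩,
  ⟨(-1, 0), (-1, 2), (1, 0), (1, 0)⟩,
  ⟨(-1, 0), (0, -1), (-1, -1), (0, 0)⟩,
  ⟨(-1, 0), (0, -1), (-1, 1), (-2, 0)⟩,
  ⟨(-1, 0), (0, -1), (-1, 1), (0, 0)⟩,
  ⟨(-1, 0), (0, -1), (-1, 1), (2, 0)⟩,
  ⟨(-1, 0), (0, -1), (1, -1), (-2, 0)⟩,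
  ⟨(-1, 0), (0, -1), (1, -1), (0, 0)⟩,
  ⟨(-1, 0), (0, -1), (1, -1), (2, 0)⟩,
  ⟨(-1, 0), (0, -1), (1, 1), (0, 0)⟩,
  ⟨(-1, 0), (0, 0), (-2, 1), (-1, -1)⟩,
  ⟨(-1, 0), (0, 0), (-2, 1), (-1, 1)⟩,
  ⟨(-1, 0), (0, 0), (-2, 1), (1, -1)⟩,
  ⟨(-1, 0), (0, 0), (-2, 1), (1, 1)⟩,
  ⟨(-1, 0), (0, 0), (0, -1), (-1, -1)⟩,
  ⟨(-1, 0), (0, 0), (0, -1), (-1, 1)⟩,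
  ⟨(-1, 0), (0, 0), (0, -1), (1, -1)⟩,
  ⟨(-1, 0), (0, 0), (0, -1), (1, 1)⟩,
  ⟨(-1, 0), (0, 0), (0, 1), (-1, -1)⟩,
  ⟨(-1, 0), (0, 0), (0, 1), (-1, 1)⟩,
  ⟨(-1, 0), (0, 0), (0, 1), (1, -1)⟩,
  ⟨(-1, 0), (0, 0), (0, 1), (1, 1)⟩,
  ⟨(-1, 0), (0, 0), (2, -1), (-1, -1)⟩,
  ⟨(-1, 0), (0, 0), (2, -1), (-1, 1)⟩,
  ⟨(-1, 0), (0, 0), (2, -1), (1, -1)⟩,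
  ⟨(-1, 0), (0, 0), (2, -1), (1, 1)⟩,
  ⟨(-1, 0), (0, 1), (-1, -1), (0, 0)⟩,
  ⟨(-1, 0), (0, 1), (-1, 1), (-2, 0)⟩,
  ⟨(-1, 0), (0, 1), (-1, 1), (0, 0)⟩,
  ⟨(-1, 0), (0, 1), (-1, 1), (2, 0)⟩,
  ⟨(-1, 0), (0, 1), (1, -1), (-2, 0)⟩,
  ⟨(-1, 0), (0, 1), (1, -1), (0, 0)⟩,
  ⟨(-1, 0), (0, 1), (1, -1), (2, 0)⟩,
  ⟨(-1, 0), (0, 1), (1, 1), (0, 0)⟩,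
  ⟨(-1, 0), (1, -2), (-1, 0), (-1, 0)⟩,
  ⟨(-1, 0), (1, -2), (-1, 0), (1, 0)⟩,
  ⟨(-1, 0), (1, -2), (1, 0), (-1, 0)⟩,
  ⟨(-1, 0), (1, -2), (1, 0), (1, 0)⟩,
  ⟨(-1, 0), (1, -1), (-2, 0), (0, -1)⟩,
  ⟨(-1, 0), (1, -1), (-2, 0), (0, 1)⟩,
  ⟨(-1, 0), (1, -1), (0, 0), (-2, 1)⟩,
  ⟨(-1, 0), (1, -1), (0, 0), (0, -1)⟩,
  ⟨(-1, 0), (1, -1), (0, 0), (0, 1)⟩,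
  ⟨(-1, 0), (1, -1), (0, 0), (2, -1)⟩,
  ⟨(-1, 0), (1, -1), (2, 0), (0, -1)⟩,
  ⟨(-1, 0), (1, -1), (2, 0), (0, 1)⟩,
  ⟨(-1, 0), (1, 0), (-1, 0), (-1, 0)⟩,
  ⟨(-1, 0), (1, 0), (-1, 0), (-1, 2)⟩,
  ⟨(-1, 0), (1, 0), (-1, 0), (1, -2)⟩,
  ⟨(-1, 0), (1, 0), (-1, 0), (1, 0)⟩,
  ⟨(-1, 0), (1, 0), (-1, 2), (-1, 0)⟩,
  ⟨(-1, 0), (1, 0), (-1, 2), (1, 0)⟩,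
  ⟨(-1, 0), (1, 0), (1, -2), (-1, 0)⟩,
  ⟨(-1, 0), (1, 0), (1, -2), (1, 0)⟩,
  ⟨(-1, 0), (1, 0), (1, 0), (-1, 0)⟩,
  ⟨(-1, 0), (1, 0), (1, 0), (-1, 2)⟩,
  ⟨(-1, 0), (1, 0), (1, 0), (1, -2)⟩,
  ⟨(-1, 0), (1, 0), (1, 0), (1, 0)⟩,
  ⟨(-1, 0), (1, 1), (0, 0), (-2, 1)⟩,
  ⟨(-1, 0), (1, 1), (0, 0), (0, -1)⟩,
  ⟨(-1, 0), (1, 1), (0, 0), (0, 1)⟩,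
  ⟨(-1, 0), (1, 1), (0, 0), (2, -1)⟩,
  ⟨(-1, 0), (2, -1), (-1, -1), (0, 0)⟩,
  ⟨(-1, 0), (2, -1), (-1, 1), (0, 0)⟩,
  ⟨(-1, 0), (2, -1), (1, -1), (0, 0)⟩,
  ⟨(-1, 0), (2, -1), (1, 1), (0, 0)⟩,
  ⟨(-1, 0), (2, 0), (0, -1), (-1, 1)⟩,
  ⟨(-1, 0), (2, 0), (0, -1), (1, -1)⟩,
  ⟨(-1, 0), (2, 0), (0, 1), (-1, 1)⟩,
  ⟨(-1, 0), (2, 0), (0, 1), (1, -1)⟩,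
  ⟨(-1, 1), (-2, 0), (-1, 0), (0, -1)⟩,
  ⟨(-1, 1), (-2, 0), (-1, 0), (0, 1)⟩,
  ⟨(-1, 1), (-2, 0), (1, 0), (0, -1)⟩,
  ⟨(-1, 1), (-2, 0), (1, 0), (0, 1)⟩,
  ⟨(-1, 1), (-2, 1), (0, 0), (-1, 0)⟩,
  ⟨(-1, 1), (-2, 1), (0, 0), (1, 0)⟩,
  ⟨(-1, 1), (-1, -1), (-1, 1), (-1, 1)⟩,
  ⟨(-1, 1), (-1, -1), (-1, 1), (1, -1)⟩,
  ⟨(-1, 1), (-1, -1), (1, -1), (-1, 1)⟩,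
  ⟨(-1, 1), (-1, -1), (1, -1), (1, -1)⟩,
  ⟨(-1, 1), (-1, 0), (-2, 1), (0, 0)⟩,
  ⟨(-1, 1), (-1, 0), (0, -1), (-2, 0)⟩,
  ⟨(-1, 1), (-1, 0), (0, -1), (0, 0)⟩,
  ⟨(-1, 1), (-1, 0), (0, -1), (2, 0)⟩,
  ⟨(-1, 1), (-1, 0), (0, 1), (-2, 0)⟩,
  ⟨(-1, 1), (-1, 0), (0, 1), (0, 0)⟩,
  ⟨(-1, 1), (-1, 0), (0, 1), (2, 0)⟩,
  ⟨(-1, 1), (-1, 0), (2, -1), (0, 0)⟩,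
  ⟨(-1, 1), (-1, 1), (-1, -1), (-1, 1)⟩,
  ⟨(-1, 1), (-1, 1), (-1, -1), (1, -1)⟩,
  ⟨(-1, 1), (-1, 1), (-1, 1), (-1, -1)⟩,
  ⟨(-1, 1), (-1, 1), (-1, 1), (-1, 1)⟩,
  ⟨(-1, 1), (-1, 1), (-1, 1), (1, -1)⟩,
  ⟨(-1, 1), (-1, 1), (-1, 1), (1, 1)⟩,
  ⟨(-1, 1), (-1, 1), (1, -1), (-1, -1)⟩,
  ⟨(-1, 1), (-1, 1), (1, -1), (-1, 1)⟩,
  ⟨(-1, 1), (-1, 1), (1, -1), (1, -1)⟩,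
  ⟨(-1, 1), (-1, 1), (1, -1), (1, 1)⟩,
  ⟨(-1, 1), (-1, 1), (1, 1), (-1, 1)⟩,
  ⟨(-1, 1), (-1, 1), (1, 1), (1, -1)⟩,
  ⟨(-1, 1), (-1, 2), (0, -1), (0, 0)⟩,
  ⟨(-1, 1), (-1, 2), (0, 1), (0, 0)⟩,
  ⟨(-1, 1), (0, -1), (-2, 0), (-1, 0)⟩,
  ⟨(-1, 1), (0, -1), (-2, 0), (1, 0)⟩,
  ⟨(-1, 1), (0, -1), (0, 0), (-1, 0)⟩,
  ⟨(-1, 1), (0, -1), (0, 0), (-1, 2)⟩,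
  ⟨(-1, 1), (0, -1), (0, 0), (1, -2)⟩,
  ⟨(-1, 1), (0, -1), (0, 0), (1, 0)⟩,
  ⟨(-1, 1), (0, -1), (2, 0), (-1, 0)⟩,
  ⟨(-1, 1), (0, -1), (2, 0), (1, 0)⟩,
  ⟨(-1, 1), (0, 0), (-1, 0), (-2, 1)⟩,
  ⟨(-1, 1), (0, 0), (-1, 0), (0, -1)⟩,
  ⟨(-1, 1), (0, 0), (-1, 0), (0, 1)⟩,
  ⟨(-1, 1), (0, 0), (-1, 0), (2, -1)⟩,
  ⟨(-1, 1), (0, 0), (-1, 2), (0, -1)⟩,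
  ⟨(-1, 1), (0, 0), (-1, 2), (0, 1)⟩,
  ⟨(-1, 1), (0, 0), (1, -2), (0, -1)⟩,
  ⟨(-1, 1), (0, 0), (1, -2), (0, 1)⟩,
  ⟨(-1, 1), (0, 0), (1, 0), (-2, 1)⟩,
  ⟨(-1, 1), (0, 0), (1, 0), (0, -1)⟩,
  ⟨(-1, 1), (0, 0), (1, 0), (0, 1)⟩,
  ⟨(-1, 1), (0, 0), (1, 0), (2, -1)⟩,
  ⟨(-1, 1), (0, 1), (-2, 0), (-1, 0)⟩,
  ⟨(-1, 1), (0, 1), (-2, 0), (1, 0)⟩,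
  ⟨(-1, 1), (0, 1), (0, 0), (-1, 0)⟩,
  ⟨(-1, 1), (0, 1), (0, 0), (-1, 2)⟩,
  ⟨(-1, 1), (0, 1), (0, 0), (1, -2)⟩,
  ⟨(-1, 1), (0, 1), (0, 0), (1, 0)⟩,
  ⟨(-1, 1), (0, 1), (2, 0), (-1, 0)⟩,
  ⟨(-1, 1), (0, 1), (2, 0), (1, 0)⟩,
  ⟨(-1, 1), (1, -2), (0, -1), (0, 0)⟩,
  ⟨(-1, 1), (1, -2), (0, 1), (0, 0)⟩,
  ⟨(-1, 1), (1, -1), (-1, -1), (-1, 1)⟩,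
  ⟨(-1, 1), (1, -1), (-1, -1), (1, -1)⟩,
  ⟨(-1, 1), (1, -1), (-1, 1), (-1, -1)⟩,
  ⟨(-1, 1), (1, -1), (-1, 1), (-1, 1)⟩,
  ⟨(-1, 1), (1, -1), (-1, 1), (1, -1)⟩,
  ⟨(-1, 1), (1, -1), (-1, 1), (1, 1)⟩,
  ⟨(-1, 1), (1, -1), (1, -1), (-1, -1)⟩,
  ⟨(-1, 1), (1, -1), (1, -1), (-1, 1)⟩,
  ⟨(-1, 1), (1, -1), (1, -1), (1, -1)⟩,
  ⟨(-1, 1), (1, -1), (1, -1), (1, 1)⟩,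
  ⟨(-1, 1), (1, -1), (1, 1), (-1, 1)⟩,
  ⟨(-1, 1), (1, -1), (1, 1), (1, -1)⟩,
  ⟨(-1, 1), (1, 0), (-2, 1), (0, 0)⟩,
  ⟨(-1, 1), (1, 0), (0, -1), (-2, 0)⟩,
  ⟨(-1, 1), (1, 0), (0, -1), (0, 0)⟩,
  ⟨(-1, 1), (1, 0), (0, -1), (2, 0)⟩,
  ⟨(-1, 1), (1, 0), (0, 1), (-2, 0)⟩,
  ⟨(-1, 1), (1, 0), (0, 1), (0, 0)⟩,
  ⟨(-1, 1), (1, 0), (0, 1), (2, 0)⟩,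
  ⟨(-1, 1), (1, 0), (2, -1), (0, 0)⟩,
  ⟨(-1, 1), (1, 1), (-1, 1), (-1, 1)⟩,
  ⟨(-1, 1), (1, 1), (-1, 1), (1, -1)⟩,
  ⟨(-1, 1), (1, 1), (1, -1), (-1, 1)⟩,
  ⟨(-1, 1), (1, 1), (1, -1), (1, -1)⟩,
  ⟨(-1, 1), (2, -1), (0, 0), (-1, 0)⟩,
  ⟨(-1, 1), (2, -1), (0, 0), (1, 0)⟩,
  ⟨(-1, 1), (2, 0), (-1, 0), (0, -1)⟩,
  ⟨(-1, 1), (2, 0), (-1, 0), (0, 1)⟩,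
  ⟨(-1, 1), (2, 0), (1, 0), (0, -1)⟩,
  ⟨(-1, 1), (2, 0), (1, 0), (0, 1)⟩,
  ⟨(-1, 2), (-1, 0), (-1, 0), (-1, 0)⟩,
  ⟨(-1, 2), (-1, 0), (-1, 0), (1, 0)⟩,
  ⟨(-1, 2), (-1, 0), (1, 0), (-1, 0)⟩,
  ⟨(-1, 2), (-1, 0), (1, 0), (1, 0)⟩,
  ⟨(-1, 2), (-1, 1), (0, 0), (0, -1)⟩,
  ⟨(-1, 2), (-1, 1), (0, 0), (0, 1)⟩,
  ⟨(-1, 2), (0, -1), (-1, 1), (0, 0)⟩,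
  ⟨(-1, 2), (0, -1), (1, -1), (0, 0)⟩,
  ⟨(-1, 2), (0, 0), (0, -1), (-1, 1)⟩,
  ⟨(-1, 2), (0, 0), (0, -1), (1, -1)⟩,
  ⟨(-1, 2), (0, 0), (0, 1), (-1, 1)⟩,
  ⟨(-1, 2), (0, 0), (0, 1), (1, -1)⟩,
  ⟨(-1, 2), (0, 1), (-1, 1), (0, 0)⟩,
  ⟨(-1, 2), (0, 1), (1, -1), (0, 0)⟩,
  ⟨(-1, 2), (1, -1), (0, 0), (0, -1)⟩,
  ⟨(-1, 2), (1, -1), (0, 0), (0, 1)⟩,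
  ⟨(-1, 2), (1, 0), (-1, 0), (-1, 0)⟩,
  ⟨(-1, 2), (1, 0), (-1, 0), (1, 0)⟩,
  ⟨(-1, 2), (1, 0), (1, 0), (-1, 0)⟩,
  ⟨(-1, 2), (1, 0), (1, 0), (1, 0)⟩,
  ⟨(0, -2), (0, 0), (0, 0), (0, 0)⟩,
  ⟨(0, -1), (-2, 0), (-1, 1), (-1, 0)⟩,
  ⟨(0, -1), (-2, 0), (-1, 1), (1, 0)⟩,
  ⟨(0, -1), (-2, 0), (1, -1), (-1, 0)⟩,
  ⟨(0, -1), (-2, 0), (1, -1), (1, 0)⟩,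
  ⟨(0, -1), (-2, 1), (0, -1), (0, -1)⟩,
  ⟨(0, -1), (-2, 1), (0, -1), (0, 1)⟩,
  ⟨(0, -1), (-2, 1), (0, 1), (0, -1)⟩,
  ⟨(0, -1), (-2, 1), (0, 1), (0, 1)⟩,
  ⟨(0, -1), (-1, -1), (-1, 0), (0, 0)⟩,
  ⟨(0, -1), (-1, -1), (1, 0), (0, 0)⟩,
  ⟨(0, -1), (-1, 0), (-2, 0), (-1, 1)⟩,
  ⟨(0, -1), (-1, 0), (-2, 0), (1, -1)⟩,
  ⟨(0, -1), (-1, 0), (0, 0), (-1, -1)⟩,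
  ⟨(0, -1), (-1, 0), (0, 0), (-1, 1)⟩,
  ⟨(0, -1), (-1, 0), (0, 0), (1, -1)⟩,
  ⟨(0, -1), (-1, 0), (0, 0), (1, 1)⟩,
  ⟨(0, -1), (-1, 0), (2, 0), (-1, 1)⟩,
  ⟨(0, -1), (-1, 0), (2, 0), (1, -1)⟩,
  ⟨(0, -1), (-1, 1), (-1, 0), (-2, 0)⟩,
  ⟨(0, -1), (-1, 1), (-1, 0), (0, 0)⟩,
  ⟨(0, -1), (-1, 1), (-1, 0), (2, 0)⟩,
  ⟨(0, -1), (-1, 1), (-1, 2), (0, 0)⟩,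
  ⟨(0, -1), (-1, 1), (1, -2), (0, 0)⟩,
  ⟨(0, -1), (-1, 1), (1, 0), (-2, 0)⟩,
  ⟨(0, -1), (-1, 1), (1, 0), (0, 0)⟩,
  ⟨(0, -1), (-1, 1), (1, 0), (2, 0)⟩,
  ⟨(0, -1), (-1, 2), (0, 0), (-1, 1)⟩,
  ⟨(0, -1), (-1, 2), (0, 0), (1, -1)⟩,
  ⟨(0, -1), (0, -1), (-2, 1), (0, -1)⟩,
  ⟨(0, -1), (0, -1), (-2, 1), (0, 1)⟩,
  ⟨(0, -1), (0, -1), (0, -1), (-2, 1)⟩,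
  ⟨(0, -1), (0, -1), (0, -1), (0, -1)⟩,
  ⟨(0, -1), (0, -1), (0, -1), (0, 1)⟩,
  ⟨(0, -1), (0, -1), (0, -1), (2, -1)⟩,
  ⟨(0, -1), (0, -1), (0, 1), (-2, 1)⟩,
  ⟨(0, -1), (0, -1), (0, 1), (0, -1)⟩,
  ⟨(0, -1), (0, -1), (0, 1), (0, 1)⟩,
  ⟨(0, -1), (0, -1), (0, 1), (2, -1)⟩,
  ⟨(0, -1), (0, -1), (2, -1), (0, -1)⟩,
  ⟨(0, -1), (0, -1), (2, -1), (0, 1)⟩,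
  ⟨(0, -1), (0, 0), (-1, -1), (-1, 0)⟩,
  ⟨(0, -1), (0, 0), (-1, -1), (1, 0)⟩,
  ⟨(0, -1), (0, 0), (-1, 1), (-1, 0)⟩,
  ⟨(0, -1), (0, 0), (-1, 1), (-1, 2)⟩,
  ⟨(0, -1), (0, 0), (-1, 1), (1, -2)⟩,
  ⟨(0, -1), (0, 0), (-1, 1), (1, 0)⟩,
  ⟨(0, -1), (0, 0), (1, -1), (-1, 0)⟩,
  ⟨(0, -1), (0, 0), (1, -1), (-1, 2)⟩,
  ⟨(0, -1), (0, 0), (1, -1), (1, -2)⟩,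
  ⟨(0, -1), (0, 0), (1, -1), (1, 0)⟩,
  ⟨(0, -1), (0, 0), (1, 1), (-1, 0)⟩,
  ⟨(0, -1), (0, 0), (1, 1), (1, 0)⟩,
  ⟨(0, -1), (0, 1), (-2, 1), (0, -1)⟩,
  ⟨(0, -1), (0, 1), (-2, 1), (0, 1)⟩,
  ⟨(0, -1), (0, 1), (0, -1), (-2, 1)⟩,
  ⟨(0, -1), (0, 1), (0, -1), (0, -1)⟩,
  ⟨(0, -1), (0, 1), (0, -1), (0, 1)⟩,
  ⟨(0, -1), (0, 1), (0, -1), (2, -1)⟩,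
  ⟨(0, -1), (0, 1), (0, 1), (-2, 1)⟩,
  ⟨(0, -1), (0, 1), (0, 1), (0, -1)⟩,
  ⟨(0, -1), (0, 1), (0, 1), (0, 1)⟩,
  ⟨(0, -1), (0, 1), (0, 1), (2, -1)⟩,
  ⟨(0, -1), (0, 1), (2, -1), (0, -1)⟩,
  ⟨(0, -1), (0, 1), (2, -1), (0, 1)⟩,
  ⟨(0, -1), (1, -2), (0, 0), (-1, 1)⟩,
  ⟨(0, -1), (1, -2), (0, 0), (1, -1)⟩,
  ⟨(0, -1), (1, -1), (-1, 0), (-2, 0)⟩,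
  ⟨(0, -1), (1, -1), (-1, 0), (0, 0)⟩,
  ⟨(0, -1), (1, -1), (-1, 0), (2, 0)⟩,
  ⟨(0, -1), (1, -1), (-1, 2), (0, 0)⟩,
  ⟨(0, -1), (1, -1), (1, -2), (0, 0)⟩,
  ⟨(0, -1), (1, -1), (1, 0), (-2, 0)⟩,
  ⟨(0, -1), (1, -1), (1, 0), (0, 0)⟩,
  ⟨(0, -1), (1, -1), (1, 0), (2, 0)⟩,
  ⟨(0, -1), (1, 0), (-2, 0), (-1, 1)⟩,
  ⟨(0, -1), (1, 0), (-2, 0), (1, -1)⟩,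
  ⟨(0, -1), (1, 0), (0, 0), (-1, -1)⟩,
  ⟨(0, -1), (1, 0), (0, 0), (-1, 1)⟩,
  ⟨(0, -1), (1, 0), (0, 0), (1, -1)⟩,
  ⟨(0, -1), (1, 0), (0, 0), (1, 1)⟩,
  ⟨(0, -1), (1, 0), (2, 0), (-1, 1)⟩,
  ⟨(0, -1), (1, 0), (2, 0), (1, -1)⟩,
  ⟨(0, -1), (1, 1), (-1, 0), (0, 0)⟩,
  ⟨(0, -1), (1, 1), (1, 0), (0, 0)⟩,
  ⟨(0, -1), (2, -1), (0, -1), (0, -1)⟩,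
  ⟨(0, -1), (2, -1), (0, -1), (0, 1)⟩,
  ⟨(0, -1), (2, -1), (0, 1), (0, -1)⟩,
  ⟨(0, -1), (2, -1), (0, 1), (0, 1)⟩,
  ⟨(0, -1), (2, 0), (-1, 1), (-1, 0)⟩,
  ⟨(0, -1), (2, 0), (-1, 1), (1, 0)⟩,
  ⟨(0, -1), (2, 0), (1, -1), (-1, 0)⟩,
  ⟨(0, -1), (2, 0), (1, -1), (1, 0)⟩,
  ⟨(0, 0), (-2, 0), (-2, 0), (0, 0)⟩,
  ⟨(0, 0), (-2, 0), (0, 0), (-2, 0)⟩,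
  ⟨(0, 0), (-2, 0), (0, 0), (0, 0)⟩,
  ⟨(0, 0), (-2, 0), (0, 0), (2, 0)⟩,
  ⟨(0, 0), (-2, 0), (2, 0), (0, 0)⟩,
  ⟨(0, 0), (-2, 1), (-1, 0), (-1, -1)⟩,
  ⟨(0, 0), (-2, 1), (-1, 0), (-1, 1)⟩,
  ⟨(0, 0), (-2, 1), (-1, 0), (1, -1)⟩,
  ⟨(0, 0), (-2, 1), (-1, 0), (1, 1)⟩,
  ⟨(0, 0), (-2, 1), (1, 0), (-1, -1)⟩,
  ⟨(0, 0), (-2, 1), (1, 0), (-1, 1)⟩,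
  ⟨(0, 0), (-2, 1), (1, 0), (1, -1)⟩,
  ⟨(0, 0), (-2, 1), (1, 0), (1, 1)⟩,
  ⟨(0, 0), (-2, 2), (0, 0), (0, 0)⟩,
  ⟨(0, 0), (-1, -1), (-2, 1), (-1, 0)⟩,
  ⟨(0, 0), (-1, -1), (-2, 1), (1, 0)⟩,
  ⟨(0, 0), (-1, -1), (0, -1), (-1, 0)⟩,
  ⟨(0, 0), (-1, -1), (0, -1), (1, 0)⟩,
  ⟨(0, 0), (-1, -1), (0, 1), (-1, 0)⟩,
  ⟨(0, 0), (-1, -1), (0, 1), (1, 0)⟩,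
  ⟨(0, 0), (-1, -1), (2, -1), (-1, 0)⟩,
  ⟨(0, 0), (-1, -1), (2, -1), (1, 0)⟩,
  ⟨(0, 0), (-1, 0), (-1, -1), (-2, 1)⟩,
  ⟨(0, 0), (-1, 0), (-1, -1), (0, -1)⟩,
  ⟨(0, 0), (-1, 0), (-1, -1), (0, 1)⟩,
  ⟨(0, 0), (-1, 0), (-1, -1), (2, -1)⟩,
  ⟨(0, 0), (-1, 0), (-1, 1), (-2, 1)⟩,
  ⟨(0, 0), (-1, 0), (-1, 1), (0, -1)⟩,
  ⟨(0, 0), (-1, 0), (-1, 1), (0, 1)⟩,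
  ⟨(0, 0), (-1, 0), (-1, 1), (2, -1)⟩,
  ⟨(0, 0), (-1, 0), (1, -1), (-2, 1)⟩,
  ⟨(0, 0), (-1, 0), (1, -1), (0, -1)⟩,
  ⟨(0, 0), (-1, 0), (1, -1), (0, 1)⟩,
  ⟨(0, 0), (-1, 0), (1, -1), (2, -1)⟩,
  ⟨(0, 0), (-1, 0), (1, 1), (-2, 1)⟩,
  ⟨(0, 0), (-1, 0), (1, 1), (0, -1)⟩,
  ⟨(0, 0), (-1, 0), (1, 1), (0, 1)⟩,
  ⟨(0, 0), (-1, 0), (1, 1), (2, -1)⟩,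
  ⟨(0, 0), (-1, 1), (-2, 1), (-1, 0)⟩,
  ⟨(0, 0), (-1, 1), (-2, 1), (1, 0)⟩,
  ⟨(0, 0), (-1, 1), (0, -1), (-1, 0)⟩,
  ⟨(0, 0), (-1, 1), (0, -1), (-1, 2)⟩,
  ⟨(0, 0), (-1, 1), (0, -1), (1, -2)⟩,
  ⟨(0, 0), (-1, 1), (0, -1), (1, 0)⟩,
  ⟨(0, 0), (-1, 1), (0, 1), (-1, 0)⟩,
  ⟨(0, 0), (-1, 1), (0, 1), (-1, 2)⟩,
  ⟨(0, 0), (-1, 1), (0, 1), (1, -2)⟩,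
  ⟨(0, 0), (-1, 1), (0, 1), (1, 0)⟩,
  ⟨(0, 0), (-1, 1), (2, -1), (-1, 0)⟩,
  ⟨(0, 0), (-1, 1), (2, -1), (1, 0)⟩,
  ⟨(0, 0), (-1, 2), (-1, 1), (0, -1)⟩,
  ⟨(0, 0), (-1, 2), (-1, 1), (0, 1)⟩,
  ⟨(0, 0), (-1, 2), (1, -1), (0, -1)⟩,
  ⟨(0, 0), (-1, 2), (1, -1), (0, 1)⟩,
  ⟨(0, 0), (0, -2), (0, 0), (0, 0)⟩,
  ⟨(0, 0), (0, -1), (-1, 0), (-1, -1)⟩,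
  ⟨(0, 0), (0, -1), (-1, 0), (-1, 1)⟩,
  ⟨(0, 0), (0, -1), (-1, 0), (1, -1)⟩,
  ⟨(0, 0), (0, -1), (-1, 0), (1, 1)⟩,
  ⟨(0, 0), (0, -1), (-1, 2), (-1, 1)⟩,
  ⟨(0, 0), (0, -1), (-1, 2), (1, -1)⟩,
  ⟨(0, 0), (0, -1), (1, -2), (-1, 1)⟩,
  ⟨(0, 0), (0, -1), (1, -2), (1, -1)⟩,
  ⟨(0, 0), (0, -1), (1, 0), (-1, -1)⟩,
  ⟨(0, 0), (0, -1), (1, 0), (-1, 1)⟩,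
  ⟨(0, 0), (0, -1), (1, 0), (1, -1)⟩,
  ⟨(0, 0), (0, -1), (1, 0), (1, 1)⟩,
  ⟨(0, 0), (0, 0), (-2, 0), (-2, 0)⟩,
  ⟨(0, 0), (0, 0), (-2, 0), (0, 0)⟩,
  ⟨(0, 0), (0, 0), (-2, 0), (2, 0)⟩,
  ⟨(0, 0), (0, 0), (-2, 2), (0, 0)⟩,
  ⟨(0, 0), (0, 0), (0, -2), (0, 0)⟩,
  ⟨(0, 0), (0, 0), (0, 0), (-2, 0)⟩,
  ⟨(0, 0), (0, 0), (0, 0), (-2, 2)⟩,
  ⟨(0, 0), (0, 0), (0, 0), (0, -2)⟩,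
  ⟨(0, 0), (0, 0), (0, 0), (0, 0)⟩,
  ⟨(0, 0), (0, 0), (0, 0), (0, 2)⟩,
  ⟨(0, 0), (0, 0), (0, 0), (2, -2)⟩,
  ⟨(0, 0), (0, 0), (0, 0), (2, 0)⟩,
  ⟨(0, 0), (0, 0), (0, 2), (0, 0)⟩,
  ⟨(0, 0), (0, 0), (2, -2), (0, 0)⟩,
  ⟨(0, 0), (0, 0), (2, 0), (-2, 0)⟩,
  ⟨(0, 0), (0, 0), (2, 0), (0, 0)⟩,
  ⟨(0, 0), (0, 0), (2, 0), (2, 0)⟩,
  ⟨(0, 0), (0, 1), (-1, 0), (-1, -1)⟩,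
  ⟨(0, 0), (0, 1), (-1, 0), (-1, 1)⟩,
  ⟨(0, 0), (0, 1), (-1, 0), (1, -1)⟩,
  ⟨(0, 0), (0, 1), (-1, 0), (1, 1)⟩,
  ⟨(0, 0), (0, 1), (-1, 2), (-1, 1)⟩,
  ⟨(0, 0), (0, 1), (-1, 2), (1, -1)⟩,
  ⟨(0, 0), (0, 1), (1, -2), (-1, 1)⟩,
  ⟨(0, 0), (0, 1), (1, -2), (1, -1)⟩,
  ⟨(0, 0), (0, 1), (1, 0), (-1, -1)⟩,
  ⟨(0, 0), (0, 1), (1, 0), (-1, 1)⟩,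
  ⟨(0, 0), (0, 1), (1, 0), (1, -1)⟩,
  ⟨(0, 0), (0, 1), (1, 0), (1, 1)⟩,
  ⟨(0, 0), (0, 2), (0, 0), (0, 0)⟩,
  ⟨(0, 0), (1, -2), (-1, 1), (0, -1)⟩,
  ⟨(0, 0), (1, -2), (-1, 1), (0, 1)⟩,
  ⟨(0, 0), (1, -2), (1, -1), (0, -1)⟩,
  ⟨(0, 0), (1, -2), (1, -1), (0, 1)⟩,
  ⟨(0, 0), (1, -1), (-2, 1), (-1, 0)⟩,
  ⟨(0, 0), (1, -1), (-2, 1), (1, 0)⟩,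
  ⟨(0, 0), (1, -1), (0, -1), (-1, 0)⟩,
  ⟨(0, 0), (1, -1), (0, -1), (-1, 2)⟩,
  ⟨(0, 0), (1, -1), (0, -1), (1, -2)⟩,
  ⟨(0, 0), (1, -1), (0, -1), (1, 0)⟩,
  ⟨(0, 0), (1, -1), (0, 1), (-1, 0)⟩,
  ⟨(0, 0), (1, -1), (0, 1), (-1, 2)⟩,
  ⟨(0, 0), (1, -1), (0, 1), (1, -2)⟩,
  ⟨(0, 0), (1, -1), (0, 1), (1, 0)⟩,
  ⟨(0, 0), (1, -1), (2, -1), (-1, 0)⟩,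
  ⟨(0, 0), (1, -1), (2, -1), (1, 0)⟩,
  ⟨(0, 0), (1, 0), (-1, -1), (-2, 1)⟩,
  ⟨(0, 0), (1, 0), (-1, -1), (0, -1)⟩,
  ⟨(0, 0), (1, 0), (-1, -1), (0, 1)⟩,
  ⟨(0, 0), (1, 0), (-1, -1), (2, -1)⟩,
  ⟨(0, 0), (1, 0), (-1, 1), (-2, 1)⟩,
  ⟨(0, 0), (1, 0), (-1, 1), (0, -1)⟩,
  ⟨(0, 0), (1, 0), (-1, 1), (0, 1)⟩,
  ⟨(0, 0), (1, 0), (-1, 1), (2, -1)⟩,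
  ⟨(0, 0), (1, 0), (1, -1), (-2, 1)⟩,
  ⟨(0, 0), (1, 0), (1, -1), (0, -1)⟩,
  ⟨(0, 0), (1, 0), (1, -1), (0, 1)⟩,
  ⟨(0, 0), (1, 0), (1, -1), (2, -1)⟩,
  ⟨(0, 0), (1, 0), (1, 1), (-2, 1)⟩,
  ⟨(0, 0), (1, 0), (1, 1), (0, -1)⟩,
  ⟨(0, 0), (1, 0), (1, 1), (0, 1)⟩,
  ⟨(0, 0), (1, 0), (1, 1), (2, -1)⟩,
  ⟨(0, 0), (1, 1), (-2, 1), (-1, 0)⟩,
  ⟨(0, 0), (1, 1), (-2, 1), (1, 0)⟩,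
  ⟨(0, 0), (1, 1), (0, -1), (-1, 0)⟩,
  ⟨(0, 0), (1, 1), (0, -1), (1, 0)⟩,
  ⟨(0, 0), (1, 1), (0, 1), (-1, 0)⟩,
  ⟨(0, 0), (1, 1), (0, 1), (1, 0)⟩,
  ⟨(0, 0), (1, 1), (2, -1), (-1, 0)⟩,
  ⟨(0, 0), (1, 1), (2, -1), (1, 0)⟩,
  ⟨(0, 0), (2, -2), (0, 0), (0, 0)⟩,
  ⟨(0, 0), (2, -1), (-1, 0), (-1, -1)⟩,
  ⟨(0, 0), (2, -1), (-1, 0), (-1, 1)⟩,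
  ⟨(0, 0), (2, -1), (-1, 0), (1, -1)⟩,
  ⟨(0, 0), (2, -1), (-1, 0), (1, 1)⟩,
  ⟨(0, 0), (2, -1), (1, 0), (-1, -1)⟩,
  ⟨(0, 0), (2, -1), (1, 0), (-1, 1)⟩,
  ⟨(0, 0), (2, -1), (1, 0), (1, -1)⟩,
  ⟨(0, 0), (2, -1), (1, 0), (1, 1)⟩,
  ⟨(0, 0), (2, 0), (-2, 0), (0, 0)⟩,
  ⟨(0, 0), (2, 0), (0, 0), (-2, 0)⟩,
  ⟨(0, 0), (2, 0), (0, 0), (0, 0)⟩,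
  ⟨(0, 0), (2, 0), (0, 0), (2, 0)⟩,
  ⟨(0, 0), (2, 0), (2, 0), (0, 0)⟩,
  ⟨(0, 1), (-2, 0), (-1, 1), (-1, 0)⟩,
  ⟨(0, 1), (-2, 0), (-1, 1), (1, 0)⟩,
  ⟨(0, 1), (-2, 0), (1, -1), (-1, 0)⟩,
  ⟨(0, 1), (-2, 0), (1, -1), (1, 0)⟩,
  ⟨(0, 1), (-2, 1), (0, -1), (0, -1)⟩,
  ⟨(0, 1), (-2, 1), (0, -1), (0, 1)⟩,
  ⟨(0, 1), (-2, 1), (0, 1), (0, -1)⟩,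
  ⟨(0, 1), (-2, 1), (0, 1), (0, 1)⟩,
  ⟨(0, 1), (-1, -1), (-1, 0), (0, 0)⟩,
  ⟨(0, 1), (-1, -1), (1, 0), (0, 0)⟩,
  ⟨(0, 1), (-1, 0), (-2, 0), (-1, 1)⟩,
  ⟨(0, 1), (-1, 0), (-2, 0), (1, -1)⟩,
  ⟨(0, 1), (-1, 0), (0, 0), (-1, -1)⟩,
  ⟨(0, 1), (-1, 0), (0, 0), (-1, 1)⟩,
  ⟨(0, 1), (-1, 0), (0, 0), (1, -1)⟩,
  ⟨(0, 1), (-1, 0), (0, 0), (1, 1)⟩,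
  ⟨(0, 1), (-1, 0), (2, 0), (-1, 1)⟩,
  ⟨(0, 1), (-1, 0), (2, 0), (1, -1)⟩,
  ⟨(0, 1), (-1, 1), (-1, 0), (-2, 0)⟩,
  ⟨(0, 1), (-1, 1), (-1, 0), (0, 0)⟩,
  ⟨(0, 1), (-1, 1), (-1, 0), (2, 0)⟩,
  ⟨(0, 1), (-1, 1), (-1, 2), (0, 0)⟩,
  ⟨(0, 1), (-1, 1), (1, -2), (0, 0)⟩,
  ⟨(0, 1), (-1, 1), (1, 0), (-2, 0)⟩,
  ⟨(0, 1), (-1, 1), (1, 0), (0, 0)⟩,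
  ⟨(0, 1), (-1, 1), (1, 0), (2, 0)⟩,
  ⟨(0, 1), (-1, 2), (0, 0), (-1, 1)⟩,
  ⟨(0, 1), (-1, 2), (0, 0), (1, -1)⟩,
  ⟨(0, 1), (0, -1), (-2, 1), (0, -1)⟩,
  ⟨(0, 1), (0, -1), (-2, 1), (0, 1)⟩,
  ⟨(0, 1), (0, -1), (0, -1), (-2, 1)⟩,
  ⟨(0, 1), (0, -1), (0, -1), (0, -1)⟩,
  ⟨(0, 1), (0, -1), (0, -1), (0, 1)⟩,
  ⟨(0, 1), (0, -1), (0, -1), (2, -1)⟩,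
  ⟨(0, 1), (0, -1), (0, 1), (-2, 1)⟩,
  ⟨(0, 1), (0, -1), (0, 1), (0, -1)⟩,
  ⟨(0, 1), (0, -1), (0, 1), (0, 1)⟩,
  ⟨(0, 1), (0, -1), (0, 1), (2, -1)⟩,
  ⟨(0, 1), (0, -1), (2, -1), (0, -1)⟩,
  ⟨(0, 1), (0, -1), (2, -1), (0, 1)⟩,
  ⟨(0, 1), (0, 0), (-1, -1), (-1, 0)⟩,
  ⟨(0, 1), (0, 0), (-1, -1), (1, 0)⟩,
  ⟨(0, 1), (0, 0), (-1, 1), (-1, 0)⟩,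
  ⟨(0, 1), (0, 0), (-1, 1), (-1, 2)⟩,
  ⟨(0, 1), (0, 0), (-1, 1), (1, -2)⟩,
  ⟨(0, 1), (0, 0), (-1, 1), (1, 0)⟩,
  ⟨(0, 1), (0, 0), (1, -1), (-1, 0)⟩,
  ⟨(0, 1), (0, 0), (1, -1), (-1, 2)⟩,
  ⟨(0, 1), (0, 0), (1, -1), (1, -2)⟩,
  ⟨(0, 1), (0, 0), (1, -1), (1, 0)⟩,
  ⟨(0, 1), (0, 0), (1, 1), (-1, 0)⟩,
  ⟨(0, 1), (0, 0), (1, 1), (1, 0)⟩,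
  ⟨(0, 1), (0, 1), (-2, 1), (0, -1)⟩,
  ⟨(0, 1), (0, 1), (-2, 1), (0, 1)⟩,
  ⟨(0, 1), (0, 1), (0, -1), (-2, 1)⟩,
  ⟨(0, 1), (0, 1), (0, -1), (0, -1)⟩,
  ⟨(0, 1), (0, 1), (0, -1), (0, 1)⟩,
  ⟨(0, 1), (0, 1), (0, -1), (2, -1)⟩,
  ⟨(0, 1), (0, 1), (0, 1), (-2, 1)⟩,
  ⟨(0, 1), (0, 1), (0, 1), (0, -1)⟩,
  ⟨(0, 1), (0, 1), (0, 1), (0, 1)⟩,
  ⟨(0, 1), (0, 1), (0, 1), (2, -1)⟩,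
  ⟨(0, 1), (0, 1), (2, -1), (0, -1)⟩,
  ⟨(0, 1), (0, 1), (2, -1), (0, 1)⟩,
  ⟨(0, 1), (1, -2), (0, 0), (-1, 1)⟩,
  ⟨(0, 1), (1, -2), (0, 0), (1, -1)⟩,
  ⟨(0, 1), (1, -1), (-1, 0), (-2, 0)⟩,
  ⟨(0, 1), (1, -1), (-1, 0), (0, 0)⟩,
  ⟨(0, 1), (1, -1), (-1, 0), (2, 0)⟩,
  ⟨(0, 1), (1, -1), (-1, 2), (0, 0)⟩,
  ⟨(0, 1), (1, -1), (1, -2), (0, 0)⟩,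
  ⟨(0, 1), (1, -1), (1, 0), (-2, 0)⟩,
  ⟨(0, 1), (1, -1), (1, 0), (0, 0)⟩,
  ⟨(0, 1), (1, -1), (1, 0), (2, 0)⟩,
  ⟨(0, 1), (1, 0), (-2, 0), (-1, 1)⟩,
  ⟨(0, 1), (1, 0), (-2, 0), (1, -1)⟩,
  ⟨(0, 1), (1, 0), (0, 0), (-1, -1)⟩,
  ⟨(0, 1), (1, 0), (0, 0), (-1, 1)⟩,
  ⟨(0, 1), (1, 0), (0, 0), (1, -1)⟩,
  ⟨(0, 1), (1, 0), (0, 0), (1, 1)⟩,
  ⟨(0, 1), (1, 0), (2, 0), (-1, 1)⟩,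
  ⟨(0, 1), (1, 0), (2, 0), (1, -1)⟩,
  ⟨(0, 1), (1, 1), (-1, 0), (0, 0)⟩,
  ⟨(0, 1), (1, 1), (1, 0), (0, 0)⟩,
  ⟨(0, 1), (2, -1), (0, -1), (0, -1)⟩,
  ⟨(0, 1), (2, -1), (0, -1), (0, 1)⟩,
  ⟨(0, 1), (2, -1), (0, 1), (0, -1)⟩,
  ⟨(0, 1), (2, -1), (0, 1), (0, 1)⟩,
  ⟨(0, 1), (2, 0), (-1, 1), (-1, 0)⟩,
  ⟨(0, 1), (2, 0), (-1, 1), (1, 0)⟩,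
  ⟨(0, 1), (2, 0), (1, -1), (-1, 0)⟩,
  ⟨(0, 1), (2, 0), (1, -1), (1, 0)⟩,
  ⟨(0, 2), (0, 0), (0, 0), (0, 0)⟩,
  ⟨(1, -2), (-1, 0), (-1, 0), (-1, 0)⟩,
  ⟨(1, -2), (-1, 0), (-1, 0), (1, 0)⟩,
  ⟨(1, -2), (-1, 0), (1, 0), (-1, 0)⟩,
  ⟨(1, -2), (-1, 0), (1, 0), (1, 0)⟩,
  ⟨(1, -2), (-1, 1), (0, 0), (0, -1)⟩,
  ⟨(1, -2), (-1, 1), (0, 0), (0, 1)⟩,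
  ⟨(1, -2), (0, -1), (-1, 1), (0, 0)⟩,
  ⟨(1, -2), (0, -1), (1, -1), (0, 0)⟩,
  ⟨(1, -2), (0, 0), (0, -1), (-1, 1)⟩,
  ⟨(1, -2), (0, 0), (0, -1), (1, -1)⟩,
  ⟨(1, -2), (0, 0), (0, 1), (-1, 1)⟩,
  ⟨(1, -2), (0, 0), (0, 1), (1, -1)⟩,
  ⟨(1, -2), (0, 1), (-1, 1), (0, 0)⟩,
  ⟨(1, -2), (0, 1), (1, -1), (0, 0)⟩,
  ⟨(1, -2), (1, -1), (0, 0), (0, -1)⟩,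
  ⟨(1, -2), (1, -1), (0, 0), (0, 1)⟩,
  ⟨(1, -2), (1, 0), (-1, 0), (-1, 0)⟩,
  ⟨(1, -2), (1, 0), (-1, 0), (1, 0)⟩,
  ⟨(1, -2), (1, 0), (1, 0), (-1, 0)⟩,
  ⟨(1, -2), (1, 0), (1, 0), (1, 0)⟩,
  ⟨(1, -1), (-2, 0), (-1, 0), (0, -1)⟩,
  ⟨(1, -1), (-2, 0), (-1, 0), (0, 1)⟩,
  ⟨(1, -1), (-2, 0), (1, 0), (0, -1)⟩,
  ⟨(1, -1), (-2, 0), (1, 0), (0, 1)⟩,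
  ⟨(1, -1), (-2, 1), (0, 0), (-1, 0)⟩,
  ⟨(1, -1), (-2, 1), (0, 0), (1, 0)⟩,
  ⟨(1, -1), (-1, -1), (-1, 1), (-1, 1)⟩,
  ⟨(1, -1), (-1, -1), (-1, 1), (1, -1)⟩,
  ⟨(1, -1), (-1, -1), (1, -1), (-1, 1)⟩,
  ⟨(1, -1), (-1, -1), (1, -1), (1, -1)⟩,
  ⟨(1, -1), (-1, 0), (-2, 1), (0, 0)⟩,
  ⟨(1, -1), (-1, 0), (0, -1), (-2, 0)⟩,
  ⟨(1, -1), (-1, 0), (0, -1), (0, 0)⟩,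
  ⟨(1, -1), (-1, 0), (0, -1), (2, 0)⟩,
  ⟨(1, -1), (-1, 0), (0, 1), (-2, 0)⟩,
  ⟨(1, -1), (-1, 0), (0, 1), (0, 0)⟩,
  ⟨(1, -1), (-1, 0), (0, 1), (2, 0)⟩,
  ⟨(1, -1), (-1, 0), (2, -1), (0, 0)⟩,
  ⟨(1, -1), (-1, 1), (-1, -1), (-1, 1)⟩,
  ⟨(1, -1), (-1, 1), (-1, -1), (1, -1)⟩,
  ⟨(1, -1), (-1, 1), (-1, 1), (-1, -1)⟩,
  ⟨(1, -1), (-1, 1), (-1, 1), (-1, 1)⟩,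
  ⟨(1, -1), (-1, 1), (-1, 1), (1, -1)⟩,
  ⟨(1, -1), (-1, 1), (-1, 1), (1, 1)⟩,
  ⟨(1, -1), (-1, 1), (1, -1), (-1, -1)⟩,
  ⟨(1, -1), (-1, 1), (1, -1), (-1, 1)⟩,
  ⟨(1, -1), (-1, 1), (1, -1), (1, -1)⟩,
  ⟨(1, -1), (-1, 1), (1, -1), (1, 1)⟩,
  ⟨(1, -1), (-1, 1), (1, 1), (-1, 1)⟩,
  ⟨(1, -1), (-1, 1), (1, 1), (1, -1)⟩,
  ⟨(1, -1), (-1, 2), (0, -1), (0, 0)⟩,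
  ⟨(1, -1), (-1, 2), (0, 1), (0, 0)⟩,
  ⟨(1, -1), (0, -1), (-2, 0), (-1, 0)⟩,
  ⟨(1, -1), (0, -1), (-2, 0), (1, 0)⟩,
  ⟨(1, -1), (0, -1), (0, 0), (-1, 0)⟩,
  ⟨(1, -1), (0, -1), (0, 0), (-1, 2)⟩,
  ⟨(1, -1), (0, -1), (0, 0), (1, -2)⟩,
  ⟨(1, -1), (0, -1), (0, 0), (1, 0)⟩,
  ⟨(1, -1), (0, -1), (2, 0), (-1, 0)⟩,
  ⟨(1, -1), (0, -1), (2, 0), (1, 0)⟩,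
  ⟨(1, -1), (0, 0), (-1, 0), (-2, 1)⟩,
  ⟨(1, -1), (0, 0), (-1, 0), (0, -1)⟩,
  ⟨(1, -1), (0, 0), (-1, 0), (0, 1)⟩,
  ⟨(1, -1), (0, 0), (-1, 0), (2, -1)⟩,
  ⟨(1, -1), (0, 0), (-1, 2), (0, -1)⟩,
  ⟨(1, -1), (0, 0), (-1, 2), (0, 1)⟩,
  ⟨(1, -1), (0, 0), (1, -2), (0, -1)⟩,
  ⟨(1, -1), (0, 0), (1, -2), (0, 1)⟩,
  ⟨(1, -1), (0, 0), (1, 0), (-2, 1)⟩,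
  ⟨(1, -1), (0, 0), (1, 0), (0, -1)⟩,
  ⟨(1, -1), (0, 0), (1, 0), (0, 1)⟩,
  ⟨(1, -1), (0, 0), (1, 0), (2, -1)⟩,
  ⟨(1, -1), (0, 1), (-2, 0), (-1, 0)⟩,
  ⟨(1, -1), (0, 1), (-2, 0), (1, 0)⟩,
  ⟨(1, -1), (0, 1), (0, 0), (-1, 0)⟩,
  ⟨(1, -1), (0, 1), (0, 0), (-1, 2)⟩,
  ⟨(1, -1), (0, 1), (0, 0), (1, -2)⟩,
  ⟨(1, -1), (0, 1), (0, 0), (1, 0)⟩,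
  ⟨(1, -1), (0, 1), (2, 0), (-1, 0)⟩,
  ⟨(1, -1), (0, 1), (2, 0), (1, 0)⟩,
  ⟨(1, -1), (1, -2), (0, -1), (0, 0)⟩,
  ⟨(1, -1), (1, -2), (0, 1), (0, 0)⟩,
  ⟨(1, -1), (1, -1), (-1, -1), (-1, 1)⟩,
  ⟨(1, -1), (1, -1), (-1, -1), (1, -1)⟩,
  ⟨(1, -1), (1, -1), (-1, 1), (-1, -1)⟩,
  ⟨(1, -1), (1, -1), (-1, 1), (-1, 1)⟩,
  ⟨(1, -1), (1, -1), (-1, 1), (1, -1)⟩,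
  ⟨(1, -1), (1, -1), (-1, 1), (1, 1)⟩,
  ⟨(1, -1), (1, -1), (1, -1), (-1, -1)⟩,
  ⟨(1, -1), (1, -1), (1, -1), (-1, 1)⟩,
  ⟨(1, -1), (1, -1), (1, -1), (1, -1)⟩,
  ⟨(1, -1), (1, -1), (1, -1), (1, 1)⟩,
  ⟨(1, -1), (1, -1), (1, 1), (-1, 1)⟩,
  ⟨(1, -1), (1, -1), (1, 1), (1, -1)⟩,
  ⟨(1, -1), (1, 0), (-2, 1), (0, 0)⟩,
  ⟨(1, -1), (1, 0), (0, -1), (-2, 0)⟩,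
  ⟨(1, -1), (1, 0), (0, -1), (0, 0)⟩,
  ⟨(1, -1), (1, 0), (0, -1), (2, 0)⟩,
  ⟨(1, -1), (1, 0), (0, 1), (-2, 0)⟩,
  ⟨(1, -1), (1, 0), (0, 1), (0, 0)⟩,
  ⟨(1, -1), (1, 0), (0, 1), (2, 0)⟩,
  ⟨(1, -1), (1, 0), (2, -1), (0, 0)⟩,
  ⟨(1, -1), (1, 1), (-1, 1), (-1, 1)⟩,
  ⟨(1, -1), (1, 1), (-1, 1), (1, -1)⟩,
  ⟨(1, -1), (1, 1), (1, -1), (-1, 1)⟩,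
  ⟨(1, -1), (1, 1), (1, -1), (1, -1)⟩,
  ⟨(1, -1), (2, -1), (0, 0), (-1, 0)⟩,
  ⟨(1, -1), (2, -1), (0, 0), (1, 0)⟩,
  ⟨(1, -1), (2, 0), (-1, 0), (0, -1)⟩,
  ⟨(1, -1), (2, 0), (-1, 0), (0, 1)⟩,
  ⟨(1, -1), (2, 0), (1, 0), (0, -1)⟩,
  ⟨(1, -1), (2, 0), (1, 0), (0, 1)⟩,
  ⟨(1, 0), (-2, 0), (0, -1), (-1, 1)⟩,
  ⟨(1, 0), (-2, 0), (0, -1), (1, -1)⟩,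
  ⟨(1, 0), (-2, 0), (0, 1), (-1, 1)⟩,
  ⟨(1, 0), (-2, 0), (0, 1), (1, -1)⟩,
  ⟨(1, 0), (-2, 1), (-1, -1), (0, 0)⟩,
  ⟨(1, 0), (-2, 1), (-1, 1), (0, 0)⟩,
  ⟨(1, 0), (-2, 1), (1, -1), (0, 0)⟩,
  ⟨(1, 0), (-2, 1), (1, 1), (0, 0)⟩,
  ⟨(1, 0), (-1, -1), (0, 0), (-2, 1)⟩,
  ⟨(1, 0), (-1, -1), (0, 0), (0, -1)⟩,
  ⟨(1, 0), (-1, -1), (0, 0), (0, 1)⟩,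
  ⟨(1, 0), (-1, -1), (0, 0), (2, -1)⟩,
  ⟨(1, 0), (-1, 0), (-1, 0), (-1, 0)⟩,
  ⟨(1, 0), (-1, 0), (-1, 0), (-1, 2)⟩,
  ⟨(1, 0), (-1, 0), (-1, 0), (1, -2)⟩,
  ⟨(1, 0), (-1, 0), (-1, 0), (1, 0)⟩,
  ⟨(1, 0), (-1, 0), (-1, 2), (-1, 0)⟩,
  ⟨(1, 0), (-1, 0), (-1, 2), (1, 0)⟩,
  ⟨(1, 0), (-1, 0), (1, -2), (-1, 0)⟩,
  ⟨(1, 0), (-1, 0), (1, -2), (1, 0)⟩,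
  ⟨(1, 0), (-1, 0), (1, 0), (-1, 0)⟩,
  ⟨(1, 0), (-1, 0), (1, 0), (-1, 2)⟩,
  ⟨(1, 0), (-1, 0), (1, 0), (1, -2)⟩,
  ⟨(1, 0), (-1, 0), (1, 0), (1, 0)⟩,
  ⟨(1, 0), (-1, 1), (-2, 0), (0, -1)⟩,
  ⟨(1, 0), (-1, 1), (-2, 0), (0, 1)⟩,
  ⟨(1, 0), (-1, 1), (0, 0), (-2, 1)⟩,
  ⟨(1, 0), (-1, 1), (0, 0), (0, -1)⟩,
  ⟨(1, 0), (-1, 1), (0, 0), (0, 1)⟩,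
  ⟨(1, 0), (-1, 1), (0, 0), (2, -1)⟩,
  ⟨(1, 0), (-1, 1), (2, 0), (0, -1)⟩,
  ⟨(1, 0), (-1, 1), (2, 0), (0, 1)⟩,
  ⟨(1, 0), (-1, 2), (-1, 0), (-1, 0)⟩,
  ⟨(1, 0), (-1, 2), (-1, 0), (1, 0)⟩,
  ⟨(1, 0), (-1, 2), (1, 0), (-1, 0)⟩,
  ⟨(1, 0), (-1, 2), (1, 0), (1, 0)⟩,
  ⟨(1, 0), (0, -1), (-1, -1), (0, 0)⟩,
  ⟨(1, 0), (0, -1), (-1, 1), (-2, 0)⟩,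
  ⟨(1, 0), (0, -1), (-1, 1), (0, 0)⟩,
  ⟨(1, 0), (0, -1), (-1, 1), (2, 0)⟩,
  ⟨(1, 0), (0, -1), (1, -1), (-2, 0)⟩,
  ⟨(1, 0), (0, -1), (1, -1), (0, 0)⟩,
  ⟨(1, 0), (0, -1), (1, -1), (2, 0)⟩,
  ⟨(1, 0), (0, -1), (1, 1), (0, 0)⟩,
  ⟨(1, 0), (0, 0), (-2, 1), (-1, -1)⟩,
  ⟨(1, 0), (0, 0), (-2, 1), (-1, 1)⟩,
  ⟨(1, 0), (0, 0), (-2, 1), (1, -1)⟩,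
  ⟨(1, 0), (0, 0), (-2, 1), (1, 1)⟩,
  ⟨(1, 0), (0, 0), (0, -1), (-1, -1)⟩,
  ⟨(1, 0), (0, 0), (0, -1), (-1, 1)⟩,
  ⟨(1, 0), (0, 0), (0, -1), (1, -1)⟩,
  ⟨(1, 0), (0, 0), (0, -1), (1, 1)⟩,
  ⟨(1, 0), (0, 0), (0, 1), (-1, -1)⟩,
  ⟨(1, 0), (0, 0), (0, 1), (-1, 1)⟩,
  ⟨(1, 0), (0, 0), (0, 1), (1, -1)⟩,
  ⟨(1, 0), (0, 0), (0, 1), (1, 1)⟩,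
  ⟨(1, 0), (0, 0), (2, -1), (-1, -1)⟩,
  ⟨(1, 0), (0, 0), (2, -1), (-1, 1)⟩,
  ⟨(1, 0), (0, 0), (2, -1), (1, -1)⟩,
  ⟨(1, 0), (0, 0), (2, -1), (1, 1)⟩,
  ⟨(1, 0), (0, 1), (-1, -1), (0, 0)⟩,
  ⟨(1, 0), (0, 1), (-1, 1), (-2, 0)⟩,
  ⟨(1, 0), (0, 1), (-1, 1), (0, 0)⟩,
  ⟨(1, 0), (0, 1), (-1, 1), (2, 0)⟩,
  ⟨(1, 0), (0, 1), (1, -1), (-2, 0)⟩,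
  ⟨(1, 0), (0, 1), (1, -1), (0, 0)⟩,
  ⟨(1, 0), (0, 1), (1, -1), (2, 0)⟩,
  ⟨(1, 0), (0, 1), (1, 1), (0, 0)⟩,
  ⟨(1, 0), (1, -2), (-1, 0), (-1, 0)⟩,
  ⟨(1, 0), (1, -2), (-1, 0), (1, 0)⟩,
  ⟨(1, 0), (1, -2), (1, 0), (-1, 0)⟩,
  ⟨(1, 0), (1, -2), (1, 0), (1, 0)⟩,
  ⟨(1, 0), (1, -1), (-2, 0), (0, -1)⟩,
  ⟨(1, 0), (1, -1), (-2, 0), (0, 1)⟩,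
  ⟨(1, 0), (1, -1), (0, 0), (-2, 1)⟩,
  ⟨(1, 0), (1, -1), (0, 0), (0, -1)⟩,
  ⟨(1, 0), (1, -1), (0, 0), (0, 1)⟩,
  ⟨(1, 0), (1, -1), (0, 0), (2, -1)⟩,
  ⟨(1, 0), (1, -1), (2, 0), (0, -1)⟩,
  ⟨(1, 0), (1, -1), (2, 0), (0, 1)⟩,
  ⟨(1, 0), (1, 0), (-1, 0), (-1, 0)⟩,
  ⟨(1, 0), (1, 0), (-1, 0), (-1, 2)⟩,
  ⟨(1, 0), (1, 0), (-1, 0), (1, -2)⟩,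
  ⟨(1, 0), (1, 0), (-1, 0), (1, 0)⟩,
  ⟨(1, 0), (1, 0), (-1, 2), (-1, 0)⟩,
  ⟨(1, 0), (1, 0), (-1, 2), (1, 0)⟩,
  ⟨(1, 0), (1, 0), (1, -2), (-1, 0)⟩,
  ⟨(1, 0), (1, 0), (1, -2), (1, 0)⟩,
  ⟨(1, 0), (1, 0), (1, 0), (-1, 0)⟩,
  ⟨(1, 0), (1, 0), (1, 0), (-1, 2)⟩,
  ⟨(1, 0), (1, 0), (1, 0), (1, -2)⟩,
  ⟨(1, 0), (1, 0), (1, 0), (1, 0)⟩,
  ⟨(1, 0), (1, 1), (0, 0), (-2, 1)⟩,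
  ⟨(1, 0), (1, 1), (0, 0), (0, -1)⟩,
  ⟨(1, 0), (1, 1), (0, 0), (0, 1)⟩,
  ⟨(1, 0), (1, 1), (0, 0), (2, -1)⟩,
  ⟨(1, 0), (2, -1), (-1, -1), (0, 0)⟩,
  ⟨(1, 0), (2, -1), (-1, 1), (0, 0)⟩,
  ⟨(1, 0), (2, -1), (1, -1), (0, 0)⟩,
  ⟨(1, 0), (2, -1), (1, 1), (0, 0)⟩,
  ⟨(1, 0), (2, 0), (0, -1), (-1, 1)⟩,
  ⟨(1, 0), (2, 0), (0, -1), (1, -1)⟩,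
  ⟨(1, 0), (2, 0), (0, 1), (-1, 1)⟩,
  ⟨(1, 0), (2, 0), (0, 1), (1, -1)⟩,
  ⟨(1, 1), (-2, 1), (0, 0), (-1, 0)⟩,
  ⟨(1, 1), (-2, 1), (0, 0), (1, 0)⟩,
  ⟨(1, 1), (-1, 0), (-2, 1), (0, 0)⟩,
  ⟨(1, 1), (-1, 0), (0, -1), (0, 0)⟩,
  ⟨(1, 1), (-1, 0), (0, 1), (0, 0)⟩,
  ⟨(1, 1), (-1, 0), (2, -1), (0, 0)⟩,
  ⟨(1, 1), (-1, 1), (-1, 1), (-1, 1)⟩,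
  ⟨(1, 1), (-1, 1), (-1, 1), (1, -1)⟩,
  ⟨(1, 1), (-1, 1), (1, -1), (-1, 1)⟩,
  ⟨(1, 1), (-1, 1), (1, -1), (1, -1)⟩,
  ⟨(1, 1), (0, -1), (0, 0), (-1, 0)⟩,
  ⟨(1, 1), (0, -1), (0, 0), (1, 0)⟩,
  ⟨(1, 1), (0, 0), (-1, 0), (-2, 1)⟩,
  ⟨(1, 1), (0, 0), (-1, 0), (0, -1)⟩,
  ⟨(1, 1), (0, 0), (-1, 0), (0, 1)⟩,
  ⟨(1, 1), (0, 0), (-1, 0), (2, -1)⟩,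
  ⟨(1, 1), (0, 0), (1, 0), (-2, 1)⟩,
  ⟨(1, 1), (0, 0), (1, 0), (0, -1)⟩,
  ⟨(1, 1), (0, 0), (1, 0), (0, 1)⟩,
  ⟨(1, 1), (0, 0), (1, 0), (2, -1)⟩,
  ⟨(1, 1), (0, 1), (0, 0), (-1, 0)⟩,
  ⟨(1, 1), (0, 1), (0, 0), (1, 0)⟩,
  ⟨(1, 1), (1, -1), (-1, 1), (-1, 1)⟩,
  ⟨(1, 1), (1, -1), (-1, 1), (1, -1)⟩,
  ⟨(1, 1), (1, -1), (1, -1), (-1, 1)⟩,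
  ⟨(1, 1), (1, -1), (1, -1), (1, -1)⟩,
  ⟨(1, 1), (1, 0), (-2, 1), (0, 0)⟩,
  ⟨(1, 1), (1, 0), (0, -1), (0, 0)⟩,
  ⟨(1, 1), (1, 0), (0, 1), (0, 0)⟩,
  ⟨(1, 1), (1, 0), (2, -1), (0, 0)⟩,
  ⟨(1, 1), (2, -1), (0, 0), (-1, 0)⟩,
  ⟨(1, 1), (2, -1), (0, 0), (1, 0)⟩,
  ⟨(2, -2), (0, 0), (0, 0), (0, 0)⟩,
  ⟨(2, -1), (-1, -1), (-1, 0), (0, 0)⟩,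
  ⟨(2, -1), (-1, -1), (1, 0), (0, 0)⟩,
  ⟨(2, -1), (-1, 0), (0, 0), (-1, -1)⟩,
  ⟨(2, -1), (-1, 0), (0, 0), (-1, 1)⟩,
  ⟨(2, -1), (-1, 0), (0, 0), (1, -1)⟩,
  ⟨(2, -1), (-1, 0), (0, 0), (1, 1)⟩,
  ⟨(2, -1), (-1, 1), (-1, 0), (0, 0)⟩,
  ⟨(2, -1), (-1, 1), (1, 0), (0, 0)⟩,
  ⟨(2, -1), (0, -1), (0, -1), (0, -1)⟩,
  ⟨(2, -1), (0, -1), (0, -1), (0, 1)⟩,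
  ⟨(2, -1), (0, -1), (0, 1), (0, -1)⟩,
  ⟨(2, -1), (0, -1), (0, 1), (0, 1)⟩,
  ⟨(2, -1), (0, 0), (-1, -1), (-1, 0)⟩,
  ⟨(2, -1), (0, 0), (-1, -1), (1, 0)⟩,
  ⟨(2, -1), (0, 0), (-1, 1), (-1, 0)⟩,
  ⟨(2, -1), (0, 0), (-1, 1), (1, 0)⟩,
  ⟨(2, -1), (0, 0), (1, -1), (-1, 0)⟩,
  ⟨(2, -1), (0, 0), (1, -1), (1, 0)⟩,
  ⟨(2, -1), (0, 0), (1, 1), (-1, 0)⟩,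
  ⟨(2, -1), (0, 0), (1, 1), (1, 0)⟩,
  ⟨(2, -1), (0, 1), (0, -1), (0, -1)⟩,
  ⟨(2, -1), (0, 1), (0, -1), (0, 1)⟩,
  ⟨(2, -1), (0, 1), (0, 1), (0, -1)⟩,
  ⟨(2, -1), (0, 1), (0, 1), (0, 1)⟩,
  ⟨(2, -1), (1, -1), (-1, 0), (0, 0)⟩,
  ⟨(2, -1), (1, -1), (1, 0), (0, 0)⟩,
  ⟨(2, -1), (1, 0), (0, 0), (-1, -1)⟩,
  ⟨(2, -1), (1, 0), (0, 0), (-1, 1)⟩,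
  ⟨(2, -1), (1, 0), (0, 0), (1, -1)⟩,
  ⟨(2, -1), (1, 0), (0, 0), (1, 1)⟩,
  ⟨(2, -1), (1, 1), (-1, 0), (0, 0)⟩,
  ⟨(2, -1), (1, 1), (1, 0), (0, 0)⟩,
  ⟨(2, 0), (-2, 0), (0, 0), (0, 0)⟩,
  ⟨(2, 0), (-1, 0), (-1, 1), (0, -1)⟩,
  ⟨(2, 0), (-1, 0), (-1, 1), (0, 1)⟩,
  ⟨(2, 0), (-1, 0), (1, -1), (0, -1)⟩,
  ⟨(2, 0), (-1, 0), (1, -1), (0, 1)⟩,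
  ⟨(2, 0), (-1, 1), (0, -1), (-1, 0)⟩,
  ⟨(2, 0), (-1, 1), (0, -1), (1, 0)⟩,
  ⟨(2, 0), (-1, 1), (0, 1), (-1, 0)⟩,
  ⟨(2, 0), (-1, 1), (0, 1), (1, 0)⟩,
  ⟨(2, 0), (0, -1), (-1, 0), (-1, 1)⟩,
  ⟨(2, 0), (0, -1), (-1, 0), (1, -1)⟩,
  ⟨(2, 0), (0, -1), (1, 0), (-1, 1)⟩,
  ⟨(2, 0), (0, -1), (1, 0), (1, -1)⟩,
  ⟨(2, 0), (0, 0), (-2, 0), (0, 0)⟩,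
  ⟨(2, 0), (0, 0), (0, 0), (-2, 0)⟩,
  ⟨(2, 0), (0, 0), (0, 0), (0, 0)⟩,
  ⟨(2, 0), (0, 0), (0, 0), (2, 0)⟩,
  ⟨(2, 0), (0, 0), (2, 0), (0, 0)⟩,
  ⟨(2, 0), (0, 1), (-1, 0), (-1, 1)⟩,
  ⟨(2, 0), (0, 1), (-1, 0), (1, -1)⟩,
  ⟨(2, 0), (0, 1), (1, 0), (-1, 1)⟩,
  ⟨(2, 0), (0, 1), (1, 0), (1, -1)⟩,
  ⟨(2, 0), (1, -1), (0, -1), (-1, 0)⟩,
  ⟨(2, 0), (1, -1), (0, -1), (1, 0)⟩,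
  ⟨(2, 0), (1, -1), (0, 1), (-1, 0)⟩,
  ⟨(2, 0), (1, -1), (0, 1), (1, 0)⟩,
  ⟨(2, 0), (1, 0), (-1, 1), (0, -1)⟩,
  ⟨(2, 0), (1, 0), (-1, 1), (0, 1)⟩,
  ⟨(2, 0), (1, 0), (1, -1), (0, -1)⟩,
  ⟨(2, 0), (1, 0), (1, -1), (0, 1)⟩,
  ⟨(2, 0), (2, 0), (0, 0), (0, 0)⟩]

/-- The units. -/
def units : List Qt := [
  ⟨(-2, 0), (0, 0), (0, 0), (0, 0)⟩,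
  ⟨(-1, 0), (-1, 0), (-1, 0), (-1, 0)⟩,
  ⟨(-1, 0), (-1, 0), (-1, 0), (1, 0)⟩,
  ⟨(-1, 0), (-1, 0), (1, 0), (-1, 0)⟩,
  ⟨(-1, 0), (-1, 0), (1, 0), (1, 0)⟩,
  ⟨(-1, 0), (-1, 1), (0, 0), (0, -1)⟩,
  ⟨(-1, 0), (-1, 1), (0, 0), (0, 1)⟩,
  ⟨(-1, 0), (0, -1), (-1, 1), (0, 0)⟩,
  ⟨(-1, 0), (0, -1), (1, -1), (0, 0)⟩,
  ⟨(-1, 0), (0, 0), (0, -1), (-1, 1)⟩,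
  ⟨(-1, 0), (0, 0), (0, -1), (1, -1)⟩,
  ⟨(-1, 0), (0, 0), (0, 1), (-1, 1)⟩,
  ⟨(-1, 0), (0, 0), (0, 1), (1, -1)⟩,
  ⟨(-1, 0), (0, 1), (-1, 1), (0, 0)⟩,
  ⟨(-1, 0), (0, 1), (1, -1), (0, 0)⟩,
  ⟨(-1, 0), (1, -1), (0, 0), (0, -1)⟩,
  ⟨(-1, 0), (1, -1), (0, 0), (0, 1)⟩,
  ⟨(-1, 0), (1, 0), (-1, 0), (-1, 0)⟩,
  ⟨(-1, 0), (1, 0), (-1, 0), (1, 0)⟩,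
  ⟨(-1, 0), (1, 0), (1, 0), (-1, 0)⟩,
  ⟨(-1, 0), (1, 0), (1, 0), (1, 0)⟩,
  ⟨(-1, 1), (-1, 0), (0, -1), (0, 0)⟩,
  ⟨(-1, 1), (-1, 0), (0, 1), (0, 0)⟩,
  ⟨(-1, 1), (0, -1), (0, 0), (-1, 0)⟩,
  ⟨(-1, 1), (0, -1), (0, 0), (1, 0)⟩,
  ⟨(-1, 1), (0, 0), (-1, 0), (0, -1)⟩,
  ⟨(-1, 1), (0, 0), (-1, 0), (0, 1)⟩,
  ⟨(-1, 1), (0, 0), (1, 0), (0, -1)⟩,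
  ⟨(-1, 1), (0, 0), (1, 0), (0, 1)⟩,
  ⟨(-1, 1), (0, 1), (0, 0), (-1, 0)⟩,
  ⟨(-1, 1), (0, 1), (0, 0), (1, 0)⟩,
  ⟨(-1, 1), (1, 0), (0, -1), (0, 0)⟩,
  ⟨(-1, 1), (1, 0), (0, 1), (0, 0)⟩,
  ⟨(0, -1), (-1, 0), (0, 0), (-1, 1)⟩,
  ⟨(0, -1), (-1, 0), (0, 0), (1, -1)⟩,
  ⟨(0, -1), (-1, 1), (-1, 0), (0, 0)⟩,
  ⟨(0, -1), (-1, 1), (1, 0), (0, 0)⟩,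
  ⟨(0, -1), (0, 0), (-1, 1), (-1, 0)⟩,
  ⟨(0, -1), (0, 0), (-1, 1), (1, 0)⟩,
  ⟨(0, -1), (0, 0), (1, -1), (-1, 0)⟩,
  ⟨(0, -1), (0, 0), (1, -1), (1, 0)⟩,
  ⟨(0, -1), (1, -1), (-1, 0), (0, 0)⟩,
  ⟨(0, -1), (1, -1), (1, 0), (0, 0)⟩,
  ⟨(0, -1), (1, 0), (0, 0), (-1, 1)⟩,
  ⟨(0, -1), (1, 0), (0, 0), (1, -1)⟩,
  ⟨(0, 0), (-2, 0), (0, 0), (0, 0)⟩,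
  ⟨(0, 0), (-1, 0), (-1, 1), (0, -1)⟩,
  ⟨(0, 0), (-1, 0), (-1, 1), (0, 1)⟩,
  ⟨(0, 0), (-1, 0), (1, -1), (0, -1)⟩,
  ⟨(0, 0), (-1, 0), (1, -1), (0, 1)⟩,
  ⟨(0, 0), (-1, 1), (0, -1), (-1, 0)⟩,
  ⟨(0, 0), (-1, 1), (0, -1), (1, 0)⟩,
  ⟨(0, 0), (-1, 1), (0, 1), (-1, 0)⟩,
  ⟨(0, 0), (-1, 1), (0, 1), (1, 0)⟩,
  ⟨(0, 0), (0, -1), (-1, 0), (-1, 1)⟩,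
  ⟨(0, 0), (0, -1), (-1, 0), (1, -1)⟩,
  ⟨(0, 0), (0, -1), (1, 0), (-1, 1)⟩,
  ⟨(0, 0), (0, -1), (1, 0), (1, -1)⟩,
  ⟨(0, 0), (0, 0), (-2, 0), (0, 0)⟩,
  ⟨(0, 0), (0, 0), (0, 0), (-2, 0)⟩,
  ⟨(0, 0), (0, 0), (0, 0), (2, 0)⟩,
  ⟨(0, 0), (0, 0), (2, 0), (0, 0)⟩,
  ⟨(0, 0), (0, 1), (-1, 0), (-1, 1)⟩,
  ⟨(0, 0), (0, 1), (-1, 0), (1, -1)⟩,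
  ⟨(0, 0), (0, 1), (1, 0), (-1, 1)⟩,
  ⟨(0, 0), (0, 1), (1, 0), (1, -1)⟩,
  ⟨(0, 0), (1, -1), (0, -1), (-1, 0)⟩,
  ⟨(0, 0), (1, -1), (0, -1), (1, 0)⟩,
  ⟨(0, 0), (1, -1), (0, 1), (-1, 0)⟩,
  ⟨(0, 0), (1, -1), (0, 1), (1, 0)⟩,
  ⟨(0, 0), (1, 0), (-1, 1), (0, -1)⟩,
  ⟨(0, 0), (1, 0), (-1, 1), (0, 1)⟩,
  ⟨(0, 0), (1, 0), (1, -1), (0, -1)⟩,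
  ⟨(0, 0), (1, 0), (1, -1), (0, 1)⟩,
  ⟨(0, 0), (2, 0), (0, 0), (0, 0)⟩,
  ⟨(0, 1), (-1, 0), (0, 0), (-1, 1)⟩,
  ⟨(0, 1), (-1, 0), (0, 0), (1, -1)⟩,
  ⟨(0, 1), (-1, 1), (-1, 0), (0, 0)⟩,
  ⟨(0, 1), (-1, 1), (1, 0), (0, 0)⟩,
  ⟨(0, 1), (0, 0), (-1, 1), (-1, 0)⟩,
  ⟨(0, 1), (0, 0), (-1, 1), (1, 0)⟩,
  ⟨(0, 1), (0, 0), (1, -1), (-1, 0)⟩,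
  ⟨(0, 1), (0, 0), (1, -1), (1, 0)⟩,
  ⟨(0, 1), (1, -1), (-1, 0), (0, 0)⟩,
  ⟨(0, 1), (1, -1), (1, 0), (0, 0)⟩,
  ⟨(0, 1), (1, 0), (0, 0), (-1, 1)⟩,
  ⟨(0, 1), (1, 0), (0, 0), (1, -1)⟩,
  ⟨(1, -1), (-1, 0), (0, -1), (0, 0)⟩,
  ⟨(1, -1), (-1, 0), (0, 1), (0, 0)⟩,
  ⟨(1, -1), (0, -1), (0, 0), (-1, 0)⟩,
  ⟨(1, -1), (0, -1), (0, 0), (1, 0)⟩,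
  ⟨(1, -1), (0, 0), (-1, 0), (0, -1)⟩,
  ⟨(1, -1), (0, 0), (-1, 0), (0, 1)⟩,
  ⟨(1, -1), (0, 0), (1, 0), (0, -1)⟩,
  ⟨(1, -1), (0, 0), (1, 0), (0, 1)⟩,
  ⟨(1, -1), (0, 1), (0, 0), (-1, 0)⟩,
  ⟨(1, -1), (0, 1), (0, 0), (1, 0)⟩,
  ⟨(1, -1), (1, 0), (0, -1), (0, 0)⟩,
  ⟨(1, -1), (1, 0), (0, 1), (0, 0)⟩,
  ⟨(1, 0), (-1, 0), (-1, 0), (-1, 0)⟩,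
  ⟨(1, 0), (-1, 0), (-1, 0), (1, 0)⟩,
  ⟨(1, 0), (-1, 0), (1, 0), (-1, 0)⟩,
  ⟨(1, 0), (-1, 0), (1, 0), (1, 0)⟩,
  ⟨(1, 0), (-1, 1), (0, 0), (0, -1)⟩,
  ⟨(1, 0), (-1, 1), (0, 0), (0, 1)⟩,
  ⟨(1, 0), (0, -1), (-1, 1), (0, 0)⟩,
  ⟨(1, 0), (0, -1), (1, -1), (0, 0)⟩,
  ⟨(1, 0), (0, 0), (0, -1), (-1, 1)⟩,
  ⟨(1, 0), (0, 0), (0, -1), (1, -1)⟩,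
  ⟨(1, 0), (0, 0), (0, 1), (-1, 1)⟩,
  ⟨(1, 0), (0, 0), (0, 1), (1, -1)⟩,
  ⟨(1, 0), (0, 1), (-1, 1), (0, 0)⟩,
  ⟨(1, 0), (0, 1), (1, -1), (0, 0)⟩,
  ⟨(1, 0), (1, -1), (0, 0), (0, -1)⟩,
  ⟨(1, 0), (1, -1), (0, 0), (0, 1)⟩,
  ⟨(1, 0), (1, 0), (-1, 0), (-1, 0)⟩,
  ⟨(1, 0), (1, 0), (-1, 0), (1, 0)⟩,
  ⟨(1, 0), (1, 0), (1, 0), (-1, 0)⟩,
  ⟨(1, 0), (1, 0), (1, 0), (1, 0)⟩,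
  ⟨(2, 0), (0, 0), (0, 0), (0, 0)⟩]

/-- The small icosians congruent to one. -/
def near1 : List Qt := [
  ⟨(-2, 0), (0, 0), (0, 0), (0, 0)⟩,
  ⟨(-1, 0), (-1, 0), (-1, 0), (1, -2)⟩,
  ⟨(-1, 0), (-1, 0), (-1, 2), (1, 0)⟩,
  ⟨(-1, 0), (-1, 0), (1, -2), (-1, 0)⟩,
  ⟨(-1, 0), (-1, 0), (1, 0), (-1, 2)⟩,
  ⟨(-1, 0), (-1, 2), (-1, 0), (1, 0)⟩,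
  ⟨(-1, 0), (-1, 2), (1, 0), (-1, 0)⟩,
  ⟨(-1, 0), (1, -2), (-1, 0), (-1, 0)⟩,
  ⟨(-1, 0), (1, -2), (1, 0), (1, 0)⟩,
  ⟨(-1, 0), (1, 0), (-1, 0), (-1, 2)⟩,
  ⟨(-1, 0), (1, 0), (-1, 2), (-1, 0)⟩,
  ⟨(-1, 0), (1, 0), (1, -2), (1, 0)⟩,
  ⟨(-1, 0), (1, 0), (1, 0), (1, -2)⟩,
  ⟨(-1, 1), (-1, 1), (-1, 1), (-1, 1)⟩,
  ⟨(-1, 1), (-1, 1), (1, -1), (1, -1)⟩,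
  ⟨(-1, 1), (1, -1), (-1, 1), (1, -1)⟩,
  ⟨(-1, 1), (1, -1), (1, -1), (-1, 1)⟩,
  ⟨(-1, 2), (-1, 0), (-1, 0), (1, 0)⟩,
  ⟨(-1, 2), (-1, 0), (1, 0), (-1, 0)⟩,
  ⟨(-1, 2), (1, 0), (-1, 0), (-1, 0)⟩,
  ⟨(-1, 2), (1, 0), (1, 0), (1, 0)⟩,
  ⟨(0, -1), (0, -1), (0, -1), (0, 1)⟩,
  ⟨(0, -1), (0, -1), (0, 1), (0, -1)⟩,
  ⟨(0, -1), (0, 1), (0, -1), (0, -1)⟩,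
  ⟨(0, -1), (0, 1), (0, 1), (0, 1)⟩,
  ⟨(0, 0), (-2, 0), (0, 0), (0, 0)⟩,
  ⟨(0, 0), (0, 0), (-2, 0), (0, 0)⟩,
  ⟨(0, 0), (0, 0), (0, 0), (-2, 0)⟩,
  ⟨(0, 0), (0, 0), (0, 0), (2, 0)⟩,
  ⟨(0, 0), (0, 0), (2, 0), (0, 0)⟩,
  ⟨(0, 0), (2, 0), (0, 0), (0, 0)⟩,
  ⟨(0, 1), (0, -1), (0, -1), (0, -1)⟩,
  ⟨(0, 1), (0, -1), (0, 1), (0, 1)⟩,
  ⟨(0, 1), (0, 1), (0, -1), (0, 1)⟩,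
  ⟨(0, 1), (0, 1), (0, 1), (0, -1)⟩,
  ⟨(1, -2), (-1, 0), (-1, 0), (-1, 0)⟩,
  ⟨(1, -2), (-1, 0), (1, 0), (1, 0)⟩,
  ⟨(1, -2), (1, 0), (-1, 0), (1, 0)⟩,
  ⟨(1, -2), (1, 0), (1, 0), (-1, 0)⟩,
  ⟨(1, -1), (-1, 1), (-1, 1), (1, -1)⟩,
  ⟨(1, -1), (-1, 1), (1, -1), (-1, 1)⟩,
  ⟨(1, -1), (1, -1), (-1, 1), (-1, 1)⟩,
  ⟨(1, -1), (1, -1), (1, -1), (1, -1)⟩,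
  ⟨(1, 0), (-1, 0), (-1, 0), (-1, 2)⟩,
  ⟨(1, 0), (-1, 0), (-1, 2), (-1, 0)⟩,
  ⟨(1, 0), (-1, 0), (1, -2), (1, 0)⟩,
  ⟨(1, 0), (-1, 0), (1, 0), (1, -2)⟩,
  ⟨(1, 0), (-1, 2), (-1, 0), (-1, 0)⟩,
  ⟨(1, 0), (-1, 2), (1, 0), (1, 0)⟩,
  ⟨(1, 0), (1, -2), (-1, 0), (1, 0)⟩,
  ⟨(1, 0), (1, -2), (1, 0), (-1, 0)⟩,
  ⟨(1, 0), (1, 0), (-1, 0), (1, -2)⟩,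
  ⟨(1, 0), (1, 0), (-1, 2), (1, 0)⟩,
  ⟨(1, 0), (1, 0), (1, -2), (-1, 0)⟩,
  ⟨(1, 0), (1, 0), (1, 0), (-1, 2)⟩,
  ⟨(2, 0), (0, 0), (0, 0), (0, 0)⟩]

/-- The small coordinates. -/
def candD : List Zt := [(-3, 1), (-2, -1), (-2, 0), (-2, 1), (-2, 2), (-1, -1), (-1, 0), (-1, 1), (-1, 2), (0, -2), (0, -1), (0, 0), (0, 1), (0, 2), (1, -2), (1, -1), (1, 0), (1, 1), (2, -2), (2, -1), (2, 0), (2, 1), (3, -1)]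

/-- Pairs of small coordinates with their trace form. -/
def pairsD : List (Zt × Zt × ℤ) := [
  ((-3, 1), (0, 0), 15), ((-2, -1), (0, 0), 15), ((-2, 0), (-2, 0), 16), ((-2, 0), (-2, 1), 15),
  ((-2, 0), (-1, -1), 15), ((-2, 0), (-1, 0), 10), ((-2, 0), (-1, 1), 11), ((-2, 0), (0, -1), 11),
  ((-2, 0), (0, 0), 8), ((-2, 0), (0, 1), 11), ((-2, 0), (1, -1), 11), ((-2, 0), (1, 0), 10),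
  ((-2, 0), (1, 1), 15), ((-2, 0), (2, -1), 15), ((-2, 0), (2, 0), 16), ((-2, 1), (-2, 0), 15),
  ((-2, 1), (-2, 1), 14), ((-2, 1), (-1, -1), 14), ((-2, 1), (-1, 0), 9), ((-2, 1), (-1, 1), 10),
  ((-2, 1), (0, -1), 10), ((-2, 1), (0, 0), 7), ((-2, 1), (0, 1), 10), ((-2, 1), (1, -1), 10),
  ((-2, 1), (1, 0), 9), ((-2, 1), (1, 1), 14), ((-2, 1), (2, -1), 14), ((-2, 1), (2, 0), 15),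
  ((-2, 2), (-1, 0), 14), ((-2, 2), (-1, 1), 15), ((-2, 2), (0, -1), 15), ((-2, 2), (0, 0), 12),
  ((-2, 2), (0, 1), 15), ((-2, 2), (1, -1), 15), ((-2, 2), (1, 0), 14), ((-1, -1), (-2, 0), 15),
  ((-1, -1), (-2, 1), 14), ((-1, -1), (-1, -1), 14), ((-1, -1), (-1, 0), 9), ((-1, -1), (-1, 1), 10),
  ((-1, -1), (0, -1), 10), ((-1, -1), (0, 0), 7), ((-1, -1), (0, 1), 10), ((-1, -1), (1, -1), 10),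
  ((-1, -1), (1, 0), 9), ((-1, -1), (1, 1), 14), ((-1, -1), (2, -1), 14), ((-1, -1), (2, 0), 15),
  ((-1, 0), (-2, 0), 10), ((-1, 0), (-2, 1), 9), ((-1, 0), (-2, 2), 14), ((-1, 0), (-1, -1), 9),
  ((-1, 0), (-1, 0), 4), ((-1, 0), (-1, 1), 5), ((-1, 0), (-1, 2), 12), ((-1, 0), (0, -2), 14),
  ((-1, 0), (0, -1), 5), ((-1, 0), (0, 0), 2), ((-1, 0), (0, 1), 5), ((-1, 0), (0, 2), 14),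
  ((-1, 0), (1, -2), 12), ((-1, 0), (1, -1), 5), ((-1, 0), (1, 0), 4), ((-1, 0), (1, 1), 9),
  ((-1, 0), (2, -2), 14), ((-1, 0), (2, -1), 9), ((-1, 0), (2, 0), 10), ((-1, 1), (-2, 0), 11),
  ((-1, 1), (-2, 1), 10), ((-1, 1), (-2, 2), 15), ((-1, 1), (-1, -1), 10), ((-1, 1), (-1, 0), 5),
  ((-1, 1), (-1, 1), 6), ((-1, 1), (-1, 2), 13), ((-1, 1), (0, -2), 15), ((-1, 1), (0, -1), 6),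
  ((-1, 1), (0, 0), 3), ((-1, 1), (0, 1), 6), ((-1, 1), (0, 2), 15), ((-1, 1), (1, -2), 13),
  ((-1, 1), (1, -1), 6), ((-1, 1), (1, 0), 5), ((-1, 1), (1, 1), 10), ((-1, 1), (2, -2), 15),
  ((-1, 1), (2, -1), 10), ((-1, 1), (2, 0), 11), ((-1, 2), (-1, 0), 12), ((-1, 2), (-1, 1), 13),
  ((-1, 2), (0, -1), 13), ((-1, 2), (0, 0), 10), ((-1, 2), (0, 1), 13), ((-1, 2), (1, -1), 13),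
  ((-1, 2), (1, 0), 12), ((0, -2), (-1, 0), 14), ((0, -2), (-1, 1), 15), ((0, -2), (0, -1), 15),
  ((0, -2), (0, 0), 12), ((0, -2), (0, 1), 15), ((0, -2), (1, -1), 15), ((0, -2), (1, 0), 14),
  ((0, -1), (-2, 0), 11), ((0, -1), (-2, 1), 10), ((0, -1), (-2, 2), 15), ((0, -1), (-1, -1), 10),
  ((0, -1), (-1, 0), 5), ((0, -1), (-1, 1), 6), ((0, -1), (-1, 2), 13), ((0, -1), (0, -2), 15),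
  ((0, -1), (0, -1), 6), ((0, -1), (0, 0), 3), ((0, -1), (0, 1), 6), ((0, -1), (0, 2), 15),
  ((0, -1), (1, -2), 13), ((0, -1), (1, -1), 6), ((0, -1), (1, 0), 5), ((0, -1), (1, 1), 10),
  ((0, -1), (2, -2), 15), ((0, -1), (2, -1), 10), ((0, -1), (2, 0), 11), ((0, 0), (-3, 1), 15),
  ((0, 0), (-2, -1), 15), ((0, 0), (-2, 0), 8), ((0, 0), (-2, 1), 7), ((0, 0), (-2, 2), 12),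
  ((0, 0), (-1, -1), 7), ((0, 0), (-1, 0), 2), ((0, 0), (-1, 1), 3), ((0, 0), (-1, 2), 10),
  ((0, 0), (0, -2), 12), ((0, 0), (0, -1), 3), ((0, 0), (0, 0), 0), ((0, 0), (0, 1), 3),
  ((0, 0), (0, 2), 12), ((0, 0), (1, -2), 10), ((0, 0), (1, -1), 3), ((0, 0), (1, 0), 2),
  ((0, 0), (1, 1), 7), ((0, 0), (2, -2), 12), ((0, 0), (2, -1), 7), ((0, 0), (2, 0), 8),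
  ((0, 0), (2, 1), 15), ((0, 0), (3, -1), 15), ((0, 1), (-2, 0), 11), ((0, 1), (-2, 1), 10),
  ((0, 1), (-2, 2), 15), ((0, 1), (-1, -1), 10), ((0, 1), (-1, 0), 5), ((0, 1), (-1, 1), 6),
  ((0, 1), (-1, 2), 13), ((0, 1), (0, -2), 15), ((0, 1), (0, -1), 6), ((0, 1), (0, 0), 3),
  ((0, 1), (0, 1), 6), ((0, 1), (0, 2), 15), ((0, 1), (1, -2), 13), ((0, 1), (1, -1), 6),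
  ((0, 1), (1, 0), 5), ((0, 1), (1, 1), 10), ((0, 1), (2, -2), 15), ((0, 1), (2, -1), 10),
  ((0, 1), (2, 0), 11), ((0, 2), (-1, 0), 14), ((0, 2), (-1, 1), 15), ((0, 2), (0, -1), 15),
  ((0, 2), (0, 0), 12), ((0, 2), (0, 1), 15), ((0, 2), (1, -1), 15), ((0, 2), (1, 0), 14),
  ((1, -2), (-1, 0), 12), ((1, -2), (-1, 1), 13), ((1, -2), (0, -1), 13), ((1, -2), (0, 0), 10),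
  ((1, -2), (0, 1), 13), ((1, -2), (1, -1), 13), ((1, -2), (1, 0), 12), ((1, -1), (-2, 0), 11),
  ((1, -1), (-2, 1), 10), ((1, -1), (-2, 2), 15), ((1, -1), (-1, -1), 10), ((1, -1), (-1, 0), 5),
  ((1, -1), (-1, 1), 6), ((1, -1), (-1, 2), 13), ((1, -1), (0, -2), 15), ((1, -1), (0, -1), 6),
  ((1, -1), (0, 0), 3), ((1, -1), (0, 1), 6), ((1, -1), (0, 2), 15), ((1, -1), (1, -2), 13),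
  ((1, -1), (1, -1), 6), ((1, -1), (1, 0), 5), ((1, -1), (1, 1), 10), ((1, -1), (2, -2), 15),
  ((1, -1), (2, -1), 10), ((1, -1), (2, 0), 11), ((1, 0), (-2, 0), 10), ((1, 0), (-2, 1), 9),
  ((1, 0), (-2, 2), 14), ((1, 0), (-1, -1), 9), ((1, 0), (-1, 0), 4), ((1, 0), (-1, 1), 5),
  ((1, 0), (-1, 2), 12), ((1, 0), (0, -2), 14), ((1, 0), (0, -1), 5), ((1, 0), (0, 0), 2),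
  ((1, 0), (0, 1), 5), ((1, 0), (0, 2), 14), ((1, 0), (1, -2), 12), ((1, 0), (1, -1), 5),
  ((1, 0), (1, 0), 4), ((1, 0), (1, 1), 9), ((1, 0), (2, -2), 14), ((1, 0), (2, -1), 9),
  ((1, 0), (2, 0), 10), ((1, 1), (-2, 0), 15), ((1, 1), (-2, 1), 14), ((1, 1), (-1, -1), 14),
  ((1, 1), (-1, 0), 9), ((1, 1), (-1, 1), 10), ((1, 1), (0, -1), 10), ((1, 1), (0, 0), 7),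
  ((1, 1), (0, 1), 10), ((1, 1), (1, -1), 10), ((1, 1), (1, 0), 9), ((1, 1), (1, 1), 14),
  ((1, 1), (2, -1), 14), ((1, 1), (2, 0), 15), ((2, -2), (-1, 0), 14), ((2, -2), (-1, 1), 15),
  ((2, -2), (0, -1), 15), ((2, -2), (0, 0), 12), ((2, -2), (0, 1), 15), ((2, -2), (1, -1), 15),
  ((2, -2), (1, 0), 14), ((2, -1), (-2, 0), 15), ((2, -1), (-2, 1), 14), ((2, -1), (-1, -1), 14),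
  ((2, -1), (-1, 0), 9), ((2, -1), (-1, 1), 10), ((2, -1), (0, -1), 10), ((2, -1), (0, 0), 7),
  ((2, -1), (0, 1), 10), ((2, -1), (1, -1), 10), ((2, -1), (1, 0), 9), ((2, -1), (1, 1), 14),
  ((2, -1), (2, -1), 14), ((2, -1), (2, 0), 15), ((2, 0), (-2, 0), 16), ((2, 0), (-2, 1), 15),
  ((2, 0), (-1, -1), 15), ((2, 0), (-1, 0), 10), ((2, 0), (-1, 1), 11), ((2, 0), (0, -1), 11),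
  ((2, 0), (0, 0), 8), ((2, 0), (0, 1), 11), ((2, 0), (1, -1), 11), ((2, 0), (1, 0), 10),
  ((2, 0), (1, 1), 15), ((2, 0), (2, -1), 15), ((2, 0), (2, 0), 16), ((2, 1), (0, 0), 15),
  ((3, -1), (0, 0), 15)]

end CfsgLib.Char.J2
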