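import Cfsg.Agent.Lib.Char.J2.Table
import Cfsg.Agent.Lib.Char.J2.SmallData

/-!
The minimal vectors of the icosian Leech lattice are unit multiples of the 315 representatives.
-/

set_option autoImplicit false

namespace CfsgLib.Char.J2

open Quaternion Cfsg.Spor

/-- Sum of squares of the coordinates. -/
def nZ (x : Qt) : Zt := zadd (zadd (zmul x.a x.a) (zmul x.b x.b)) (zadd (zmul x.c x.c) (zmul x.d x.d))

/-- The rational trace. -/
def ztr (a : Zt) : ℤ := 2 * a.1 + a.2

/-- The trace form of one coordinate. -/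
def qf (a : Zt) : ℤ := 2 * a.1 * a.1 + 2 * a.1 * a.2 + 3 * a.2 * a.2

/-- The trace form. -/
def qT (x : Qt) : ℤ := ztr (nZ x)

theorem qT_eq (x : Qt) : qT x = qf x.a + qf x.b + qf x.c + qf x.d := by
  simp only [qT, ztr, nZ, zadd, zmul, qf]; ring

theorem qf_eq (a : Zt) : 5 * a.2 * a.2 + (2 * a.1 + a.2) * (2 * a.1 + a.2) = 2 * qf a := by
  simp only [qf]; ring

theorem qf_nonneg (a : Zt) : 0 ≤ qf a := by
  nlinarith [qf_eq a, mul_self_nonneg a.2, mul_self_nonneg (2 * a.1 + a.2)]

theorem qf_bound {a : Zt} (h : qf a ≤ 16) : -3 ≤ a.2 ∧ a.2 ≤ 3 ∧ -4 ≤ a.1 ∧ a.1 ≤ 4 := by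
  have e := qf_eq a
  have h1 : a.2 * a.2 ≤ 6 := by nlinarith [mul_self_nonneg (2 * a.1 + a.2)]
  have h2 : (2 * a.1 + a.2) * (2 * a.1 + a.2) ≤ 32 := by nlinarith [mul_self_nonneg a.2]
  have hq : -2 ≤ a.2 ∧ a.2 ≤ 2 := by constructor <;> nlinarith
  have hp : -5 ≤ 2 * a.1 + a.2 ∧ 2 * a.1 + a.2 ≤ 5 := by constructor <;> nlinarith
  omega

theorem toR_nZ (x : Qt) : toR (nZ x) = 4 * normSq (toQ x) := by
  rw [Quaternion.normSq_def']
  simp [nZ, toR_add, toR_mul]
  ring

theorem qT_eq_zero {x : Qt} (h : qT x = 0) : x = qzero := by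
  rw [qT_eq] at h
  have hz : ∀ a : Zt, qf a = 0 → a = (0, 0) := fun a ha => by
    have e := qf_eq a
    have h1 : a.2 = 0 := by nlinarith [mul_self_nonneg (2 * a.1 + a.2)]
    have h2 : 2 * a.1 + a.2 = 0 := by nlinarith [mul_self_nonneg a.2]
    exact Prod.ext (by show a.1 = 0; omega) h1
  have := qf_nonneg x.a; have := qf_nonneg x.b; have := qf_nonneg x.c; have := qf_nonneg x.d
  obtain ⟨a, b, c, d⟩ := x
  simp only at *
  rw [hz a (by omega), hz b (by omega), hz c (by omega), hz d (by omega)]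
  rfl

theorem qT_nonneg (x : Qt) : 0 ≤ qT x := by
  rw [qT_eq]
  have := qf_nonneg x.a; have := qf_nonneg x.b; have := qf_nonneg x.c; have := qf_nonneg x.d
  omega

/-- Small coordinates. -/
def cand : List Zt :=
  (([-4, -3, -2, -1, 0, 1, 2, 3, 4] : List ℤ).flatMap fun p =>
    ([-3, -2, -1, 0, 1, 2, 3] : List ℤ).map fun q => (p, q)).filter fun a => decide (qf a ≤ 16)

theorem cand_eq : cand = candD := by decide +kernel

theorem mem_cand {a : Zt} (h : qf a ≤ 16) : a ∈ cand := by
  obtain ⟨h1, h2, h3, h4⟩ := qf_bound h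
  simp only [cand, List.mem_filter, List.mem_flatMap, List.mem_map, decide_eq_true_eq]
  obtain ⟨p, q⟩ := a
  simp only at h1 h2 h3 h4
  refine ⟨⟨p, ?_, q, ?_, rfl⟩, h⟩
  · simp only [List.mem_cons, List.not_mem_nil, or_false]; omega
  · simp only [List.mem_cons, List.not_mem_nil, or_false]; omega

/-- The pairs, computed. -/
def pairs : List (Zt × Zt × ℤ) :=
  candD.flatMap fun a => (candD.filter fun b => decide (qf a + qf b ≤ 16)).map fun b =>
    (a, b, qf a + qf b)

theorem pairs_eq : pairs = pairsD := by decide +kernel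

/-- The icosians of trace form at most sixteen. -/
def small : List Qt :=
  pairsD.flatMap fun p => ((pairsD.filter fun r => decide (p.2.2 + r.2.2 ≤ 16)).map fun r =>
    Qt.mk p.1 p.2.1 r.1 r.2.1).filter isIco

theorem mem_small {x : Qt} (hi : isIco x = true) (h : qT x ≤ 16) : x ∈ small := by
  rw [qT_eq] at h
  obtain ⟨a, b, c, d⟩ := x
  have := qf_nonneg a; have := qf_nonneg b; have := qf_nonneg c; have := qf_nonneg d
  simp only at h
  have hp : ∀ {u v : Zt}, qf u + qf v ≤ 16 → (u, v, qf u + qf v) ∈ pairsD := by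
    intro u v huv
    have := qf_nonneg u; have := qf_nonneg v
    rw [← pairs_eq]
    simp only [pairs, List.mem_flatMap, List.mem_filter, List.mem_map, decide_eq_true_eq]
    exact ⟨u, cand_eq ▸ mem_cand (by omega), v, ⟨cand_eq ▸ mem_cand (by omega), huv⟩, rfl⟩
  simp only [small, List.mem_flatMap, List.mem_filter, List.mem_map, decide_eq_true_eq]
  exact ⟨(a, b, qf a + qf b), hp (by omega),
    ⟨(c, d, qf c + qf d), ⟨hp (by omega), (by omega : qf a + qf b + (qf c + qf d) ≤ 16)⟩, rfl⟩, hi⟩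

theorem small_eq : small = smallD := by decide +kernel

/-- The test of one unit. -/
def unitOK (u : Qt) : Bool :=
  decide (qmul u (qconj u) = qone) && decide (qmul (qconj u) u = qone)

theorem small_facts : (smallD.all fun x => decide (qT x = 0) || decide (8 ≤ qT x)) = true := by
  decide +kernel

theorem units_eq : units = smallD.filter fun x => decide (qT x = 8) := by decide +kernel

theorem units_check : (units.all fun u => isIco u && unitOK u && units.contains (qconj u)) = true := by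
  decide +kernel

theorem qT_ge {x : Qt} (hi : isIco x = true) (h : qT x ≠ 0) : 8 ≤ qT x := by
  by_cases h16 : qT x ≤ 16
  · have := small_facts
    simp only [List.all_eq_true, Bool.or_eq_true, decide_eq_true_eq] at this
    exact (this x (small_eq ▸ mem_small hi h16)).resolve_left h
  · omega

theorem mem_units {x : Qt} (hi : isIco x = true) (h : qT x = 8) : x ∈ units :=
  units_eq ▸ List.mem_filter.2 ⟨small_eq ▸ mem_small hi (by omega), by simp [h]⟩

theorem unit_facts {u : Qt} (hu : u ∈ units) : isIco u = true ∧ qconj u ∈ units ∧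
    toQ u * toQ (qconj u) = 1 ∧ toQ (qconj u) * toQ u = 1 := by
  have h := units_check
  simp only [Bool.and_eq_true, List.all_eq_true, unitOK, decide_eq_true_eq, List.contains_iff_mem] at h
  obtain ⟨⟨hi, h1, h2⟩, h3⟩ := h u hu
  refine ⟨hi, h3, ?_, ?_⟩
  · rw [← toQ_qmul hi (isIco_qconj hi), h1, toQ_one]
  · rw [← toQ_qmul (isIco_qconj hi) hi, h2, toQ_one]

theorem normSq_unit {u : Qt} (hu : u ∈ units) : normSq (toQ u) = 1 := by
  have h := (unit_facts hu).2.2.1
  rw [toQ_conj, Quaternion.self_mul_star] at h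
  rw [← Quaternion.coe_inj (R := ℝ), Quaternion.coe_one]
  exact h

theorem qip_self (t : Tr) :
    qip (toV t) (toV t) = ((normSq (toQ t.x) + normSq (toQ t.y) + normSq (toQ t.z) : ℝ) : ℍ[ℝ]) := by
  simp [qip, Fin.sum_univ_three, toV, Quaternion.self_mul_star]

/-- The norm condition. -/
def isMin (t : Tr) : Bool := memL t && decide (zadd (zadd (nZ t.x) (nZ t.y)) (nZ t.z) = (16, 0))

theorem isMin_iff {t : Tr} :
    isMin t = true ↔ toV t ∈ icoLeech ∧ qip (toV t) (toV t) = 4 := by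
  simp only [isMin, Bool.and_eq_true, decide_eq_true_eq, toV_mem_iff, qip_self]
  refine and_congr_right fun _ => ?_
  rw [show (4 : ℍ[ℝ]) = ((4 : ℝ) : ℍ[ℝ]) by norm_cast, Quaternion.coe_inj]
  constructor
  · intro h
    have h2 := congrArg toR h
    rw [toR_add, toR_add, toR_nZ, toR_nZ, toR_nZ] at h2
    simp [toR] at h2
    linarith
  · intro h
    refine toR_injective ?_
    rw [toR_add, toR_add, toR_nZ, toR_nZ, toR_nZ]
    simp [toR]
    linarith

theorem qT_sum_of_isMin {t : Tr} (h : isMin t = true) : qT t.x + qT t.y + qT t.z = 32 := by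
  simp only [isMin, Bool.and_eq_true, decide_eq_true_eq] at h
  have h1 := congrArg ztr h.2
  simp only [ztr, zadd] at h1
  simp only [qT, ztr]
  omega

/-- The canonical form of a minimal vector. -/
def canon (v : Tr) : Qt :=
  if qT v.x = 8 then v.x else if qT v.y = 8 then v.y else if qT v.z = 8 then v.z
  else if v.x ≠ qzero then
    (if v.y = qzero && v.z = qzero then qdiv 2 v.x else qdiv 4 (qm2 v.x (qconj qh)))
  else if v.y ≠ qzero then
    (if v.z = qzero then qdiv 2 v.y else qdiv 4 (qm2 v.y (qconj qh)))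
  else qdiv 2 v.z

/-- The test that a vector is a unit multiple of a representative. -/
def inTable (v : Tr) : Bool :=
  units.contains (canon v) && table.contains (tsmul (qconj (canon v)) v)

theorem inTable_sound {v : Tr} (hv : icoT v = true) (h : inTable v = true) :
    ∃ u ∈ units, ∃ L ∈ table, icoT L = true ∧ v = tsmul u L := by
  simp only [inTable, Bool.and_eq_true, List.contains_iff_mem] at h
  obtain ⟨hu, hL⟩ := h
  obtain ⟨hi, hc, h1, -⟩ := unit_facts hu
  have hi' := (unit_facts hc).1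
  refine ⟨_, hu, _, hL, icoT_tsmul hi' hv, toV_injective ?_⟩
  rw [toV_smul hi (icoT_tsmul hi' hv)]
  funext i
  rw [toV_smul hi' hv, ← mul_assoc, h1, one_mul]

theorem near1_eq : near1 = smallD.filter fun y =>
    decide (8 ≤ qT y) && divBy (qconj qh) (qadd qone (qneg y)) := by
  decide +kernel

theorem check_three : (near1.all fun y =>
    (near1.filter fun z => decide (qT y + qT z = 24)).all fun z =>
      (([⟨qone, y, z⟩, ⟨y, qone, z⟩, ⟨y, z, qone⟩] : List Tr).filter isMin).all inTable) = true := by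
  decide +kernel

theorem check_two : (units.all fun a =>
    (([⟨qh, qmul a qh, qzero⟩, ⟨qh, qzero, qmul a qh⟩, ⟨qzero, qh, qmul a qh⟩] : List Tr).filter
      isMin).all inTable) = true := by
  decide +kernel

theorem check_one : ((([⟨qsc 2 qone, qzero, qzero⟩, ⟨qzero, qsc 2 qone, qzero⟩,
    ⟨qzero, qzero, qsc 2 qone⟩] : List Tr).filter isMin).all inTable) = true := by
  decide +kernel

theorem memL_parts {t : Tr} (h : memL t = true) :
    isIco t.x = true ∧ isIco t.y = true ∧ isIco t.z = true ∧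
      toQ t.x - toQ t.y ∈ leftIdeal icoH ∧ toQ t.y - toQ t.z ∈ leftIdeal icoH ∧
      toQ t.x + toQ t.y + toQ t.z ∈ leftIdeal (star icoH) := by
  have hh := (toV_mem_iff t).2 h
  obtain ⟨h1, h2, h3⟩ := icoT_iff.1 (icoT_of_memL h)
  exact ⟨h1, h2, h3, hh.2.1, hh.2.2.1, hh.2.2.2⟩

theorem isMin_tsmul {u : Qt} {t : Tr} (hu : u ∈ units) (h : isMin t = true) :
    isMin (tsmul u t) = true := by
  have hui := (unit_facts hu).1
  have hm : memL t = true := ((Bool.and_eq_true _ _).mp h).1
  rw [isMin_iff] at h ⊢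
  obtain ⟨⟨hI, hxy, hyz, hs⟩, hn⟩ := h
  rw [toV_smul hui (icoT_of_memL hm)]
  have hmem := toQ_mem_icosians_iff.2 hui
  refine ⟨⟨fun i => mul_mem hmem (hI i), ?_, ?_, ?_⟩, ?_⟩
  · obtain ⟨a, ha, e⟩ := hxy
    exact ⟨toQ u * a, mul_mem hmem ha, by rw [← mul_sub, e, mul_assoc]⟩
  · obtain ⟨a, ha, e⟩ := hyz
    exact ⟨toQ u * a, mul_mem hmem ha, by rw [← mul_sub, e, mul_assoc]⟩
  · obtain ⟨a, ha, e⟩ := hs
    exact ⟨toQ u * a, mul_mem hmem ha, by rw [← mul_add, ← mul_add, e, mul_assoc]⟩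
  · have : qip (fun i => toQ u * toV t i) (fun i => toQ u * toV t i)
        = toQ u * qip (toV t) (toV t) * star (toQ u) := by
      simp only [qip, Finset.mul_sum, Finset.sum_mul]
      exact Finset.sum_congr rfl fun i _ => by rw [star_mul]; simp only [mul_assoc]
    rw [this, hn]
    have h4 : toQ u * 4 = 4 * toQ u := by
      rw [show (4 : ℍ[ℝ]) = ((4 : ℝ) : ℍ[ℝ]) by norm_cast]
      exact (Quaternion.coe_commutes _ _).symm
    rw [h4, mul_assoc, Quaternion.self_mul_star, normSq_unit hu, Quaternion.coe_one, mul_one]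

theorem qT_tsmul {u : Qt} {x : Qt} (hu : u ∈ units) (hx : isIco x = true) :
    qT (qmul u x) = qT x := by
  have : nZ (qmul u x) = nZ x := toR_injective (by
    rw [toR_nZ, toR_nZ, toQ_qmul (unit_facts hu).1 hx, map_mul, normSq_unit hu, one_mul])
  rw [qT, this, qT]

theorem eq_mul_qh {x : Qt} (h : toQ x ∈ leftIdeal icoH) :
    ∃ a, isIco a = true ∧ x = qmul a qh ∧ qT x = 2 * qT a := by
  obtain ⟨a', ha, e⟩ := h
  obtain ⟨a, hai, rfl⟩ := mem_icosians_iff.1 ha
  have hq : isIco qh = true := by decide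
  have ex : x = qmul a qh := toQ_injective (by rw [toQ_qmul hai hq, e, toQ_qh])
  refine ⟨a, hai, ex, ?_⟩
  have h2 : normSq (toQ qh) = 2 := by
    rw [← Quaternion.coe_inj (R := ℝ), ← Quaternion.self_mul_star, toQ_qh, icoH_mul_star.1]
    norm_cast
  have : nZ x = zadd (nZ a) (nZ a) := toR_injective (by
    rw [toR_add, toR_nZ, toR_nZ, ex, toQ_qmul hai hq, map_mul, h2]; ring)
  rw [qT, this, qT]
  simp only [ztr, zadd]
  ring

theorem eq_two_mul {x : Qt} (h1 : toQ x ∈ leftIdeal icoH) (h2 : toQ x ∈ leftIdeal (star icoH)) :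
    ∃ a, isIco a = true ∧ x = qsc 2 a := by
  obtain ⟨a', ha, ea⟩ := h1
  obtain ⟨b', hb, eb⟩ := h2
  obtain ⟨a, hai, rfl⟩ := mem_icosians_iff.1 ha
  obtain ⟨b, hbi, rfl⟩ := mem_icosians_iff.1 hb
  have hxi : isIco x = true :=
    toQ_mem_icosians_iff.1 (ea ▸ mul_mem ha (by
      rw [← toQ_qh]; exact toQ_mem_icosians_iff.2 (by decide)))
  set s : Qt := ⟨(-2, 4), (0, 0), (0, 0), (0, 0)⟩ with hs
  have hsi : isIco s = true := by decide
  have hq : isIco qh = true := by decide
  have hh : toQ qh * toQ qh = -(toQ s * toQ qh) - 2 := by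
    have e : qmul qh qh = qadd (qneg (qmul s qh)) (qneg (qsc 2 qone)) := by decide
    rw [← toQ_qmul hq hq, e, toQ_add, toQ_neg, toQ_neg, toQ_qmul hsi hq, toQ_sc, toQ_one,
      sub_eq_add_neg]
    congr 2
    rw [← one_add_one_eq_two (R := ℍ[ℝ])]
    norm_num [two_smul]
  have hsc : ∀ q : ℍ[ℝ], toQ s * q = q * toQ s := by
    intro q
    have : toQ s = ((Real.sqrt 5 : ℝ) : ℍ[ℝ]) := by
      ext <;> simp [hs, toR, sqrt_five_eq]; ring
    rw [this]
    exact Quaternion.coe_commutes _ _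
  have hcast5 : ((5 : ℝ) : ℍ[ℝ]) = 5 := by norm_cast
  have hss : toQ s * toQ s = 5 := by
    rw [← toQ_qmul hsi hsi, show qmul s s = qsc 5 qone by decide, toQ_sc, toQ_one,
      show ((5 : ℤ) : ℝ) = 5 by norm_num, ← hcast5, ← Quaternion.coe_mul_eq_smul, mul_one]
  have key : toQ s * toQ x + 2 * toQ a + 2 * toQ b = 0 := by
    have e1 : toQ x * toQ qh = 2 * toQ b := by
      rw [eb, toQ_qh, mul_assoc, icoH_mul_star.2, two_mul, mul_two]
    have e2 : toQ x * toQ qh = -(toQ s * toQ x) - 2 * toQ a := by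
      rw [ea, ← toQ_qh, mul_assoc, hh, mul_sub, mul_neg, ← mul_assoc, ← hsc, mul_assoc, mul_two,
        two_mul]
    rw [e1] at e2
    rw [e2]; abel
  refine ⟨qadd (qneg (qmul s (qadd a b))) (qneg (qsc 2 x)), ?_, toQ_injective ?_⟩
  · refine isIco_qadd (isIco_qneg (isIco_qmul hsi (isIco_qadd hai hbi)).1) (isIco_qneg ?_)
    rw [isIco_iff] at hxi ⊢
    simp only [qsc]
    omega
  rw [toQ_sc, toQ_add, toQ_neg, toQ_neg, toQ_qmul hsi (isIco_qadd hai hbi), toQ_add, toQ_sc]
  have k2 : toQ s * (toQ s * toQ x + 2 * toQ a + 2 * toQ b) = 0 := by rw [key, mul_zero]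
  simp only [mul_add, ← mul_assoc, hss, hsc 2] at k2
  simp only [Int.cast_ofNat, smul_add, smul_neg, smul_smul, mul_add]
  have h5 : (5 : ℍ[ℝ]) * toQ x = (5 : ℝ) • toQ x := by
    rw [← Quaternion.coe_mul_eq_smul, hcast5]
  have h22 : ∀ q : ℍ[ℝ], (2 : ℍ[ℝ]) * toQ s * q = (2 : ℝ) • (toQ s * q) := by
    intro q
    rw [← Quaternion.coe_mul_eq_smul, mul_assoc, show ((2 : ℝ) : ℍ[ℝ]) = 2 by norm_cast]
  rw [h5, h22, h22] at k2
  linear_combination (norm := module) k2

theorem one_of_normalised {t : Tr} (hm : isMin t = true)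
    (h : t.x = qone ∨ t.y = qone ∨ t.z = qone) (h0 : qT t.x ≠ 0) (h1 : qT t.y ≠ 0)
    (h2 : qT t.z ≠ 0) : inTable t = true := by
  have hs := qT_sum_of_isMin hm
  obtain ⟨hx, hy, hz, hxy, hyz, -⟩ := memL_parts ((Bool.and_eq_true _ _).mp hm).1
  have h8 : qT qone = 8 := by decide
  have hxz : toQ t.x - toQ t.z ∈ leftIdeal icoH := by
    obtain ⟨a, ha, e⟩ := hxy
    obtain ⟨b, hb, e'⟩ := hyz
    exact ⟨a + b, add_mem ha hb, by rw [add_mul, ← e, ← e']; abel⟩
  have hneg : ∀ {p q : ℍ[ℝ]}, p - q ∈ leftIdeal icoH → q - p ∈ leftIdeal icoH := by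
    rintro p q ⟨a, ha, e⟩
    exact ⟨-a, neg_mem ha, by rw [neg_mul, ← e]; abel⟩
  have mk : ∀ {w : Qt}, isIco w = true → qT w ≤ 16 → 8 ≤ qT w →
      toQ qone - toQ w ∈ leftIdeal icoH → w ∈ near1 := by
    intro w hw hle hge hd
    rw [near1_eq]
    refine List.mem_filter.2 ⟨small_eq ▸ mem_small hw hle, ?_⟩
    simp only [Bool.and_eq_true, decide_eq_true_eq]
    exact ⟨hge, (mem_Ih_iff _).1 (by rw [toQ_add, toQ_neg, ← sub_eq_add_neg]; exact hd)⟩
  have hc := check_three
  simp only [List.all_eq_true, List.mem_filter] at hc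
  obtain ⟨x, y, z⟩ := t
  simp only at h hs hx hy hz hxy hyz hxz h0 h1 h2
  have := qT_ge hx h0; have := qT_ge hy h1; have := qT_ge hz h2
  simp only [decide_eq_true_eq] at hc
  rcases h with rfl | rfl | rfl
  · exact hc y (mk hy (by omega) (by omega) hxy) z ⟨mk hz (by omega) (by omega) hxz, by omega⟩ _
      ⟨by simp, hm⟩
  · exact hc x (mk hx (by omega) (by omega) (hneg hxy)) z ⟨mk hz (by omega) (by omega) hyz, by omega⟩ _
      ⟨by simp, hm⟩
  · exact hc x (mk hx (by omega) (by omega) (hneg hxz)) y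
      ⟨mk hy (by omega) (by omega) (hneg hyz), by omega⟩ _ ⟨by simp, hm⟩

theorem classify_normalised {t : Tr} (hm : isMin t = true) :
    ∃ u ∈ units, inTable (tsmul u t) = true := by
  have hs := qT_sum_of_isMin hm
  have hL := ((Bool.and_eq_true _ _).mp hm).1
  have hI := icoT_of_memL hL
  obtain ⟨hx, hy, hz, hxy, hyz, hsum⟩ := memL_parts hL
  have conjU : ∀ {w : Qt}, w ∈ units → qconj w ∈ units ∧ qmul (qconj w) w = qone := fun hw =>
    ⟨(unit_facts hw).2.1, toQ_injective (by
      rw [toQ_qmul (unit_facts (unit_facts hw).2.1).1 (unit_facts hw).1, (unit_facts hw).2.2.2,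
        toQ_one])⟩
  have hneg : ∀ {q : ℍ[ℝ]}, -q ∈ leftIdeal icoH → q ∈ leftIdeal icoH := by
    rintro q ⟨a, ha, e⟩
    exact ⟨-a, neg_mem ha, by rw [neg_mul, ← e, neg_neg]⟩
  have hu1 : qone ∈ units := mem_units (by decide) (by decide)
  have hc1 := check_one
  have hc2 := check_two
  simp only [List.all_eq_true, List.mem_filter] at hc1 hc2
  have pair : ∀ {a b : Qt}, isIco a = true → isIco b = true → qT (qmul a qh) + qT (qmul b qh) = 32 →
      qT (qmul a qh) ≠ 0 → qT (qmul b qh) ≠ 0 →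
      qmul (qconj a) (qmul a qh) = qh ∧ qmul (qconj a) (qmul b qh) = qmul (qmul (qconj a) b) qh ∧
        qmul (qconj a) b ∈ units ∧ qconj a ∈ units := by
    intro a b ha hb hsum ha0 hb0
    have hq : isIco qh = true := by decide
    have e : ∀ {c : Qt}, isIco c = true → qT (qmul c qh) = 2 * qT c := by
      intro c hc
      obtain ⟨a', ha', e1, e2⟩ := eq_mul_qh (x := qmul c qh)
        ⟨toQ c, toQ_mem_icosians_iff.2 hc, by rw [toQ_qmul hc hq, toQ_qh]⟩
      have : a' = c := by
        refine toQ_injective ?_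
        have e3 := congrArg (fun w => toQ w * star icoH) e1
        simp only [toQ_qmul hc hq, toQ_qmul ha' hq, toQ_qh, mul_assoc, icoH_mul_star.1] at e3
        rw [mul_two, mul_two, ← two_smul ℝ, ← two_smul ℝ] at e3
        exact (smul_right_injective _ (two_ne_zero : (2 : ℝ) ≠ 0) e3).symm
      rw [e2, this]
    rw [e ha] at hsum ha0
    rw [e hb] at hsum hb0
    have := qT_ge ha (by omega); have := qT_ge hb (by omega)
    have hau := mem_units ha (by omega)
    obtain ⟨hcu, hcm⟩ := conjU hau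
    have hci := (unit_facts hcu).1
    refine ⟨?_, ?_, mem_units (isIco_qmul hci hb).1 (by rw [qT_tsmul hcu hb]; omega), hcu⟩
    · refine toQ_injective ?_
      rw [toQ_qmul hci (isIco_qmul ha hq).1, toQ_qmul ha hq, ← mul_assoc, (unit_facts hau).2.2.2,
        one_mul]
    · refine toQ_injective ?_
      rw [toQ_qmul hci (isIco_qmul hb hq).1, toQ_qmul hb hq, toQ_qmul (isIco_qmul hci hb).1 hq,
        toQ_qmul hci hb, mul_assoc]
  have single : ∀ {w : Qt}, toQ w ∈ leftIdeal icoH → toQ w ∈ leftIdeal (star icoH) → qT w = 32 →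
      ∃ u ∈ units, qmul u w = qsc 2 qone := by
    intro w h1 h2 h32
    obtain ⟨a, ha, rfl⟩ := eq_two_mul h1 h2
    have : qT (qsc 2 a) = 4 * qT a := by simp only [qT_eq, qf, qsc]; ring
    have hau := mem_units ha (by omega)
    have ha2 : isIco (qsc 2 a) = true := by
      rw [isIco_iff] at ha ⊢
      simp only [qsc]
      omega
    refine ⟨_, (conjU hau).1, toQ_injective ?_⟩
    rw [toQ_qmul (unit_facts (conjU hau).1).1 ha2, toQ_sc, toQ_sc, toQ_one, mul_smul_comm,
      (unit_facts hau).2.2.2]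
  have hz0 : qT qzero = 0 := by decide
  by_cases h0 : qT t.x = 0 <;> by_cases h1 : qT t.y = 0 <;> by_cases h2 : qT t.z = 0
  all_goals obtain ⟨x, y, z⟩ := t
  all_goals simp only at *
  · omega
  · obtain rfl := qT_eq_zero h0
    obtain rfl := qT_eq_zero h1
    rw [toQ_zero, zero_sub] at hyz
    rw [toQ_zero, zero_add, zero_add] at hsum
    obtain ⟨u, hu, e⟩ := single (hneg hyz) hsum (by omega)
    refine ⟨u, hu, ?_⟩
    have hui := (unit_facts hu).1
    have ez : qmul u qzero = qzero := toQ_injective (by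
      rw [toQ_qmul hui (by decide), toQ_zero, mul_zero])
    have hm' := isMin_tsmul hu hm
    simp only [tsmul, ez, e] at hm' ⊢
    exact hc1 _ ⟨by simp, hm'⟩
  · obtain rfl := qT_eq_zero h0
    obtain rfl := qT_eq_zero h2
    rw [toQ_zero, sub_zero] at hyz
    rw [toQ_zero, zero_add, add_zero] at hsum
    obtain ⟨u, hu, e⟩ := single hyz hsum (by omega)
    refine ⟨u, hu, ?_⟩
    have hui := (unit_facts hu).1
    have ez : qmul u qzero = qzero := toQ_injective (by
      rw [toQ_qmul hui (by decide), toQ_zero, mul_zero])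
    have hm' := isMin_tsmul hu hm
    simp only [tsmul, ez, e] at hm' ⊢
    exact hc1 _ ⟨by simp, hm'⟩
  · obtain rfl := qT_eq_zero h0
    rw [toQ_zero, zero_sub] at hxy
    have hyI := hneg hxy
    have hzI : toQ z ∈ leftIdeal icoH := by
      obtain ⟨a, ha, e⟩ := hyI
      obtain ⟨b, hb, e'⟩ := hyz
      exact ⟨a - b, sub_mem ha hb, by rw [sub_mul, ← e, ← e']; abel⟩
    obtain ⟨a, ha, rfl, -⟩ := eq_mul_qh hyI
    obtain ⟨b, hb, rfl, -⟩ := eq_mul_qh hzI
    obtain ⟨e1, e2, hu', hcu⟩ := pair ha hb (by omega) h1 h2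
    refine ⟨_, hcu, ?_⟩
    have ez : qmul (qconj a) qzero = qzero := toQ_injective (by
      rw [toQ_qmul (unit_facts hcu).1 (by decide), toQ_zero, mul_zero])
    have hm' := isMin_tsmul hcu hm
    simp only [tsmul, ez, e1, e2] at hm' ⊢
    exact hc2 _ hu' _ ⟨by simp, hm'⟩
  · obtain rfl := qT_eq_zero h1
    obtain rfl := qT_eq_zero h2
    rw [toQ_zero, sub_zero] at hxy
    rw [toQ_zero, add_zero, add_zero] at hsum
    obtain ⟨u, hu, e⟩ := single hxy hsum (by omega)
    refine ⟨u, hu, ?_⟩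
    have hui := (unit_facts hu).1
    have ez : qmul u qzero = qzero := toQ_injective (by
      rw [toQ_qmul hui (by decide), toQ_zero, mul_zero])
    have hm' := isMin_tsmul hu hm
    simp only [tsmul, ez, e] at hm' ⊢
    exact hc1 _ ⟨by simp, hm'⟩
  · obtain rfl := qT_eq_zero h1
    rw [toQ_zero, sub_zero] at hxy
    rw [toQ_zero, zero_sub] at hyz
    obtain ⟨a, ha, rfl, -⟩ := eq_mul_qh hxy
    obtain ⟨b, hb, rfl, -⟩ := eq_mul_qh (hneg hyz)
    obtain ⟨e1, e2, hu', hcu⟩ := pair ha hb (by omega) h0 h2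
    refine ⟨_, hcu, ?_⟩
    have ez : qmul (qconj a) qzero = qzero := toQ_injective (by
      rw [toQ_qmul (unit_facts hcu).1 (by decide), toQ_zero, mul_zero])
    have hm' := isMin_tsmul hcu hm
    simp only [tsmul, ez, e1, e2] at hm' ⊢
    exact hc2 _ hu' _ ⟨by simp, hm'⟩
  · obtain rfl := qT_eq_zero h2
    rw [toQ_zero, sub_zero] at hyz
    have hxI : toQ x ∈ leftIdeal icoH := by
      obtain ⟨a, ha, e⟩ := hxy
      obtain ⟨b, hb, e'⟩ := hyz
      exact ⟨a + b, add_mem ha hb, by rw [add_mul, ← e, ← e']; abel⟩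
    obtain ⟨a, ha, rfl, -⟩ := eq_mul_qh hxI
    obtain ⟨b, hb, rfl, -⟩ := eq_mul_qh hyz
    obtain ⟨e1, e2, hu', hcu⟩ := pair ha hb (by omega) h0 h1
    refine ⟨_, hcu, ?_⟩
    have ez : qmul (qconj a) qzero = qzero := toQ_injective (by
      rw [toQ_qmul (unit_facts hcu).1 (by decide), toQ_zero, mul_zero])
    have hm' := isMin_tsmul hcu hm
    simp only [tsmul, ez, e1, e2] at hm' ⊢
    exact hc2 _ hu' _ ⟨by simp, hm'⟩
  · have := qT_ge hx h0; have := qT_ge hy h1; have := qT_ge hz h2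
    have hw : qT x = 8 ∨ qT y = 8 ∨ qT z = 8 := by
      by_cases h10 : qT x ≤ 10 ∨ qT y ≤ 10 ∨ qT z ≤ 10
      · have h12 : ∀ w ∈ small, qT w ≤ 10 → 8 ≤ qT w → qT w = 8 := by
          rw [small_eq]
          have : (smallD.all fun w => decide (10 < qT w) || decide (qT w < 8) || decide (qT w = 8))
              = true := by decide +kernel
          simp only [List.all_eq_true, Bool.or_eq_true, decide_eq_true_eq] at this
          intro w hw hle hge
          rcases this w hw with (h | h) | h <;> omega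
        rcases h10 with h | h | h
        · exact Or.inl (h12 _ (mem_small hx (by omega)) h (by omega))
        · exact Or.inr (Or.inl (h12 _ (mem_small hy (by omega)) h (by omega)))
        · exact Or.inr (Or.inr (h12 _ (mem_small hz (by omega)) h (by omega)))
      · push_neg at h10
        omega
    obtain ⟨u, hu, hone⟩ : ∃ u ∈ units, qmul u x = qone ∨ qmul u y = qone ∨ qmul u z = qone := by
      rcases hw with h | h | h
      · exact ⟨_, (conjU (mem_units hx h)).1, Or.inl (conjU (mem_units hx h)).2⟩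
      · exact ⟨_, (conjU (mem_units hy h)).1, Or.inr (Or.inl (conjU (mem_units hy h)).2)⟩
      · exact ⟨_, (conjU (mem_units hz h)).1, Or.inr (Or.inr (conjU (mem_units hz h)).2)⟩
    refine ⟨u, hu, one_of_normalised (isMin_tsmul hu hm) hone ?_ ?_ ?_⟩
    · rw [tsmul]; simpa [qT_tsmul hu hx] using h0
    · rw [tsmul]; simpa [qT_tsmul hu hy] using h1
    · rw [tsmul]; simpa [qT_tsmul hu hz] using h2

/-- Every minimal vector is a unit multiple of a representative. -/
theorem exists_rep {v : Fin 3 → ℍ[ℝ]} (hv : v ∈ icoLeech) (hn : qip v v = 4) :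
    ∃ L ∈ table, ∃ c : ℍ[ℝ], c ∈ icosians ∧ normSq c = 1 ∧ v = fun i => c * toV L i := by
  obtain ⟨t, ht, rfl⟩ := exists_tr_of_mem hv
  have hm : isMin t = true := isMin_iff.2 ⟨hv, hn⟩
  obtain ⟨u, hu, hu'⟩ := classify_normalised hm
  have hI := icoT_of_memL ht
  have hui := (unit_facts hu).1
  obtain ⟨w, hw, L, hL, hLi, e⟩ := inTable_sound (icoT_tsmul hui hI) hu'
  refine ⟨L, hL, star (toQ u) * toQ w, ?_, ?_, ?_⟩
  · rw [← toQ_conj]
    exact mul_mem (toQ_mem_icosians_iff.2 (isIco_qconj hui))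
      (toQ_mem_icosians_iff.2 (unit_facts hw).1)
  · rw [map_mul, Quaternion.normSq_star, normSq_unit hu, normSq_unit hw, one_mul]
  · funext i
    have e' := congrArg (fun s => toV s i) e
    simp only [toV_smul hui hI, toV_smul (unit_facts hw).1 hLi] at e'
    rw [mul_assoc, ← e', ← mul_assoc, ← toQ_conj, (unit_facts hu).2.2.2, one_mul]

end CfsgLib.Char.J2
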