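/-!
The elements of the two-core of a reflection centraliser in J2, as words.
-/

namespace CfsgLib.Char.J2

/-- Words for the thirty-two elements fixing every frame through the first line. -/
def coreWords : List (List Nat) :=
  [[],
   [0, 3, 1, 2, 3, 2, 1, 3],
   [3, 2, 1, 2, 3, 0, 1, 2, 1],
   [0],
   [3, 2, 1, 2, 3, 0, 1, 2, 1, 0, 3, 1, 2, 3, 2, 1, 3],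
   [0, 0, 3, 1, 2, 3, 2, 1, 3],
   [0, 3, 2, 1, 2, 3, 0, 1, 2, 1],
   [3, 2, 1, 2, 3, 0, 1, 2, 1, 0],
   [1, 3, 0, 1, 2, 1, 3, 0, 1, 2, 1, 3, 0, 1, 2, 0, 1, 3, 0, 1, 2, 1, 3, 0, 1, 2, 0],
   [1, 3, 0, 1, 2, 1, 3, 0, 1, 2, 0, 1, 3, 0, 1, 2, 1, 3, 0, 1, 2, 1, 3, 0, 1, 2, 0],
   [1, 3, 0, 1, 2, 1, 3, 0, 1, 2, 1, 3, 0, 1, 2, 1, 3, 0, 1, 2, 0, 1, 3, 0, 1, 2],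
   [1, 3, 0, 1, 2, 1, 3, 0, 1, 2, 1, 3, 0, 1, 2, 1, 3, 0, 1, 2, 0, 1, 3, 0, 1, 2, 0],
   [1, 3, 0, 1, 2, 1, 3, 0, 1, 2, 0, 1, 3, 0, 1, 2, 1, 3, 0, 1, 2, 1, 3, 0, 1, 2],
   [1, 3, 0, 1, 2, 1, 3, 0, 1, 2, 1, 3, 0, 1, 2, 0, 1, 3, 0, 1, 2, 1, 3, 0, 1, 2],
   [1, 0, 2, 3, 1, 2, 1, 1, 0, 2, 3, 1, 2, 1, 1, 0, 2, 3, 1, 2, 1],
   [1, 3, 0, 1, 2, 1, 3, 0, 1, 2, 1, 3, 0, 1, 2, 0, 1, 3, 0, 1, 2, 1, 3, 0, 1, 2, 0, 0, 3, 1, 2, 3, 2, 1, 3],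
   [1, 3, 0, 1, 2, 1, 3, 0, 1, 2, 0, 1, 3, 0, 1, 2, 1, 3, 0, 1, 2, 1, 3, 0, 1, 2, 0, 0, 3, 1, 2, 3, 2, 1, 3],
   [1, 3, 0, 1, 2, 1, 3, 0, 1, 2, 1, 3, 0, 1, 2, 1, 3, 0, 1, 2, 0, 1, 3, 0, 1, 2, 0, 3, 1, 2, 3, 2, 1, 3],
   [1, 3, 0, 1, 2, 1, 3, 0, 1, 2, 1, 3, 0, 1, 2, 1, 3, 0, 1, 2, 0, 1, 3, 0, 1, 2, 0, 0, 3, 1, 2, 3, 2, 1, 3],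
   [1, 3, 0, 1, 2, 1, 3, 0, 1, 2, 0, 1, 3, 0, 1, 2, 1, 3, 0, 1, 2, 1, 3, 0, 1, 2, 0, 3, 1, 2, 3, 2, 1, 3],
   [1, 3, 0, 1, 2, 1, 3, 0, 1, 2, 1, 3, 0, 1, 2, 0, 1, 3, 0, 1, 2, 1, 3, 0, 1, 2, 0, 3, 2, 1, 2, 3, 0, 1, 2, 1],
   [1, 3, 0, 1, 2, 1, 3, 0, 1, 2, 0, 1, 3, 0, 1, 2, 1, 3, 0, 1, 2, 1, 3, 0, 1, 2, 0, 3, 2, 1, 2, 3, 0, 1, 2, 1],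
   [1, 3, 0, 1, 2, 1, 3, 0, 1, 2, 1, 3, 0, 1, 2, 1, 3, 0, 1, 2, 0, 1, 3, 0, 1, 2, 3, 2, 1, 2, 3, 0, 1, 2, 1],
   [1, 3, 0, 1, 2, 1, 3, 0, 1, 2, 1, 3, 0, 1, 2, 1, 3, 0, 1, 2, 0, 1, 3, 0, 1, 2, 0, 3, 2, 1, 2, 3, 0, 1, 2, 1],
   [1, 3, 0, 1, 2, 1, 3, 0, 1, 2, 0, 1, 3, 0, 1, 2, 1, 3, 0, 1, 2, 1, 3, 0, 1, 2, 3, 2, 1, 2, 3, 0, 1, 2, 1],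
   [1, 3, 0, 1, 2, 1, 3, 0, 1, 2, 1, 3, 0, 1, 2, 0, 1, 3, 0, 1, 2, 1, 3, 0, 1, 2, 3, 2, 1, 2, 3, 0, 1, 2, 1],
   [1, 3, 0, 1, 2, 1, 3, 0, 1, 2, 0, 1, 3, 0, 1, 2, 1, 3, 0, 1, 2, 1, 3, 0, 1, 2, 1, 3, 0, 1, 2, 0, 1, 3, 0, 1, 2, 1, 3, 0, 1, 2, 1, 3, 0, 1, 2, 1, 3, 0, 1, 2, 0],
   [1, 3, 0, 1, 2, 1, 3, 0, 1, 2, 1, 3, 0, 1, 2, 1, 3, 0, 1, 2, 0, 1, 3, 0, 1, 2, 1, 3, 0, 1, 2, 0, 1, 3, 0, 1, 2, 1, 3, 0, 1, 2, 1, 3, 0, 1, 2, 1, 3, 0, 1, 2, 0],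
   [1, 3, 0, 1, 2, 1, 3, 0, 1, 2, 1, 3, 0, 1, 2, 0, 1, 3, 0, 1, 2, 1, 3, 0, 1, 2, 1, 3, 0, 1, 2, 0, 1, 3, 0, 1, 2, 1, 3, 0, 1, 2, 1, 3, 0, 1, 2, 1, 3, 0, 1, 2, 0],
   [1, 3, 0, 1, 2, 1, 3, 0, 1, 2, 1, 3, 0, 1, 2, 1, 3, 0, 1, 2, 0, 1, 3, 0, 1, 2, 1, 3, 0, 1, 2, 1, 3, 0, 1, 2, 1, 3, 0, 1, 2, 0, 1, 3, 0, 1, 2, 1, 3, 0, 1, 2, 0],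
   [3, 2, 1, 2, 3, 0, 1, 2, 1, 1, 3, 0, 1, 2, 1, 3, 0, 1, 2, 1, 3, 0, 1, 2, 0, 1, 3, 0, 1, 2, 1, 3, 0, 1, 2, 0],
   [1, 3, 0, 1, 2, 1, 3, 0, 1, 2, 0, 1, 3, 0, 1, 2, 0, 1, 3, 0, 1, 2, 1, 3, 0, 1, 2, 0]]

end CfsgLib.Char.J2
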