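import Cfsg.Agent.Lib.Char.J2.Hundred

/-!
Every element of J2 is conjugate to one of 21 representatives: element orders and simplicity.
-/

set_option autoImplicit false
set_option maxRecDepth 10000

namespace CfsgLib.Char.J2

open Cfsg.Spor

/-- The image of a point under the element with a given code. -/
def appC (e x : ℕ) : ℕ := appE (e / 6048) (e / 96 % 63) (e / 3 % 32) (e % 3) x

/-- The indices of a code. -/
def idxOf (e : ℕ) : Idx :=
  (⟨e / 6048 % 100, Nat.mod_lt _ (by norm_num)⟩, ⟨e / 96 % 63, Nat.mod_lt _ (by norm_num)⟩,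
    ⟨e / 3 % 32, Nat.mod_lt _ (by norm_num)⟩, ⟨e % 3, Nat.mod_lt _ (by norm_num)⟩)

/-- The element of a code. -/
noncomputable def el (e : ℕ) : ↥P100 := elem (idxOf e)

theorem el_apply {e : ℕ} (he : e < 604800) (x : Fin 100) : ((el e).1 x).1 = appC e x.1 := by
  rw [el, elem_apply]
  simp only [idxOf, appC]
  rw [Nat.mod_eq_of_lt (a := e / 6048) (by omega)]

theorem exists_el (g : ↥P100) : ∃ e < 604800, el e = g := by
  obtain ⟨⟨a, b, c, d⟩, rfl⟩ := elem_bijective.2 g
  have := a.2; have := b.2; have := c.2; have := d.2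
  refine ⟨((a.1 * 63 + b.1) * 32 + c.1) * 3 + d.1, by omega, ?_⟩
  rw [el]
  congr 1
  refine Prod.ext (Fin.ext ?_) (Prod.ext (Fin.ext ?_) (Prod.ext (Fin.ext ?_) (Fin.ext ?_))) <;>
    simp only [idxOf] <;> omega

theorem el_zero : el 0 = 1 := by
  refine eq_of_base fun j => Fin.ext ?_
  rw [el_apply (by norm_num)]
  have h : ∀ j : Fin 4, appC 0 (bpt j.1) = bpt j.1 := by decide +kernel
  exact h j

/-- The code of a representative. -/
def repC (r : ℕ) : ℕ := classReps.getD r 0

theorem repC_lt : ((List.range 21).all fun r => decide (repC r < 604800)) = true := by decide +kernel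

theorem repC_lt' {r : ℕ} (hr : r < 21) : repC r < 604800 := by
  have h := repC_lt
  simp only [List.all_eq_true, List.mem_range, decide_eq_true_eq] at h
  exact h r hr

/-- The stored witness. -/
def witOf (W h : ℕ) : ℕ := (W >>> (25 * h)) &&& (2 ^ 25 - 1)

/-- The test of one witness. -/
def witOK (W s h : ℕ) : Bool :=
  let w := witOf W h
  let c := w &&& (2 ^ 20 - 1)
  decide (w >>> 20 < 21) && decide (c < 604800) &&
    (List.range 4).all fun j =>
      appC c (appC (repC (w >>> 20)) (bpt j)) == tA 0 s (appC h (appC c (bpt j)))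

theorem wit_check0 : ((List.range 6048).all fun h => witOK classWit0 (subRep.getD 0 0) h) = true := by
  decide +kernel

theorem wit_check1 : ((List.range 6048).all fun h => witOK classWit1 (subRep.getD 1 0) h) = true := by
  decide +kernel

theorem wit_check2 : ((List.range 6048).all fun h => witOK classWit2 (subRep.getD 2 0) h) = true := by
  decide +kernel

theorem sub_check : ((List.range 100).all fun i =>
    let p := subOrbit.getD i (0, 0)
    decide (p.1 < 3) && decide (p.2 < 6048) && decide (subRep.getD p.1 0 < 100) &&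
      decide (appC p.2 (tA 0 (subRep.getD p.1 0) 0) = i)) = true := by
  decide +kernel

theorem el_fix_zero {h : ℕ} (hh : h < 6048) : (el h).1 0 = 0 := by
  refine Fin.ext ?_
  rw [el_apply (by omega)]
  have hb := base_check
  simp only [List.all_eq_true, List.mem_range, Bool.and_eq_true, decide_eq_true_eq] at hb
  show appC h (bpt 0) = bpt 0
  simp only [appC, appE]
  rw [show h / 6048 = 0 by omega, (hb 3 (by norm_num)).2 (h % 3) (Nat.mod_lt _ (by norm_num)) 0 (by norm_num),
    (hb 2 (by norm_num)).2 (h / 3 % 32) (Nat.mod_lt _ (by norm_num)) 0 (by norm_num),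
    (hb 1 (by norm_num)).2 (h / 96 % 63) (Nat.mod_lt _ (by norm_num)) 0 (by norm_num)]
  have h0 : tA 0 0 (bpt 0) = bpt 0 := by decide +kernel
  exact h0

theorem exists_el_of_fix {g : ↥P100} (hg : g.1 0 = 0) : ∃ h < 6048, el h = g := by
  obtain ⟨e, he, rfl⟩ := exists_el g
  refine ⟨e, ?_, rfl⟩
  by_contra hcon
  have hb := base_check
  simp only [List.all_eq_true, List.mem_range, Bool.and_eq_true, decide_eq_true_eq] at hb
  have h := congrArg Fin.val hg
  rw [el_apply he] at h
  change appC e (bpt 0) = bpt 0 at h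
  simp only [appC, appE] at h
  rw [(hb 3 (by norm_num)).2 (e % 3) (Nat.mod_lt _ (by norm_num)) 0 (by norm_num),
    (hb 2 (by norm_num)).2 (e / 3 % 32) (Nat.mod_lt _ (by norm_num)) 0 (by norm_num),
    (hb 1 (by norm_num)).2 (e / 96 % 63) (Nat.mod_lt _ (by norm_num)) 0 (by norm_num)] at h
  have h0 : tA 0 0 (bpt 0) = bpt 0 := by decide +kernel
  have := List.inj_on_of_nodup_map (hb 0 (by norm_num)).1
    (List.mem_range.2 (show e / 6048 < orbLen 0 by show e / 6048 < 100; omega))
    (List.mem_range.2 (show 0 < orbLen 0 by show 0 < 100; omega)) (h.trans h0.symm)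
  omega

/-- The transversal element of an index at the first level. -/
noncomputable def top0 (s : ℕ) : ↥P100 := tr100 0 ⟨s % 100, Nat.mod_lt _ (by norm_num)⟩

theorem exists_conj_rep (g : ↥P100) : ∃ r < 21, ∃ c : ↥P100, c * el (repC r) * c⁻¹ = g := by
  set i := g.1 0 with hi
  have hsub := sub_check
  simp only [List.all_eq_true, List.mem_range, Bool.and_eq_true, decide_eq_true_eq] at hsub
  obtain ⟨⟨⟨ha, hh⟩, hs⟩, he⟩ := hsub i.1 i.2
  set a := (subOrbit.getD i.1 (0, 0)).1
  set hc := (subOrbit.getD i.1 (0, 0)).2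
  set s := subRep.getD a 0
  set k := el hc with hk
  set t := top0 s with ht
  have htv : ∀ x : Fin 100, (t.1 x).1 = tA 0 s x.1 := by
    intro x
    rw [ht, top0]
    refine (tr0_apply ⟨s % 100, Nat.mod_lt _ (by norm_num)⟩ x).trans ?_
    rw [Fin.val_mk, Nat.mod_eq_of_lt hs]
  have hki : k.1 (t.1 0) = i := by
    refine Fin.ext ?_
    rw [hk, el_apply (by omega), htv]
    exact he
  obtain ⟨h, hh', e⟩ := exists_el_of_fix (g := t⁻¹ * (k⁻¹ * g * k)) (by
    show t.1⁻¹ (k.1⁻¹ (g.1 (k.1 0))) = 0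
    rw [hk, el_fix_zero hh, ← hi, ← hki]
    simp [hk])
  have key : ∀ a < 3, ∀ h < 6048, ∃ W, witOK W (subRep.getD a 0) h = true := by
    intro a ha h hh
    have w0 := wit_check0; have w1 := wit_check1; have w2 := wit_check2
    simp only [List.all_eq_true, List.mem_range] at w0 w1 w2
    interval_cases a
    · exact ⟨_, w0 h hh⟩
    · exact ⟨_, w1 h hh⟩
    · exact ⟨_, w2 h hh⟩
  obtain ⟨W, hW⟩ := key a ha h hh'
  simp only [witOK, Bool.and_eq_true, decide_eq_true_eq, List.all_eq_true, List.mem_range,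
    beq_iff_eq] at hW
  obtain ⟨⟨hr, hcl⟩, hW⟩ := hW
  set w := witOf W h
  set c := w &&& (2 ^ 20 - 1)
  have hmul : el c * el (repC (w >>> 20)) = t * el h * el c := by
    refine eq_of_base fun j => Fin.ext ?_
    show ((el c).1 ((el (repC (w >>> 20))).1 (bP j))).1 = (t.1 ((el h).1 ((el c).1 (bP j)))).1
    rw [el_apply hcl, el_apply (repC_lt' hr), htv, el_apply (by omega), el_apply hcl]
    exact hW j.1 j.2
  refine ⟨w >>> 20, hr, k * el c, ?_⟩
  rw [show k * el c * el (repC (w >>> 20)) * (k * el c)⁻¹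
      = k * (el c * el (repC (w >>> 20))) * (el c)⁻¹ * k⁻¹ by group, hmul, e]
  group

/-! ### Orders -/

/-- Iterated image. -/
def iterC (e : ℕ) : ℕ → ℕ → ℕ
  | 0, x => x
  | n + 1, x => appC e (iterC e n x)

/-- The order test of a representative. -/
def ordOK (r : ℕ) : Bool :=
  let n := classOrders.getD r 0
  decide (0 < n) && ((List.range 4).all fun j => iterC (repC r) n (bpt j) == bpt j) &&
    ((List.range n).all fun i => decide (i = 0) ||
      !((List.range 4).all fun j => iterC (repC r) i (bpt j) == bpt j))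

theorem ord_check : ((List.range 21).all ordOK) = true := by decide +kernel

theorem el_pow_apply {e : ℕ} (he : e < 604800) : ∀ (n : ℕ) (x : Fin 100),
    (((el e) ^ n).1 x).1 = iterC e n x.1
  | 0, x => by simp [iterC]
  | n + 1, x => by
    rw [pow_succ', Subgroup.coe_mul, Equiv.Perm.mul_apply, el_apply he, el_pow_apply he n x]
    rfl

theorem orderOf_rep {r : ℕ} (hr : r < 21) : orderOf (el (repC r)) = classOrders.getD r 0 := by
  have h := ord_check
  simp only [List.all_eq_true, List.mem_range] at h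
  have h := h r hr
  simp only [ordOK, Bool.and_eq_true, decide_eq_true_eq, List.all_eq_true, List.mem_range, beq_iff_eq,
    Bool.or_eq_true, Bool.not_eq_true', List.all_eq_false] at h
  obtain ⟨⟨hn, h1⟩, h2⟩ := h
  refine (orderOf_eq_iff hn).2 ⟨eq_of_base fun j => Fin.ext ?_, fun i hi hi0 e => ?_⟩
  · rw [el_pow_apply (repC_lt' hr)]
    exact h1 j.1 j.2
  · rcases h2 i hi with h2 | ⟨j, hj, hne⟩
    · omega
    · refine hne ?_
      rw [show bpt j = (bP ⟨j, hj⟩).1 from rfl, ← el_pow_apply (repC_lt' hr), e]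
      rfl

theorem range_orderOf_P100 :
    Set.range (orderOf : ↥P100 → ℕ) = {1, 2, 3, 4, 5, 6, 7, 8, 10, 12, 15} := by
  have hl : ((List.range 21).all fun r => decide (classOrders.getD r 0 ∈
      ([1, 2, 3, 4, 5, 6, 7, 8, 10, 12, 15] : List ℕ))) = true ∧
    (([1, 2, 3, 4, 5, 6, 7, 8, 10, 12, 15] : List ℕ).all fun n =>
      (List.range 21).any fun r => decide (classOrders.getD r 0 = n)) = true := by decide +kernel
  simp only [List.all_eq_true, List.any_eq_true, List.mem_range, decide_eq_true_eq] at hl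
  ext n
  constructor
  · rintro ⟨g, rfl⟩
    obtain ⟨r, hr, c, rfl⟩ := exists_conj_rep g
    rw [← MulAut.conj_apply, MulEquiv.orderOf_eq]
    rw [orderOf_rep hr]
    have := hl.1 r hr
    simp only [List.mem_cons, List.not_mem_nil, or_false] at this
    simpa using this
  · intro hn
    obtain ⟨r, hr, e⟩ := hl.2 n (by simpa using hn)
    exact ⟨el (repC r), by rw [orderOf_rep hr, e]⟩

theorem range_orderOf_J2 :
    Set.range (orderOf : J2 → ℕ) = {1, 2, 3, 4, 5, 6, 7, 8, 10, 12, 15} := by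
  rw [← range_orderOf_P100]
  ext n
  constructor
  · rintro ⟨x, rfl⟩
    exact ⟨equivP100 x, orderOf_injective equivP100.toMonoidHom equivP100.injective x⟩
  · rintro ⟨x, rfl⟩
    exact ⟨equivP100.symm x, orderOf_injective equivP100.symm.toMonoidHom equivP100.symm.injective x⟩

/-! ### Simplicity -/

/-- The row of a nontrivial class. -/
def simpRow (r : ℕ) : ℕ × ℕ × ℕ × ℕ := simpleWit.getD (r - 1) (0, 0, 0, 0)

theorem simp_check : ((List.range 21).all fun r => decide (r = 0) ||
    let p := simpRow r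
    decide (p.1 < 604800) && decide (p.2.1 < 604800) && decide (p.2.2.1 < 604800) &&
      decide (p.2.2.2 < 21) && decide (p.2.2.2 = 2 ∨ (simpRow p.2.2.2).2.2.2 = 2 ∧ p.2.2.2 ≠ 0) &&
      (List.range 4).all fun j =>
        (appC (repC r) (appC p.1 (appC (repC r) (bpt j))) == appC p.2.1 (appC p.1 (bpt j))) &&
        (appC p.2.1 (appC p.2.2.1 (bpt j)) == appC p.2.2.1 (appC (repC p.2.2.2) (bpt j)))) = true := by
  decide +kernel

theorem genWit_check : ((List.range 4).all fun k => decide (genWit.getD k 0 < 604800) &&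
    (List.range 4).all fun j =>
      gB k (appC (genWit.getD k 0) (bpt j)) == appC (genWit.getD k 0) (appC (repC 2) (bpt j))) = true ∧
    repC 0 = 0 := by
  decide +kernel

theorem eq_top_of_rep_two {N : Subgroup ↥P100} [N.Normal] (h : el (repC 2) ∈ N) : N = ⊤ := by
  have hg := genWit_check.1
  simp only [List.all_eq_true, List.mem_range, Bool.and_eq_true, decide_eq_true_eq, beq_iff_eq] at hg
  have hk : ∀ k : Fin 4, (⟨rho (gI k), ⟨_, rfl⟩⟩ : ↥P100) ∈ N := by
    intro k
    obtain ⟨hd, he⟩ := hg k.1 k.2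
    set d := genWit.getD k.1 0
    have e : (⟨rho (gI k), ⟨_, rfl⟩⟩ : ↥P100) = el d * el (repC 2) * (el d)⁻¹ := by
      rw [eq_mul_inv_iff_mul_eq]
      refine eq_of_base fun j => Fin.ext ?_
      show (rho (gI k) ((el d).1 (bP j))).1 = ((el d).1 ((el (repC 2)).1 (bP j))).1
      rw [rho_gI, el_apply hd, el_apply hd, el_apply (repC_lt' (by norm_num))]
      exact he j.1 j.2
    rw [e]
    exact Subgroup.Normal.conj_mem inferInstance _ h _
  refine eq_top_iff.2 fun g _ => ?_
  obtain ⟨_, f, rfl⟩ := g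
  have hf : f ∈ gen4 := by rw [gen4_eq_top]; trivial
  have hle : gen4 ≤ N.comap rho.rangeRestrict := by
    refine (Subgroup.closure_le _).2 ?_
    rintro _ ⟨k, rfl⟩
    exact hk k
  exact hle hf

theorem isSimpleGroup_P100 : IsSimpleGroup ↥P100 := by
  have : Nontrivial ↥P100 := Finite.one_lt_card_iff_nontrivial.1 (by rw [card_P100]; norm_num)
  refine ⟨fun N hN => ?_⟩
  by_cases hbot : N = ⊥
  · exact Or.inl hbot
  right
  obtain ⟨g, hg, hg1⟩ := (Subgroup.ne_bot_iff_exists_ne_one.1 hbot) |> fun ⟨x, hx⟩ =>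
    (⟨x.1, x.2, fun e => hx (Subtype.ext e)⟩ : ∃ g, g ∈ N ∧ g ≠ 1)
  obtain ⟨r, hr, c, rfl⟩ := exists_conj_rep g
  have hrep : el (repC r) ∈ N := by
    have h := hN.conj_mem _ hg c⁻¹
    rwa [show c⁻¹ * (c * el (repC r) * c⁻¹) * c⁻¹⁻¹ = el (repC r) by group] at h
  have hr0 : r ≠ 0 := by
    rintro rfl
    exact hg1 (by rw [genWit_check.2, el_zero, mul_one, mul_inv_cancel])
  have hs := simp_check
  simp only [List.all_eq_true, List.mem_range, Bool.or_eq_true, Bool.and_eq_true, decide_eq_true_eq,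
    beq_iff_eq] at hs
  have step : ∀ r < 21, r ≠ 0 → el (repC r) ∈ N → el (repC (simpRow r).2.2.2) ∈ N := by
    intro r hr hr0 hrN
    obtain ⟨⟨⟨⟨⟨hc, hy⟩, hd⟩, hk⟩, -⟩, hj⟩ := (hs r hr).resolve_left hr0
    set p := simpRow r
    have e1 : el p.2.1 = el (repC r) * (el p.1 * el (repC r) * (el p.1)⁻¹) := by
      rw [show el (repC r) * (el p.1 * el (repC r) * (el p.1)⁻¹)
        = el (repC r) * el p.1 * el (repC r) * (el p.1)⁻¹ by group, eq_mul_inv_iff_mul_eq]
      refine eq_of_base fun j => Fin.ext ?_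
      show ((el p.2.1).1 ((el p.1).1 (bP j))).1 = ((el (repC r)).1 ((el p.1).1 ((el (repC r)).1 (bP j)))).1
      rw [el_apply hy, el_apply hc, el_apply (repC_lt' hr), el_apply hc, el_apply (repC_lt' hr)]
      exact (hj j.1 j.2).1.symm
    have e2 : el (repC p.2.2.2) = (el p.2.2.1)⁻¹ * el p.2.1 * el p.2.2.1 := by
      rw [mul_assoc, eq_inv_mul_iff_mul_eq]
      refine eq_of_base fun j => Fin.ext ?_
      show ((el p.2.2.1).1 ((el (repC p.2.2.2)).1 (bP j))).1 = ((el p.2.1).1 ((el p.2.2.1).1 (bP j))).1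
      rw [el_apply hd, el_apply (repC_lt' hk), el_apply hy, el_apply hd]
      exact (hj j.1 j.2).2.symm
    have hyN : el p.2.1 ∈ N := by rw [e1]; exact N.mul_mem hrN (hN.conj_mem _ hrN _)
    rw [e2]
    simpa using hN.conj_mem _ hyN (el p.2.2.1)⁻¹
  have h1 := step r hr hr0 hrep
  obtain ⟨⟨⟨-, hk⟩, hor⟩, -⟩ := (hs r hr).resolve_left hr0
  rcases hor with h2 | ⟨h2, hk0⟩
  · rw [h2] at h1; exact eq_top_of_rep_two h1
  · have h3 := step _ hk hk0 h1
    rw [h2] at h3
    exact eq_top_of_rep_two h3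

theorem exists_not_commute : ∃ a b : J2, a * b ≠ b * a := by
  by_contra h
  push_neg at h
  have h' : ∀ a b : ↥P100, a * b = b * a := fun a b => by
    obtain ⟨a, rfl⟩ := equivP100.surjective a
    obtain ⟨b, rfl⟩ := equivP100.surjective b
    rw [← map_mul, ← map_mul, h a b]
  have hne : ¬ ∀ j : Fin 4, gB 0 (gB 1 (bpt j.1)) = gB 1 (gB 0 (bpt j.1)) := by decide +kernel
  refine hne fun j => ?_
  have e := congrArg (fun g : ↥P100 => (g.1 (bP j)).1)
    (h' ⟨rho (gI 0), ⟨_, rfl⟩⟩ ⟨rho (gI 1), ⟨_, rfl⟩⟩)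
  simp only [Subgroup.coe_mul, Equiv.Perm.mul_apply, rho_gI] at e
  exact e

theorem isSimpleGroup_J2 : IsSimpleGroup J2 :=
  have := isSimpleGroup_P100
  equivP100.isSimpleGroup

end CfsgLib.Char.J2
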