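import Cfsg.Agent.Lib.Char.J2.GroupData

/-!
The generating reflections and the elements given by words in them.
-/

set_option autoImplicit false

namespace CfsgLib.Char.J2

open Quaternion Cfsg.Spor

/-- A unit by index. -/
def uAt (j : ℕ) : Qt := units.getD j qone

theorem uAt_mem (j : ℕ) : uAt j ∈ units := by
  by_cases h : j < units.length
  · rw [uAt, List.getD_eq_getElem _ _ h]; exact List.getElem_mem h
  · rw [uAt, List.getD_eq_default _ _ (by omega)]
    exact mem_units (by decide) (by decide)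

/-- The spanning vectors. -/
def span1 : Tr := rowT 306

/-- The second spanning vector. -/
def span2 : Tr := rowT 65

/-- The vectors of the generating reflections. -/
def gvec (k : Fin 4) : Tr := rowT (gIdx.getD k.1 0)

theorem gen_check : span1.x = qone ∧ span1.y = qone ∧ span2.x = qzero ∧ span2.y = qh ∧
    ((List.finRange 4).all fun k => isMin (gvec k) &&
      reflOK (gvec k) span1 && memL (treflC (gvec k) span1) &&
      reflOK (gvec k) span2 && memL (treflC (gvec k) span2) &&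
      reflOK (gvec k) (eT 2) && memL (treflC (gvec k) (eT 2))) = true := by
  decide +kernel

theorem isMin_gvec (k : Fin 4) : isMin (gvec k) = true := by
  have h := gen_check.2.2.2.2
  simp only [List.all_eq_true, Bool.and_eq_true] at h
  exact (h k (List.mem_finRange k)).1.1.1.1.1.1

theorem exists_span {x : Fin 3 → ℍ[ℝ]} (hx : x ∈ icoLeech) : ∃ a b c, a ∈ icosians ∧ b ∈ icosians ∧
    c ∈ icosians ∧ x = fun t => a * toV span1 t + b * toV span2 t + c * toV (eT 2) t := by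
  obtain ⟨hI, hxy, hyz, hs⟩ := hx
  have hm : ∀ i, i < 315 → toV (rowT i) ∈ icoLeech := fun i hi => (isMin_iff.1 (isMin_rowT hi)).1
  obtain ⟨hA, hA1, hA2, hA3⟩ := hm 306 (by norm_num)
  obtain ⟨hB, hB1, hB2, hB3⟩ := hm 65 (by norm_num)
  change ∀ i, toV span1 i ∈ icosians at hA
  change toV span1 0 - toV span1 1 ∈ leftIdeal icoH at hA1
  change toV span1 1 - toV span1 2 ∈ leftIdeal icoH at hA2
  change toV span1 0 + toV span1 1 + toV span1 2 ∈ leftIdeal (star icoH) at hA3
  change ∀ i, toV span2 i ∈ icosians at hB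
  change toV span2 1 - toV span2 2 ∈ leftIdeal icoH at hB2
  change toV span2 0 + toV span2 1 + toV span2 2 ∈ leftIdeal (star icoH) at hB3
  obtain ⟨e1, e2, e3, e4, -⟩ := gen_check
  have a0 : toV span1 0 = 1 := by rw [← toQ_one, ← e1]; rfl
  have a1 : toV span1 1 = 1 := by rw [← toQ_one, ← e2]; rfl
  have b0 : toV span2 0 = 0 := by rw [← toQ_zero, ← e3]; rfl
  have b1 : toV span2 1 = icoH := by rw [← toQ_qh, ← e4]; rfl
  obtain ⟨a, ha, eb⟩ := hxy
  have hb : -a ∈ icosians := neg_mem ha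
  have hx1 : x 1 = x 0 - a * icoH := by rw [← eb]; abel
  set z : ℍ[ℝ] := x 2 - x 0 * toV span1 2 - (-a) * toV span2 2 with hz
  have hzI : z ∈ icosians := sub_mem (sub_mem (hI 2) (mul_mem (hI 0) (hA 2))) (mul_mem hb (hB 2))
  have hz1 : z ∈ leftIdeal icoH := by
    obtain ⟨p, hp, ep⟩ := hyz
    obtain ⟨q, hq, eq'⟩ := hA2
    obtain ⟨r, hr, er⟩ := hB2
    refine ⟨-p - a + x 0 * q + -a * r + a, ?_, ?_⟩
    · exact add_mem (add_mem (add_mem (sub_mem (neg_mem hp) ha) (mul_mem (hI 0) hq))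
        (mul_mem hb hr)) ha
    rw [a1] at eq'
    rw [b1] at er
    simp only [add_mul, sub_mul, neg_mul, mul_assoc, ← eb, ← ep, ← eq', ← er, hz]
    simp only [mul_sub, mul_one, ← mul_assoc, eb, hx1]
    abel
  have hz2 : z ∈ leftIdeal (star icoH) := by
    obtain ⟨p, hp, ep⟩ := hs
    obtain ⟨q, hq, eq'⟩ := hA3
    obtain ⟨r, hr, er⟩ := hB3
    refine ⟨p - x 0 * q - -a * r, ?_, ?_⟩
    · exact sub_mem (sub_mem hp (mul_mem (hI 0) hq)) (mul_mem hb hr)
    rw [a0, a1] at eq'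
    rw [b0, b1] at er
    simp only [sub_mul, mul_assoc, ← ep, ← eq', ← er, hz]
    simp only [mul_add, mul_one, mul_zero, neg_mul, ← eb]
    abel
  obtain ⟨w, -, hw⟩ := mem_icosians_iff.1 hzI
  obtain ⟨c, hc, e⟩ := eq_two_mul (x := w) (hw ▸ hz1) (hw ▸ hz2)
  refine ⟨x 0, -a, toQ c, hI 0, hb, toQ_mem_icosians_iff.2 hc, ?_⟩
  have hz' : z = toQ c * 2 := by
    rw [← hw, e, toQ_sc]; norm_num [two_smul, mul_two]
  funext t
  fin_cases t
  · show x 0 = _
    simp [a0, b0, toV_eT, eV]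
  · show x 1 = _
    simp [a1, b1, toV_eT, eV, neg_mul, ← eb]
  · show x 2 = _
    simp [toV_eT, eV, ← hz', hz]
    abel

theorem icoLeech_add {x y : Fin 3 → ℍ[ℝ]} (hx : x ∈ icoLeech) (hy : y ∈ icoLeech) :
    x + y ∈ icoLeech := by
  obtain ⟨hI, ⟨a, ha, ea⟩, ⟨b, hb, eb⟩, ⟨c, hc, ec⟩⟩ := hx
  obtain ⟨hI', ⟨a', ha', ea'⟩, ⟨b', hb', eb'⟩, ⟨c', hc', ec'⟩⟩ := hy
  refine ⟨fun i => add_mem (hI i) (hI' i), ⟨a + a', add_mem ha ha', ?_⟩,
    ⟨b + b', add_mem hb hb', ?_⟩, ⟨c + c', add_mem hc hc', ?_⟩⟩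
  · rw [add_mul, ← ea, ← ea']; simp only [Pi.add_apply]; abel
  · rw [add_mul, ← eb, ← eb']; simp only [Pi.add_apply]; abel
  · rw [add_mul, ← ec, ← ec']; simp only [Pi.add_apply]; abel

theorem qrefl_add (r x y : Fin 3 → ℍ[ℝ]) : qrefl r (x + y) = qrefl r x + qrefl r y := by
  funext t
  simp only [qrefl, qip_add_left, Pi.add_apply, smul_add, add_mul]
  abel

theorem qrefl_smul (r x : Fin 3 → ℍ[ℝ]) (c : ℍ[ℝ]) :
    qrefl r (fun t => c * x t) = fun t => c * qrefl r x t := by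
  funext t
  simp only [qrefl, qip_smul_left, mul_sub, ← mul_smul_comm, mul_assoc]

theorem qrefl_self {r : Fin 3 → ℍ[ℝ]} (hr : qip r r = 4) (x : Fin 3 → ℍ[ℝ]) :
    qrefl r (qrefl r x) = x := by
  have e : ∀ v, qrefl r v = v - (fun i => ((1 / 2 : ℝ) • qip v r) * r i) := fun v => rfl
  have h : qip (qrefl r x) r = -qip x r := by
    rw [e, qip_sub_left, qip_smul_left, hr, show (4 : ℍ[ℝ]) = 2 * 2 by norm_num, ← coe_two,
      ← Quaternion.coe_mul, Quaternion.mul_coe_eq_smul, smul_smul]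
    module
  funext t
  show qrefl r x t - ((1 / 2 : ℝ) • qip (qrefl r x) r) * r t = x t
  rw [h]
  simp [qrefl]

theorem qrefl_gvec_mem (k : Fin 4) {x : Fin 3 → ℍ[ℝ]} (hx : x ∈ icoLeech) :
    qrefl (toV (gvec k)) x ∈ icoLeech := by
  have h := gen_check.2.2.2.2
  simp only [List.all_eq_true, Bool.and_eq_true] at h
  obtain ⟨⟨⟨⟨⟨⟨hm, r1⟩, m1⟩, r2⟩, m2⟩, r3⟩, m3⟩ := h k (List.mem_finRange k)
  have hi : icoT (gvec k) = true := icoT_of_memL ((Bool.and_eq_true _ _).mp hm).1
  obtain ⟨a, b, c, ha, hb, hc, e⟩ := exists_span hx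
  have e' : x = (fun t => a * toV span1 t) + (fun t => b * toV span2 t) +
      (fun t => c * toV (eT 2) t) := e
  rw [e', qrefl_add, qrefl_add, qrefl_smul, qrefl_smul, qrefl_smul, toV_trefl hi r1, toV_trefl hi r2,
    toV_trefl hi r3]
  exact icoLeech_add (icoLeech_add (smul_mem ha ⟨_, (toV_mem_iff _).2 m1⟩)
    (smul_mem hb ⟨_, (toV_mem_iff _).2 m2⟩)) (smul_mem hc ⟨_, (toV_mem_iff _).2 m3⟩)

/-- The generating reflections. -/
noncomputable def gRefl (k : Fin 4) : Equiv.Perm icoLeech where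
  toFun x := ⟨qrefl (toV (gvec k)) x.1, qrefl_gvec_mem k x.2⟩
  invFun x := ⟨qrefl (toV (gvec k)) x.1, qrefl_gvec_mem k x.2⟩
  left_inv x := Subtype.ext (qrefl_self (isMin_iff.1 (isMin_gvec k)).2 x.1)
  right_inv x := Subtype.ext (qrefl_self (isMin_iff.1 (isMin_gvec k)).2 x.1)

theorem isIcoReflection_gRefl (k : Fin 4) : IsIcoReflection (gRefl k) :=
  ⟨⟨_, (isMin_iff.1 (isMin_gvec k)).1⟩, (isMin_iff.1 (isMin_gvec k)).2, fun _ => rfl⟩

/-- A reflection as an element of the group of isometries. -/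
noncomputable def gI (k : Fin 4) : ↥Isom :=
  ⟨gRefl k, twoJ2_le_Isom (Subgroup.subset_closure (isIcoReflection_gRefl k))⟩

/-- The generated subgroup, inside the isometries. -/
noncomputable def gen4 : Subgroup ↥Isom := Subgroup.closure (Set.range gI)

theorem gen4_le : gen4 ≤ twoJ2.subgroupOf Isom := by
  refine (Subgroup.closure_le _).2 ?_
  rintro _ ⟨k, rfl⟩
  exact Subgroup.subset_closure (isIcoReflection_gRefl k)

/-- A word in the generators. -/
noncomputable def gWord : List ℕ → ↥Isom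
  | [] => 1
  | k :: w => gI (Fin.ofNat 4 k) * gWord w

theorem gWord_mem : ∀ w, gWord w ∈ gen4
  | [] => one_mem _
  | k :: w => mul_mem (Subgroup.subset_closure ⟨_, rfl⟩) (gWord_mem w)

/-- The action of a generator on the lines, from the data. -/
def gPerm (k : ℕ) (i : ℕ) : ℕ := ((gImg.getD k []).getD i (0, 0)).2

/-- The unit of a generator at a line, from the data. -/
def gUnit (k : ℕ) (i : ℕ) : Qt := uAt ((gImg.getD k []).getD i (0, 0)).1

theorem gImg_check : ((List.finRange 4).all fun k => (List.range 315).all fun i =>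
    decide (gPerm k.1 i < 315) && reflOK (gvec k) (rowT i) &&
      decide (treflC (gvec k) (rowT i) = tsmul (gUnit k.1 i) (rowT (gPerm k.1 i)))) = true := by
  decide +kernel

theorem icoT_rowT {i : ℕ} (hi : i < 315) : icoT (rowT i) = true :=
  icoT_of_memL ((Bool.and_eq_true _ _).mp (isMin_rowT hi)).1

theorem lineFun_gI (k : Fin 4) (i : Fin 315) : (lineFun (gI k) i).1 = gPerm k.1 i.1 := by
  have h := gImg_check
  simp only [List.all_eq_true, Bool.and_eq_true, decide_eq_true_eq] at h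
  obtain ⟨⟨hlt, hok⟩, he⟩ := h k (List.mem_finRange k) i.1 (List.mem_range.2 i.2)
  have hu : gUnit k.1 i.1 ∈ units := uAt_mem _
  have hj : icoT (rowT (gPerm k.1 i.1)) = true := icoT_rowT hlt
  have e := lineFun_eq (gI k) (i := i) (j := ⟨gPerm k.1 i.1, hlt⟩) (c := toQ (gUnit k.1 i.1))
    (toQ_mem_icosians_iff.2 (unit_facts hu).1) (normSq_unit hu) (by
      show qrefl (toV (gvec k)) (toV (rowT i.1)) = _
      rw [toV_trefl (icoT_of_memL ((Bool.and_eq_true _ _).mp (isMin_gvec k)).1) hok, he,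
        toV_smul (unit_facts hu).1 hj]
      rfl)
  rw [e]

/-- The action of a word on the lines, from the data. -/
def wPerm : List ℕ → ℕ → ℕ
  | [], i => i
  | k :: w, i => gPerm (k % 4) (wPerm w i)

theorem lineFun_gWord : ∀ (w : List ℕ) (i : Fin 315), (lineFun (gWord w) i).1 = wPerm w i.1
  | [], i => by rw [gWord, lineFun_one]; rfl
  | k :: w, i => by
    rw [gWord, lineFun_mul, lineFun_gI, lineFun_gWord w i]
    rfl

/-- The image of a triple under a word, computed. -/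
def wImg : List ℕ → Tr → Tr
  | [], t => t
  | k :: w, t => treflC (gvec (Fin.ofNat 4 k)) (wImg w t)

/-- The test that the computation of a word image is exact. -/
def wOK : List ℕ → Tr → Bool
  | [], t => memL t
  | k :: w, t => wOK w t && reflOK (gvec (Fin.ofNat 4 k)) (wImg w t)

theorem toV_wImg : ∀ (w : List ℕ) (t : Tr), wOK w t = true → ∀ (hm : toV t ∈ icoLeech),
    ((gWord w).1 ⟨toV t, hm⟩).1 = toV (wImg w t)
  | [], t, _, hm => rfl
  | k :: w, t, h, hm => by
    simp only [wOK, Bool.and_eq_true] at h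
    show qrefl (toV (gvec (Fin.ofNat 4 k))) ((gWord w).1 ⟨toV t, hm⟩).1 = _
    rw [toV_wImg w t h.1 hm,
      toV_trefl (icoT_of_memL ((Bool.and_eq_true _ _).mp (isMin_gvec _)).1) h.2]
    rfl

end CfsgLib.Char.J2
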