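import Cfsg.Agent.Lib.Char.J2.SymEight

/-!
Powers of the six-dimensional module extended by the alternating group of degree eight.
-/

set_option autoImplicit false

namespace CfsgLib.Char.J2

/-- The heart of the permutation module, as differences of even vectors. -/
def heart : AddSubgroup (Fin 8 → Fin 8 → ZMod 2) where
  carrier := {d | ∃ w : Fin 8 → ZMod 2, ∑ i, w i = 0 ∧ d = fun i j => w i + w j}
  zero_mem' := ⟨0, by simp, by funext i j; simp⟩
  add_mem' := by
    rintro _ _ ⟨u, hu, rfl⟩ ⟨v, hv, rfl⟩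
    refine ⟨u + v, by simp [Finset.sum_add_distrib, hu, hv], ?_⟩
    funext i j
    simp only [Pi.add_apply]
    ring
  neg_mem' := by
    rintro _ ⟨u, hu, rfl⟩
    refine ⟨-u, by simp [hu], ?_⟩
    funext i j
    simp only [Pi.neg_apply]
    ring

theorem heart_perm (σ : Equiv.Perm (Fin 8)) {d : Fin 8 → Fin 8 → ZMod 2} (hd : d ∈ heart) :
    (fun i j => d (σ⁻¹ i) (σ⁻¹ j)) ∈ heart := by
  obtain ⟨w, hw, rfl⟩ := hd
  exact ⟨fun i => w (σ⁻¹ i), by rw [Equiv.sum_comp σ⁻¹ w]; exact hw, rfl⟩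

/-- The module. -/
abbrev HMod (k : ℕ) := Multiplicative (Fin k → ↥heart)

/-- The action. -/
def permMod {k : ℕ} (σ : Equiv.Perm (Fin 8)) (v : HMod k) : HMod k :=
  Multiplicative.ofAdd fun t => ⟨_, heart_perm σ (v.toAdd t).2⟩

theorem permMod_mul {k : ℕ} (σ τ : Equiv.Perm (Fin 8)) (v : HMod k) :
    permMod (σ * τ) v = permMod σ (permMod τ v) := rfl

theorem permMod_one {k : ℕ} (v : HMod k) : permMod 1 v = v := rfl

/-- The action as automorphisms. -/
def permAut (k : ℕ) : ↥(alternatingGroup (Fin 8)) →* MulAut (HMod k) where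
  toFun σ :=
    { toFun := permMod σ.1
      invFun := permMod σ.1⁻¹
      left_inv := fun v => by rw [← permMod_mul, inv_mul_cancel, permMod_one]
      right_inv := fun v => by rw [← permMod_mul, mul_inv_cancel, permMod_one]
      map_mul' := fun _ _ => rfl }
  map_one' := MulEquiv.ext fun v => permMod_one v
  map_mul' σ τ := MulEquiv.ext fun v => permMod_mul σ.1 τ.1 v

/-- The extension. -/
abbrev HExt (k : ℕ) := HMod k ⋊[permAut k] ↥(alternatingGroup (Fin 8))

noncomputable instance (k : ℕ) : Fintype (HExt k) :=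
  haveI : Finite (HExt k) := Finite.of_injective (fun g => (g.left, g.right)) fun g h e => by
    simp only [Prod.mk.injEq] at e
    exact SemidirectProduct.ext e.1 e.2
  Fintype.ofFinite _

/-- The trace of a vector along a permutation. -/
def orbSum (σ : Equiv.Perm (Fin 8)) : ℕ → (Fin 8 → ZMod 2) → Fin 8 → ZMod 2
  | 0, _, _ => 0
  | n + 1, w, i => orbSum σ n w i + w ((σ⁻¹) ^ n * 1 |> fun p => p i)

theorem pow_left {k : ℕ} (g : HExt k) : ∀ n : ℕ,
    (g ^ n).right = g.right ^ n ∧ ∀ (t : Fin k) (w : Fin 8 → ZMod 2),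
      (g.left.toAdd t).1 = (fun i j => w i + w j) →
        ((g ^ n).left.toAdd t).1 = fun i j => orbSum g.right.1 n w i + orbSum g.right.1 n w j
  | 0 => by
    refine ⟨by simp, fun t w _ => ?_⟩
    funext i j
    simp [orbSum]
  | n + 1 => by
    obtain ⟨h1, h2⟩ := pow_left g n
    refine ⟨by rw [pow_succ, SemidirectProduct.mul_right, h1, pow_succ], fun t w hw => ?_⟩
    rw [pow_succ, SemidirectProduct.mul_left]
    show ((g ^ n).left.toAdd t).1 + (fun i j => (g.left.toAdd t).1 (((g ^ n).right.1)⁻¹ i)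
      (((g ^ n).right.1)⁻¹ j)) = _
    rw [h1, h2 t w hw, hw]
    funext i j
    simp only [Pi.add_apply, orbSum, Subgroup.coe_pow, mul_one, inv_pow]
    ring

theorem orderOf_hext {k : ℕ} (g : HExt k) :
    orderOf g = orderOf g.right ∨ orderOf g = 2 * orderOf g.right := by
  have hn := orderOf_pos g.right
  have hd : orderOf g.right ∣ orderOf g := orderOf_map_dvd SemidirectProduct.rightHom g
  have h2 : g ^ (orderOf g.right * 2) = 1 := by
    rw [pow_mul]
    have hr : (g ^ orderOf g.right).right = 1 := by rw [(pow_left g _).1, pow_orderOf_eq_one]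
    set x := g ^ orderOf g.right
    refine SemidirectProduct.ext ?_ ?_
    · rw [pow_two, SemidirectProduct.mul_left, hr, map_one, MulAut.one_apply, SemidirectProduct.one_left]
      refine Multiplicative.toAdd.injective (funext fun t => Subtype.ext (funext fun i => funext fun j => ?_))
      exact CharTwo.add_self_eq_zero _
    · rw [pow_two, SemidirectProduct.mul_right, hr, mul_one, SemidirectProduct.one_right]
  obtain ⟨c, hc⟩ := hd
  have h3 : orderOf g.right * c ∣ orderOf g.right * 2 := hc ▸ orderOf_dvd_of_pow_eq_one h2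
  rcases (Nat.dvd_prime Nat.prime_two).1 (Nat.dvd_of_mul_dvd_mul_left hn h3) with e | e
  · left; rw [hc, e, mul_one]
  · right; rw [hc, e, mul_comm]

theorem orbSum_conj (σ τ : Equiv.Perm (Fin 8)) (w : Fin 8 → ZMod 2) : ∀ (n : ℕ) (i : Fin 8),
    orbSum (τ * σ * τ⁻¹) n w i = orbSum σ n (fun x => w (τ x)) (τ⁻¹ i)
  | 0, i => rfl
  | n + 1, i => by
    simp only [orbSum, orbSum_conj σ τ w n i, mul_one]
    congr 2
    rw [show (τ * σ * τ⁻¹)⁻¹ = τ * σ⁻¹ * τ⁻¹ by group, conj_pow]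
    rfl

theorem fixedpoint_free_check :
    (∀ w : Fin 8 → ZMod 2, ∑ i, w i = 0 → ∀ i, orbSum (c[0, 1, 2, 3, 4, 5, 6] : Equiv.Perm (Fin 8)) 7 w i =
      orbSum (c[0, 1, 2, 3, 4, 5, 6] : Equiv.Perm (Fin 8)) 7 w 0) ∧
    (∀ w : Fin 8 → ZMod 2, ∑ i, w i = 0 → ∀ i,
      orbSum (c[0, 1, 2, 3, 4] * c[5, 6, 7] : Equiv.Perm (Fin 8)) 15 w i =
      orbSum (c[0, 1, 2, 3, 4] * c[5, 6, 7] : Equiv.Perm (Fin 8)) 15 w 0) := by
  decide +kernel

theorem std_cycleTypes :
    (c[0, 1, 2, 3, 4, 5, 6] : Equiv.Perm (Fin 8)).cycleType = {7} ∧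
    (c[0, 1, 2, 3, 4] * c[5, 6, 7] : Equiv.Perm (Fin 8)).cycleType = {5, 3} := by
  decide +kernel

theorem cycleType_seven {σ : Equiv.Perm (Fin 8)} (h : orderOf σ = 7) : σ.cycleType = {7} := by
  have hp : Nat.Prime 7 := by norm_num
  haveI := Fact.mk hp
  obtain ⟨n, hn⟩ := Equiv.Perm.cycleType_prime_order (by rw [h]; exact hp)
  rw [h] at hn
  have hsum : σ.cycleType.sum ≤ 8 := by
    rw [σ.sum_cycleType]
    exact (Finset.card_le_univ _).trans (by simp)
  rw [hn, Multiset.sum_replicate, smul_eq_mul] at hsum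
  have : n = 0 := by omega
  rw [hn, this]
  rfl

theorem cycleType_fifteen {σ : Equiv.Perm (Fin 8)} (h : orderOf σ = 15) :
    σ.cycleType = {5, 3} := by
  have hsum : σ.cycleType.sum ≤ 8 := by
    rw [σ.sum_cycleType]
    exact (Finset.card_le_univ _).trans (by simp)
  have hl := σ.lcm_cycleType
  rw [h] at hl
  have hmem : ∀ a ∈ σ.cycleType, a = 3 ∨ a = 5 := by
    intro a ha
    have h2 := Equiv.Perm.two_le_of_mem_cycleType ha
    have hd : a ∣ 15 := hl ▸ Multiset.dvd_lcm ha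
    have hle := (Multiset.le_sum_of_mem ha).trans hsum
    interval_cases a <;> omega
  have h5 : 5 ∈ σ.cycleType := by
    by_contra hc
    have : σ.cycleType.lcm ∣ 3 := Multiset.lcm_dvd.2 fun a ha => by
      rcases hmem a ha with rfl | rfl
      · exact dvd_rfl
      · exact absurd ha hc
    rw [hl] at this
    norm_num at this
  obtain ⟨r, hr⟩ := Multiset.exists_cons_of_mem h5
  have h3 : 3 ∈ r := by
    by_contra hc
    have : σ.cycleType.lcm ∣ 5 := Multiset.lcm_dvd.2 fun a ha => by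
      rw [hr, Multiset.mem_cons] at ha
      rcases ha with rfl | ha
      · exact dvd_rfl
      · rcases hmem a (by rw [hr]; exact Multiset.mem_cons_of_mem ha) with rfl | rfl
        · exact absurd ha hc
        · exact dvd_rfl
    rw [hl] at this
    norm_num at this
  obtain ⟨r', hr'⟩ := Multiset.exists_cons_of_mem h3
  rw [hr, hr', Multiset.sum_cons, Multiset.sum_cons] at hsum
  have : r' = 0 := by
    refine Multiset.eq_zero_of_forall_notMem fun a ha => ?_
    have := (Multiset.le_sum_of_mem ha)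
    have := Equiv.Perm.two_le_of_mem_cycleType (σ := σ) (n := a) (by rw [hr, hr']; simp [ha])
    omega
  rw [hr, hr', this]
  rfl

theorem not_double {k : ℕ} (g : HExt k) (h : orderOf g.right = 7 ∨ orderOf g.right = 15) :
    orderOf g = orderOf g.right := by
  refine Nat.dvd_antisymm (orderOf_dvd_of_pow_eq_one ?_) (orderOf_map_dvd SemidirectProduct.rightHom g)
  refine SemidirectProduct.ext ?_ (by rw [(pow_left g _).1, pow_orderOf_eq_one]; rfl)
  refine Multiplicative.toAdd.injective (funext fun t => Subtype.ext ?_)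
  obtain ⟨w, hw, e⟩ := (g.left.toAdd t).2
  rw [(pow_left g _).2 t w e]
  have ho : orderOf g.right.1 = orderOf g.right := Subgroup.orderOf_coe g.right
  have key : ∀ i, orbSum g.right.1 (orderOf g.right) w i = orbSum g.right.1 (orderOf g.right) w 0 := by
    have main : ∀ (σ : Equiv.Perm (Fin 8)) (n : ℕ), (∀ u : Fin 8 → ZMod 2, ∑ i, u i = 0 → ∀ i,
        orbSum σ n u i = orbSum σ n u 0) → σ.cycleType = g.right.1.cycleType →
        ∀ i, orbSum g.right.1 n w i = orbSum g.right.1 n w 0 := by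
      intro σ n hσ hc i
      obtain ⟨τ, hτ⟩ := isConj_iff.1 (Equiv.Perm.isConj_of_cycleType_eq hc)
      rw [← hτ, orbSum_conj, orbSum_conj]
      have hu : ∑ x, w (τ x) = 0 := by rw [Equiv.sum_comp τ w]; exact hw
      rw [hσ _ hu, ← hσ _ hu (τ⁻¹ 0)]
    rcases h with h | h
    · rw [h]
      exact main _ 7 fixedpoint_free_check.1
        (by rw [cycleType_seven (ho.trans h), std_cycleTypes.1])
    · rw [h]
      exact main _ 15 fixedpoint_free_check.2
        (by rw [cycleType_fifteen (ho.trans h), std_cycleTypes.2])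
  funext i j
  rw [key i, key j]
  exact CharTwo.add_self_eq_zero _

/-- The embedding of the complement. -/
theorem orderOf_inr {k : ℕ} (σ : ↥(alternatingGroup (Fin 8))) :
    orderOf (SemidirectProduct.inr σ : HExt k) = orderOf σ :=
  orderOf_injective _ SemidirectProduct.inr_injective σ

/-- The possible least common multiples with the parity of sum plus length. -/
def parVals : ℕ → ℕ → List (ℕ × Bool)
  | 0, _ => [(1, true)]
  | f + 1, s => (1, true) :: (List.range (s + 1)).flatMap fun a =>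
      if 2 ≤ a then (parVals f (s - a)).map fun p => (Nat.lcm a p.1, p.2 == decide (a % 2 = 1)) else []

theorem mem_parVals : ∀ (l : List ℕ) (f s : ℕ), (∀ a ∈ l, 2 ≤ a) → l.sum ≤ s → l.sum ≤ f →
    ((l : Multiset ℕ).lcm, decide ((l.sum + l.length) % 2 = 0)) ∈ parVals f s
  | [], f, s, _, _, _ => by cases f <;> simp [parVals]
  | a :: l, 0, s, h, _, hf => by
    have := h a List.mem_cons_self
    simp only [List.sum_cons] at hf
    omega
  | a :: l, f + 1, s, h, hs, hf => by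
    have ha := h a List.mem_cons_self
    simp only [List.sum_cons] at hs hf
    simp only [parVals, List.mem_cons, List.mem_flatMap, List.mem_range]
    refine Or.inr ⟨a, by omega, ?_⟩
    rw [if_pos ha, List.mem_map, ← Multiset.cons_coe, Multiset.lcm_cons]
    refine ⟨_, mem_parVals l f (s - a) (fun b hb => h b (List.mem_cons_of_mem _ hb)) (by omega)
      (by omega), ?_⟩
    refine Prod.ext rfl ?_
    simp only [List.sum_cons, List.length_cons]
    rw [Bool.eq_iff_iff, beq_iff_eq, decide_eq_decide]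
    refine Iff.trans ?_ (decide_eq_true_iff).symm
    omega

theorem parVals_eight : ∀ p ∈ parVals 8 8,
    p.2 = true → p.1 ∈ ([1, 2, 3, 4, 5, 6, 7, 15] : List ℕ) := by
  decide +kernel

theorem alt_orders (σ : ↥(alternatingGroup (Fin 8))) :
    orderOf σ ∈ ([1, 2, 3, 4, 5, 6, 7, 15] : List ℕ) := by
  rw [← Subgroup.orderOf_coe, ← σ.1.lcm_cycleType]
  have hs : Equiv.Perm.sign σ.1 = 1 := Equiv.Perm.mem_alternatingGroup.1 σ.2
  rw [Equiv.Perm.sign_of_cycleType, neg_one_pow_eq_one_iff_even (by decide), Nat.even_iff] at hs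
  have hsum : σ.1.cycleType.sum ≤ 8 := by
    rw [σ.1.sum_cycleType]
    exact (Finset.card_le_univ _).trans (by simp)
  obtain ⟨l, hl⟩ := Quot.exists_rep σ.1.cycleType
  have hl' : (l : Multiset ℕ) = σ.1.cycleType := hl
  rw [← hl', Multiset.sum_coe] at hsum hs
  rw [Multiset.coe_card] at hs
  rw [← hl']
  have hm := mem_parVals l 8 8
    (fun a ha => Equiv.Perm.two_le_of_mem_cycleType (σ := σ.1) (by rw [← hl']; exact ha)) hsum hsum
  exact parVals_eight _ hm (by simpa using hs)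

theorem heart_single_mem {a b : Fin 8} (hab : a ≠ b) :
    (fun i j => ((Pi.single a 1 + Pi.single b 1 : Fin 8 → ZMod 2)) i
      + ((Pi.single a 1 + Pi.single b 1 : Fin 8 → ZMod 2)) j) ∈ heart :=
  ⟨_, by simp [Finset.sum_add_distrib]; decide, rfl⟩

theorem double_check :
    let w1 : Fin 8 → ZMod 2 := Pi.single 0 1 + Pi.single 6 1
    let w2 : Fin 8 → ZMod 2 := Pi.single 0 1 + Pi.single 5 1
    let w3 : Fin 8 → ZMod 2 := Pi.single 3 1 + Pi.single 7 1
    let s1 : Equiv.Perm (Fin 8) := c[0, 1, 2, 3] * c[4, 5]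
    let s2 : Equiv.Perm (Fin 8) := c[0, 1, 2, 3, 4]
    let s3 : Equiv.Perm (Fin 8) := c[0, 1, 2] * c[3, 4] * c[5, 6]
    (orbSum s1 4 w1 0 + orbSum s1 4 w1 7 = 1 ∧ Equiv.Perm.sign s1 = 1 ∧ s1 ^ 4 = 1 ∧ s1 ^ 2 ≠ 1) ∧
    (orbSum s2 5 w2 0 + orbSum s2 5 w2 7 = 1 ∧ Equiv.Perm.sign s2 = 1 ∧ s2 ^ 5 = 1 ∧ s2 ≠ 1) ∧
    (orbSum s3 6 w3 3 + orbSum s3 6 w3 7 = 1 ∧ Equiv.Perm.sign s3 = 1 ∧ s3 ^ 6 = 1 ∧ s3 ^ 2 ≠ 1 ∧
      s3 ^ 3 ≠ 1) := by
  decide +kernel

theorem exists_double {k : ℕ} (hk : 0 < k) (σ : Equiv.Perm (Fin 8)) (n : ℕ) (hs : Equiv.Perm.sign σ = 1)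
    (ho : orderOf σ = n) (a b : Fin 8) (hab : a ≠ b) (i j : Fin 8)
    (hne : orbSum σ n (Pi.single a 1 + Pi.single b 1) i + orbSum σ n (Pi.single a 1 + Pi.single b 1) j = 1) :
    ∃ g : HExt k, orderOf g = 2 * n := by
  set s : ↥(alternatingGroup (Fin 8)) := ⟨σ, Equiv.Perm.mem_alternatingGroup.2 hs⟩
  have hso : orderOf s = n := by rw [← Subgroup.orderOf_coe]; exact ho
  let g : HExt k := ⟨Multiplicative.ofAdd fun _ => ⟨_, heart_single_mem hab⟩, s⟩
  refine ⟨g, ?_⟩
  rcases orderOf_hext g with h | h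
  · exfalso
    have h1 : g ^ n = 1 := by rw [← hso, ← h]; exact pow_orderOf_eq_one g
    have h2 := (pow_left g n).2 ⟨0, hk⟩ _ rfl
    rw [h1] at h2
    have h3 := congrFun (congrFun h2 i) j
    exact one_ne_zero (hne.symm.trans h3.symm)
  · rw [h]; exact congrArg (2 * ·) hso

theorem range_orderOf_hext {k : ℕ} (hk : 0 < k) :
    Set.range (orderOf : HExt k → ℕ) = {1, 2, 3, 4, 5, 6, 7, 8, 10, 12, 15} := by
  ext n
  constructor
  · rintro ⟨g, rfl⟩
    have ha := alt_orders g.right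
    simp only [List.mem_cons, List.not_mem_nil, or_false] at ha
    simp only [Set.mem_insert_iff, Set.mem_singleton_iff]
    rcases orderOf_hext g with h | h
    · rw [h]; omega
    · by_cases hb : orderOf g.right = 7 ∨ orderOf g.right = 15
      · rw [not_double g hb]; omega
      · rw [h]; omega
  · intro hn
    obtain ⟨⟨d1, s1, p1, q1⟩, ⟨d2, s2, p2, q2⟩, ⟨d3, s3, p3, q3, r3⟩⟩ := double_check
    have alt : ∀ σ : Equiv.Perm (Fin 8), Equiv.Perm.sign σ = 1 → orderOf σ = n →
        n ∈ Set.range (orderOf : HExt k → ℕ) := fun σ hs ho =>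
      ⟨SemidirectProduct.inr ⟨σ, Equiv.Perm.mem_alternatingGroup.2 hs⟩, by
        rw [orderOf_inr, ← Subgroup.orderOf_coe]; exact ho⟩
    have o5 : orderOf (c[0, 1, 2, 3, 4] : Equiv.Perm (Fin 8)) = 5 :=
      orderOf_eq_prime (hp := ⟨by norm_num⟩) p2 q2
    have o4 : orderOf (c[0, 1, 2, 3] * c[4, 5] : Equiv.Perm (Fin 8)) = 4 := by
      refine (orderOf_eq_prime_pow (p := 2) (n := 1) (hp := ⟨Nat.prime_two⟩) ?_ ?_).trans (by norm_num)
      · simpa using q1
      · simpa using p1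
    have o6 : orderOf (c[0, 1, 2] * c[3, 4] * c[5, 6] : Equiv.Perm (Fin 8)) = 6 := by
      refine (orderOf_eq_iff (by norm_num)).2 ⟨p3, fun m hm hm0 e => ?_⟩
      have : orderOf (c[0, 1, 2] * c[3, 4] * c[5, 6] : Equiv.Perm (Fin 8)) ∣ Nat.gcd 6 m :=
        Nat.dvd_gcd (orderOf_dvd_of_pow_eq_one p3) (orderOf_dvd_of_pow_eq_one e)
      interval_cases m
      · exact q3 (orderOf_dvd_iff_pow_eq_one.1 (this.trans (by norm_num)))
      · exact q3 e
      · exact r3 e
      · exact q3 (orderOf_dvd_iff_pow_eq_one.1 (this.trans (by norm_num)))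
      · exact q3 (orderOf_dvd_iff_pow_eq_one.1 (this.trans (by norm_num)))
    simp only [Set.mem_insert_iff, Set.mem_singleton_iff] at hn
    have small : ∀ σ : Equiv.Perm (Fin 8), ∀ m, Equiv.Perm.sign σ = 1 → σ ^ m = 1 →
        (∀ i < m, 0 < i → σ ^ i ≠ 1) → 0 < m → orderOf σ = m := fun σ m _ h1 h2 hm =>
      (orderOf_eq_iff hm).2 ⟨h1, h2⟩
    have hw : ∀ m ∈ ([1, 2, 3, 7, 15] : List ℕ), ∃ σ : Equiv.Perm (Fin 8),
        Equiv.Perm.sign σ = 1 ∧ σ ^ m = 1 ∧ ∀ i < m, 0 < i → σ ^ i ≠ 1 := by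
      have chk : ∀ p ∈ ([(1, 1), (2, c[0, 1] * c[2, 3]), (3, c[0, 1, 2]),
          (7, c[0, 1, 2, 3, 4, 5, 6]), (15, c[0, 1, 2, 3, 4] * c[5, 6, 7])] :
            List (ℕ × Equiv.Perm (Fin 8))),
          Equiv.Perm.sign p.2 = 1 ∧ p.2 ^ p.1 = 1 ∧ ∀ i < p.1, 0 < i → p.2 ^ i ≠ 1 := by
        decide +kernel
      intro m hm
      simp only [List.mem_cons, List.not_mem_nil, or_false] at hm
      rcases hm with rfl | rfl | rfl | rfl | rfl
      exacts [⟨_, chk (1, 1) (by simp)⟩, ⟨_, chk (2, c[0, 1] * c[2, 3]) (by simp)⟩,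
        ⟨_, chk (3, c[0, 1, 2]) (by simp)⟩, ⟨_, chk (7, c[0, 1, 2, 3, 4, 5, 6]) (by simp)⟩,
        ⟨_, chk (15, c[0, 1, 2, 3, 4] * c[5, 6, 7]) (by simp)⟩]
    have big : ∀ m ∈ ([1, 2, 3, 7, 15] : List ℕ), n = m → n ∈ Set.range (orderOf : HExt k → ℕ) := by
      intro m hm e
      obtain ⟨σ, hs, h1, h2⟩ := hw m hm
      refine alt σ hs ((small σ m hs h1 h2 ?_).trans e.symm)
      simp only [List.mem_cons, List.not_mem_nil, or_false] at hm
      omega
    rcases hn with rfl | rfl | rfl | rfl | rfl | rfl | rfl | rfl | rfl | rfl | rfl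
    case inr.inr.inr.inl => exact alt _ s1 o4
    case inr.inr.inr.inr.inl => exact alt _ s2 o5
    case inr.inr.inr.inr.inr.inl => exact alt _ s3 o6
    case inr.inr.inr.inr.inr.inr.inr.inl =>
      exact exists_double hk _ 4 s1 o4 0 6 (by decide) 0 7 d1
    case inr.inr.inr.inr.inr.inr.inr.inr.inl =>
      exact exists_double hk _ 5 s2 o5 0 5 (by decide) 0 7 d2
    case inr.inr.inr.inr.inr.inr.inr.inr.inr.inl =>
      exact exists_double hk _ 6 s3 o6 3 7 (by decide) 3 7 d3
    all_goals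
      refine big _ ?_ rfl
      decide

theorem card_hext_gt (k : ℕ) : k < Fintype.card (HExt k) := by
  classical
  rw [← Nat.card_eq_fintype_card]
  have h1 : Nat.card (HMod k) ≤ Nat.card (HExt k) :=
    Nat.card_le_card_of_injective (SemidirectProduct.inl) SemidirectProduct.inl_injective
  refine lt_of_lt_of_le ?_ h1
  have : Nat.card (HMod k) = Nat.card ↥heart ^ k := by
    show Nat.card (Fin k → ↥heart) = _
    rw [Nat.card_fun, Nat.card_fin]
  rw [this]
  refine Nat.lt_pow_self ?_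
  refine Finite.one_lt_card_iff_nontrivial.2 ⟨⟨0, heart.zero_mem⟩, ⟨_, heart_single_mem (a := 0) (b := 1) (by decide)⟩, ?_⟩
  intro e
  have := congrFun (congrFun (congrArg Subtype.val e) 0) 2
  revert this
  decide

end CfsgLib.Char.J2
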