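import Cfsg.Agent.Lib.Char.J2.Classify

/-!
Isometries of the icosian Leech lattice and their action on the 315 lines of minimal vectors.
-/

set_option autoImplicit false

namespace CfsgLib.Char.J2

open Quaternion Cfsg.Spor

theorem qip_sub_left (x y z : Fin 3 → ℍ[ℝ]) : qip (x - y) z = qip x z - qip y z := by
  simp [qip, sub_mul, Finset.sum_sub_distrib]

theorem qip_add_left (x y z : Fin 3 → ℍ[ℝ]) : qip (x + y) z = qip x z + qip y z := by
  simp [qip, add_mul, Finset.sum_add_distrib]

theorem qip_smul_left (c : ℍ[ℝ]) (x z : Fin 3 → ℍ[ℝ]) :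
    qip (fun i => c * x i) z = c * qip x z := by
  simp [qip, Finset.mul_sum, mul_assoc]

theorem qip_smul_right (c : ℍ[ℝ]) (x z : Fin 3 → ℍ[ℝ]) :
    qip x (fun i => c * z i) = qip x z * star c := by
  simp [qip, Finset.sum_mul, mul_assoc]

theorem star_qip (x z : Fin 3 → ℍ[ℝ]) : star (qip x z) = qip z x := by
  simp [qip]

theorem qip_sub_right (x y z : Fin 3 → ℍ[ℝ]) : qip x (y - z) = qip x y - qip x z := by
  simp [qip, mul_sub, Finset.sum_sub_distrib]

theorem coe_two : ((2 : ℝ) : ℍ[ℝ]) = 2 := by norm_cast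

theorem qip_refl {r : Fin 3 → ℍ[ℝ]} (hr : qip r r = 4) (x y : Fin 3 → ℍ[ℝ]) :
    qip (qrefl r x) (qrefl r y) = qip x y := by
  have e : ∀ v, qrefl r v = v - (fun i => ((1 / 2 : ℝ) • qip v r) * r i) := fun v => rfl
  rw [e, e, qip_sub_left, qip_sub_right, qip_sub_right, qip_smul_left, qip_smul_left, qip_smul_right,
    qip_smul_right, hr, ← star_qip y r, Quaternion.star_smul, show (4 : ℍ[ℝ]) = 2 * 2 by norm_num, ← coe_two]
  simp only [Quaternion.coe_mul_eq_smul, star_trivial, mul_smul_comm, smul_mul_assoc, smul_smul]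
  module

/-- The vector twice a unit vector. -/
noncomputable def eV (i : Fin 3) : Fin 3 → ℍ[ℝ] := Pi.single i 2

/-- The three coordinate vectors as triples. -/
def eT : Fin 3 → Tr :=
  ![⟨qsc 2 qone, qzero, qzero⟩, ⟨qzero, qsc 2 qone, qzero⟩, ⟨qzero, qzero, qsc 2 qone⟩]

theorem toV_eT (i : Fin 3) : toV (eT i) = eV i := by
  have h : toQ (qsc 2 qone) = 2 := by rw [toQ_sc, toQ_one]; norm_num [two_smul]
  funext j
  fin_cases i <;> fin_cases j <;> simp [eT, eV, toV, toQ_zero, h]

theorem qip_eV (x : Fin 3 → ℍ[ℝ]) (i : Fin 3) : qip x (eV i) = x i * 2 := by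
  have h : star (2 : ℍ[ℝ]) = 2 := by rw [← coe_two]; exact Quaternion.star_coe _
  fin_cases i <;> simp [qip, eV, Fin.sum_univ_three, h]

theorem eV_mem (i : Fin 3) : eV i ∈ icoLeech := by
  rw [← toV_eT, toV_mem_iff]
  revert i
  decide

/-- The coordinate vector in the lattice. -/
noncomputable def eL (i : Fin 3) : icoLeech := ⟨eV i, eV_mem i⟩

/-- The isometries of the lattice. -/
def Isom : Subgroup (Equiv.Perm icoLeech) where
  carrier := {f | ∀ x y, qip (f x).1 (f y).1 = qip x.1 y.1}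
  one_mem' _ _ := rfl
  mul_mem' := fun {f g} hf hg x y => (hf (g x) (g y)).trans (hg x y)
  inv_mem' := fun {f} hf x y => by
    conv_rhs => rw [← (show f (f⁻¹ x) = x by simp), ← (show f (f⁻¹ y) = y by simp)]
    exact (hf _ _).symm

theorem twoJ2_le_Isom : twoJ2 ≤ Isom := by
  refine (Subgroup.closure_le _).2 ?_
  rintro f ⟨r, hr, hf⟩ x y
  rw [hf x, hf y]
  exact qip_refl hr _ _

/-- An isometry is left linear: it is determined by the images of the coordinate vectors. -/
theorem apply_eq_sum {f : Equiv.Perm icoLeech} (hf : f ∈ Isom) (x : icoLeech) :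
    (f x).1 = fun t => ∑ i, ((1 / 2 : ℝ) • x.1 i) * (f (eL i)).1 t := by
  set w : Fin 3 → ℍ[ℝ] := (f x).1 - fun t => ∑ i, ((1 / 2 : ℝ) • x.1 i) * (f (eL i)).1 t with hw
  have h : ∀ y : icoLeech, qip w (f y).1 = 0 := by
    intro y
    have e : (fun t => ∑ i, ((1 / 2 : ℝ) • x.1 i) * (f (eL i)).1 t) =
        (fun t => ((1 / 2 : ℝ) • x.1 0) * (f (eL 0)).1 t)
          + (fun t => ((1 / 2 : ℝ) • x.1 1) * (f (eL 1)).1 t)
          + (fun t => ((1 / 2 : ℝ) • x.1 2) * (f (eL 2)).1 t) := by
      funext t; simp [Fin.sum_univ_three]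
    rw [hw, qip_sub_left, e, qip_add_left, qip_add_left, qip_smul_left, qip_smul_left, qip_smul_left,
      hf, hf, hf, hf]
    have hc : ∀ i, qip (eL i).1 y.1 = 2 * star (y.1 i) := by
      intro i
      rw [show (eL i).1 = eV i from rfl, ← star_qip, qip_eV, star_mul]
      congr 1
      rw [← coe_two]; exact Quaternion.star_coe _
    rw [hc, hc, hc]
    have h2 : ∀ a b : ℍ[ℝ], ((1 / 2 : ℝ) • a) * (2 * b) = a * b := by
      intro a b
      rw [smul_mul_assoc, ← coe_two, Quaternion.coe_mul_eq_smul, mul_smul_comm, smul_smul]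
      norm_num
    rw [h2, h2, h2]
    simp [qip, Fin.sum_univ_three]
  have h0 : ∀ i, w i = 0 := by
    intro i
    have := h (f⁻¹ (eL i))
    rw [show f (f⁻¹ (eL i)) = eL i by simp] at this
    rw [show (eL i).1 = eV i from rfl, qip_eV, ← coe_two, Quaternion.mul_coe_eq_smul] at this
    exact (smul_eq_zero.1 this).resolve_left two_ne_zero
  funext t
  have := h0 t
  simp only [hw, Pi.sub_apply] at this
  exact sub_eq_zero.1 this

theorem Isom_ext {f g : Equiv.Perm icoLeech} (hf : f ∈ Isom) (hg : g ∈ Isom)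
    (h : ∀ i, f (eL i) = g (eL i)) : f = g := by
  refine Equiv.ext fun x => Subtype.ext ?_
  rw [apply_eq_sum hf, apply_eq_sum hg]
  simp [h]

theorem smul_mem {c : ℍ[ℝ]} (hc : c ∈ icosians) (x : icoLeech) :
    (fun i => c * x.1 i) ∈ icoLeech := by
  obtain ⟨hI, hxy, hyz, hs⟩ := x.2
  refine ⟨fun i => mul_mem hc (hI i), ?_, ?_, ?_⟩
  · obtain ⟨a, ha, e⟩ := hxy
    exact ⟨c * a, mul_mem hc ha, by rw [← mul_sub, e, mul_assoc]⟩
  · obtain ⟨a, ha, e⟩ := hyz
    exact ⟨c * a, mul_mem hc ha, by rw [← mul_sub, e, mul_assoc]⟩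
  · obtain ⟨a, ha, e⟩ := hs
    exact ⟨c * a, mul_mem hc ha, by rw [← mul_add, ← mul_add, e, mul_assoc]⟩

theorem apply_smul {f : Equiv.Perm icoLeech} (hf : f ∈ Isom) {c : ℍ[ℝ]} (hc : c ∈ icosians)
    (x : icoLeech) : (f ⟨_, smul_mem hc x⟩).1 = fun t => c * (f x).1 t := by
  rw [apply_eq_sum hf, apply_eq_sum hf]
  funext t
  simp only [Finset.mul_sum, ← mul_smul_comm, mul_assoc]

/-! ### Lines -/

/-- The representatives as an indexed family. -/
def rowT (i : ℕ) : Tr := table.getD i ⟨qzero, qzero, qzero⟩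

/-- The key coordinate of a minimal vector: a unit if possible, otherwise the first non-zero one. -/
def keyC (t : Tr) : Qt :=
  if qT t.x = 8 then t.x else if qT t.y = 8 then t.y else if qT t.z = 8 then t.z
  else if qT t.x ≠ 0 then t.x else if qT t.y ≠ 0 then t.y else t.z

theorem table_check : table.length = 315 ∧ (table.all fun L => isMin L &&
    decide (keyC L = if qT (keyC L) = 8 then qone else if qT (keyC L) = 16 then qh else qsc 2 qone) &&
    decide (keyC L ≠ qzero)) = true := by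
  decide +kernel

theorem table_nodup : table.Nodup := by decide +kernel

theorem isMin_rowT {i : ℕ} (hi : i < 315) : isMin (rowT i) = true := by
  have h := table_check.2
  simp only [List.all_eq_true, Bool.and_eq_true] at h
  have hl : i < table.length := by rw [table_check.1]; exact hi
  rw [rowT, List.getD_eq_getElem _ _ hl]
  exact (h _ (List.getElem_mem hl)).1.1

/-- A representative as a lattice vector. -/
noncomputable def row (i : Fin 315) : icoLeech :=
  ⟨toV (rowT i), (isMin_iff.1 (isMin_rowT i.2)).1⟩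

theorem qip_row (i : Fin 315) : qip (row i).1 (row i).1 = 4 := (isMin_iff.1 (isMin_rowT i.2)).2

theorem toV_apply_keyC {u : Qt} (hu : u ∈ units) (t : Tr) (ht : icoT t = true) :
    keyC (tsmul u t) = qmul u (keyC t) := by
  obtain ⟨hx, hy, hz⟩ := icoT_iff.1 ht
  unfold keyC
  simp only [tsmul, qT_tsmul hu hx, qT_tsmul hu hy, qT_tsmul hu hz]
  split_ifs <;> rfl

theorem isIco_keyC {t : Tr} (ht : icoT t = true) : isIco (keyC t) = true := by
  obtain ⟨hx, hy, hz⟩ := icoT_iff.1 ht
  unfold keyC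
  split_ifs <;> assumption

theorem rep_unique {u : Qt} (hu : u ∈ units) {L L' : Tr} (hL : L ∈ table) (hL' : L' ∈ table)
    (h : L' = tsmul u L) : L' = L := by
  have hc := table_check.2
  simp only [List.all_eq_true, Bool.and_eq_true, decide_eq_true_eq] at hc
  obtain ⟨⟨hm, h1⟩, h0⟩ := hc L hL
  obtain ⟨⟨-, h2⟩, -⟩ := hc L' hL'
  have ht : icoT L = true := icoT_of_memL ((Bool.and_eq_true _ _).mp hm).1
  have hk : keyC L' = qmul u (keyC L) := by rw [h]; exact toV_apply_keyC hu L ht
  have hq : qT (keyC L') = qT (keyC L) := by rw [hk]; exact qT_tsmul hu (isIco_keyC ht)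
  have hkk : keyC L' = keyC L := by rw [h1, h2, hq]
  have hu1 : toQ u = 1 := by
    have hui := (unit_facts hu).1
    have e := congrArg toQ (hk.symm.trans hkk)
    rw [toQ_qmul hui (isIco_keyC ht)] at e
    have hne : toQ (keyC L) ≠ 0 := by
      rw [← toQ_zero]; exact fun e => h0 (toQ_injective e)
    exact mul_right_cancel₀ hne (e.trans (one_mul _).symm)
  refine toV_injective ?_
  rw [h, toV_smul (unit_facts hu).1 ht, hu1]
  simp

theorem exists_index {v : icoLeech} (hv : qip v.1 v.1 = 4) :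
    ∃ i : Fin 315, ∃ c ∈ icosians, normSq c = 1 ∧ v.1 = fun t => c * (row i).1 t := by
  obtain ⟨L, hL, c, hc, hn, e⟩ := exists_rep v.2 hv
  obtain ⟨i, hi, rfl⟩ := List.getElem_of_mem hL
  rw [table_check.1] at hi
  refine ⟨⟨i, hi⟩, c, hc, hn, ?_⟩
  rw [e]
  show _ = fun t => c * toV (rowT i) t
  rw [rowT, List.getD_eq_getElem]

theorem index_unique {i j : Fin 315} {c : ℍ[ℝ]} (hc : c ∈ icosians) (hn : normSq c = 1)
    (h : (row j).1 = fun t => c * (row i).1 t) : i = j := by
  obtain ⟨u, hui, rfl⟩ := mem_icosians_iff.1 hc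
  have hu : u ∈ units := by
    refine mem_units hui ?_
    have e : nZ u = (4, 0) := toR_injective (by rw [toR_nZ, hn]; simp [toR])
    rw [qT, e]; rfl
  have ht : icoT (rowT i) = true := icoT_of_memL ((Bool.and_eq_true _ _).mp (isMin_rowT i.2)).1
  have e : rowT j = tsmul u (rowT i) := toV_injective (by rw [toV_smul hui ht]; exact h)
  have hm : ∀ k : Fin 315, rowT k ∈ table := by
    intro k
    rw [rowT, List.getD_eq_getElem _ _ (by rw [table_check.1]; exact k.2)]
    exact List.getElem_mem _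
  have := rep_unique hu (hm i) (hm j) e
  rw [rowT, rowT, List.getD_eq_getElem _ _ (by rw [table_check.1]; exact j.2),
    List.getD_eq_getElem _ _ (by rw [table_check.1]; exact i.2), table_nodup.getElem_inj_iff] at this
  exact (Fin.ext this).symm

/-- The index of the line of a minimal vector. -/
noncomputable def lineIdx (v : icoLeech) (hv : qip v.1 v.1 = 4) : Fin 315 := (exists_index hv).choose

theorem lineIdx_eq {v : icoLeech} (hv : qip v.1 v.1 = 4) {i : Fin 315} {c : ℍ[ℝ]} (hc : c ∈ icosians)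
    (hn : normSq c = 1) (e : v.1 = fun t => c * (row i).1 t) : lineIdx v hv = i := by
  obtain ⟨d, hd, hdn, e'⟩ := (exists_index hv).choose_spec
  refine (index_unique (c := star d * c) ?_ ?_ ?_).symm
  · obtain ⟨x, hx, rfl⟩ := mem_icosians_iff.1 hd
    rw [← toQ_conj]
    exact mul_mem (toQ_mem_icosians_iff.2 (isIco_qconj hx)) hc
  · rw [map_mul, Quaternion.normSq_star, hdn, hn, one_mul]
  · funext t
    have h := congrFun (e'.symm.trans e) t
    rw [mul_assoc, ← h, ← mul_assoc, Quaternion.star_mul_self, hdn, Quaternion.coe_one, one_mul]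
    rfl

theorem qip_apply {f : Equiv.Perm icoLeech} (hf : f ∈ Isom) (i : Fin 315) :
    qip (f (row i)).1 (f (row i)).1 = 4 := (hf _ _).trans (qip_row i)

/-- The action on lines. -/
noncomputable def lineFun (f : ↥Isom) (i : Fin 315) : Fin 315 :=
  lineIdx (f.1 (row i)) (qip_apply f.2 i)

theorem lineFun_eq (f : ↥Isom) {i j : Fin 315} {c : ℍ[ℝ]} (hc : c ∈ icosians) (hn : normSq c = 1)
    (e : (f.1 (row i)).1 = fun t => c * (row j).1 t) : lineFun f i = j :=
  lineIdx_eq _ hc hn e

theorem lineFun_spec (f : ↥Isom) (i : Fin 315) : ∃ c ∈ icosians, normSq c = 1 ∧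
    (f.1 (row i)).1 = fun t => c * (row (lineFun f i)).1 t :=
  (exists_index (qip_apply f.2 i)).choose_spec

theorem lineFun_one (i : Fin 315) : lineFun 1 i = i :=
  lineFun_eq 1 (one_mem _) (map_one _) (by simp)

theorem lineFun_mul (f g : ↥Isom) (i : Fin 315) : lineFun (f * g) i = lineFun f (lineFun g i) := by
  obtain ⟨c, hc, hcn, ec⟩ := lineFun_spec g i
  obtain ⟨d, hd, hdn, ed⟩ := lineFun_spec f (lineFun g i)
  refine lineFun_eq (f * g) (c := c * d) (mul_mem hc hd) (by rw [map_mul, hcn, hdn, one_mul]) ?_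
  show (f.1 (g.1 (row i))).1 = _
  rw [show g.1 (row i) = ⟨_, smul_mem hc (row (lineFun g i))⟩ from Subtype.ext ec,
    apply_smul f.2 hc, ed]
  funext t
  rw [mul_assoc]

/-- The action of isometries on the lines. -/
noncomputable def lineHom : ↥Isom →* Equiv.Perm (Fin 315) where
  toFun f := ⟨lineFun f, lineFun f⁻¹,
    fun i => by rw [← lineFun_mul, inv_mul_cancel, lineFun_one],
    fun i => by rw [← lineFun_mul, mul_inv_cancel, lineFun_one]⟩
  map_one' := Equiv.ext lineFun_one
  map_mul' f g := Equiv.ext fun i => lineFun_mul f g i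

theorem lineHom_apply (f : ↥Isom) (i : Fin 315) : lineHom f i = lineFun f i := rfl

end CfsgLib.Char.J2
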