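import Cfsg.Agent.Lib.Char.J2.Gens

/-!
The order of 2.J2, its centre, and generation by four reflections.
-/

set_option autoImplicit false

namespace CfsgLib.Char.J2

open Quaternion Cfsg.Spor

/-- The first coordinate line. -/
def exI : Fin 315 := ⟨314, by norm_num⟩

/-- The second coordinate line. -/
def eyI : Fin 315 := ⟨73, by norm_num⟩

/-- The third coordinate line. -/
def ezI : Fin 315 := ⟨64, by norm_num⟩

/-- The coordinate lines. -/
def cI : Fin 3 → Fin 315 := ![exI, eyI, ezI]

theorem row_cI_check : ∀ k : Fin 3, rowT (cI k).1 = eT k := by decide +kernel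

theorem row_cI (k : Fin 3) : row (cI k) = eL k := by
  refine Subtype.ext ?_
  show toV (rowT (cI k).1) = eV k
  rw [row_cI_check, toV_eT]

/-! ### Transitivity -/

/-- An entry of the orbit tree. -/
def oAt (n : ℕ) : ℕ × ℕ × ℕ := oTree.getD n (0, 0, 0)

theorem oTree_check : oTree.length = 315 ∧ (oAt 0).1 = 314 ∧ ((List.range 315).all fun n =>
      decide (n = 0) || (decide ((oAt n).2.1 < n) && decide ((oAt n).2.2 < 4) &&
        decide ((oAt n).1 = gPerm (oAt n).2.2 (oAt (oAt n).2.1).1))) = true ∧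
    ((List.range 315).all fun i => (List.range 315).any fun n => decide ((oAt n).1 = i)) = true := by
  decide +kernel

theorem exists_lineFun_eq (i : Fin 315) : ∃ g ∈ gen4, lineFun g exI = i := by
  obtain ⟨-, h0, hstep, hcov⟩ := oTree_check
  simp only [List.all_eq_true, List.any_eq_true, List.mem_range, Bool.and_eq_true, Bool.or_eq_true,
    decide_eq_true_eq] at hstep hcov
  have key : ∀ n, n < 315 → ∃ g ∈ gen4, (lineFun g exI).1 = (oAt n).1 := by
    intro n
    induction n using Nat.strong_induction_on with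
    | _ n ih =>
      intro hn
      rcases hstep n hn with rfl | ⟨⟨hp, hk⟩, he⟩
      · exact ⟨1, one_mem _, by rw [lineFun_one, h0]; rfl⟩
      · obtain ⟨g, hg, e⟩ := ih _ hp (by omega)
        refine ⟨gI ⟨_, hk⟩ * g, mul_mem (Subgroup.subset_closure ⟨_, rfl⟩) hg, ?_⟩
        rw [lineFun_mul, lineFun_gI, e, he]
  obtain ⟨n, hn, e⟩ := hcov i.1 i.2
  obtain ⟨g, hg, e'⟩ := key n hn
  exact ⟨g, hg, Fin.ext (e'.trans e)⟩

/-- A word fixing the first line and moving the second to an orthogonal one. -/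
def oWord (j : ℕ) : List ℕ := orthWords.getD j []

theorem orth_check : orthIdx.length = 10 ∧
    ((List.range 315).all fun i => decide ((rowT i).x ≠ qzero) || orthIdx.contains i) = true ∧
    ((List.range 315).all fun i =>
      decide ((rowT i).x ≠ qzero) || decide ((rowT i).y ≠ qzero) || decide (i = 64)) = true ∧
    ((List.range 315).all fun i =>
      decide ((rowT i).y ≠ qzero) || decide ((rowT i).z ≠ qzero) || decide (i = 314)) = true ∧
    ((List.range 10).all fun j => decide (wPerm (oWord j) 314 = 314) &&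
      decide (wPerm (oWord j) 73 = orthIdx.getD j 0)) = true ∧ orthIdx.Nodup := by
  decide +kernel

theorem exists_orth_move {i : Fin 315} (hi : (rowT i.1).x = qzero) :
    ∃ j : Fin 10, lineFun (gWord (oWord j.1)) exI = exI ∧
      lineFun (gWord (oWord j.1)) eyI = i := by
  obtain ⟨hl, h1, -, -, h3, -⟩ := orth_check
  simp only [List.all_eq_true, List.mem_range, Bool.or_eq_true, Bool.and_eq_true, decide_eq_true_eq,
    List.contains_iff_mem] at h1 h3
  obtain ⟨j, hj, e⟩ := List.getElem_of_mem ((h1 i.1 i.2).resolve_left (not_not.2 hi))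
  rw [hl] at hj
  refine ⟨⟨j, hj⟩, Fin.ext ?_, Fin.ext ?_⟩
  · rw [lineFun_gWord]; exact (h3 j hj).1
  · rw [lineFun_gWord]
    refine (h3 j hj).2.trans ?_
    rw [List.getD_eq_getElem _ _ (by rw [hl]; exact hj), e]

theorem row_coord_eq_zero_iff (i : Fin 315) (k : Fin 3) :
    (row i).1 k = 0 ↔ qip (row i).1 (eL k).1 = 0 := by
  rw [show (eL k).1 = eV k from rfl, qip_eV, ← coe_two, Quaternion.mul_coe_eq_smul, smul_eq_zero]
  exact ⟨Or.inr, fun h => h.resolve_left two_ne_zero⟩

theorem coord_lineFun {f : ↥Isom} {k : Fin 3} (hk : lineFun f (cI k) = cI k) {i : Fin 315}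
    (hi : (row i).1 k = 0) : (row (lineFun f i)).1 k = 0 := by
  rw [row_coord_eq_zero_iff] at hi ⊢
  obtain ⟨c, hc, hcn, ec⟩ := lineFun_spec f (cI k)
  obtain ⟨d, hd, hdn, ed⟩ := lineFun_spec f i
  rw [hk] at ec
  have h := f.2 (row i) (row (cI k))
  rw [ec, ed, qip_smul_left, qip_smul_right, row_cI, hi, mul_eq_zero] at h
  rcases h with h | h
  · rw [h] at hdn; simp at hdn
  · refine (mul_eq_zero.1 h).resolve_right fun h => ?_
    rw [star_eq_zero] at h
    rw [h] at hcn; simp at hcn

/-! ### The diagonal subgroup -/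

/-- An element acting diagonally by units. -/
def IsDiag (f : ↥Isom) (a : Fin 3 → ℕ) : Prop :=
  ∀ k, (f.1 (eL k)).1 = fun t => toQ (uAt (a k)) * eV k t

/-- The units of an entry of the diagonal tree. -/
def dUnits (n : ℕ) : Fin 3 → ℕ :=
  let e := diagTree.getD n (0, 0, 0, 0, 0)
  ![e.2.2.1, e.2.2.2.1, e.2.2.2.2]

/-- The units of a generator of the diagonal subgroup. -/
def dgUnits (g : ℕ) : Fin 3 → ℕ :=
  let e := diagGens.getD g ([], 0, 0, 0)
  ![e.2.1, e.2.2.1, e.2.2.2]

/-- The word of a generator of the diagonal subgroup. -/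
def dgWord (g : ℕ) : List ℕ := (diagGens.getD g ([], 0, 0, 0)).1

theorem diagGens_check : ∀ g : Fin 4, ∀ k : Fin 3, wOK (dgWord g.1) (eT k) = true ∧
    wImg (dgWord g.1) (eT k) = tsmul (uAt (dgUnits g.1 k)) (eT k) := by
  decide +kernel

/-- The parent and generator of an entry. -/
def dStep (n : ℕ) : ℕ × ℕ :=
  let e := diagTree.getD n (0, 0, 0, 0, 0)
  (e.1, e.2.1)

/-- The unit triple of an entry. -/
def dQ (n : ℕ) (k : Fin 3) : Qt := uAt (dUnits n k)

theorem diagTree_check : diagTree.length = 384 ∧ (∀ k, dQ 0 k = qone) ∧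
    ((List.range 384).all fun n => decide (n = 0) || (decide ((dStep n).1 < n) &&
      decide ((dStep n).2 < 4) && (List.finRange 3).all fun k => decide (dQ n k =
        qmul (uAt (dgUnits (dStep n).2 k)) (dQ (dStep n).1 k)))) = true := by
  decide +kernel

theorem isIco_uAt (j : ℕ) : isIco (uAt j) = true := (unit_facts (uAt_mem j)).1

theorem isDiag_gen (g : Fin 4) : IsDiag (gWord (dgWord g.1)) (dgUnits g.1) := by
  intro k
  obtain ⟨h1, h2⟩ := diagGens_check g k
  have e := toV_wImg _ _ h1 (by rw [toV_eT]; exact eV_mem k)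
  have hk : ∀ k : Fin 3, icoT (eT k) = true := by decide
  rw [h2, toV_smul (isIco_uAt _) (hk k)] at e
  simp only [toV_eT] at e
  exact e

theorem exists_isDiag : ∀ n < 384, ∃ f ∈ gen4, IsDiag f (dUnits n) := by
  obtain ⟨-, h0, hstep⟩ := diagTree_check
  simp only [List.all_eq_true, List.mem_range, Bool.or_eq_true, Bool.and_eq_true,
    decide_eq_true_eq] at hstep
  intro n
  induction n using Nat.strong_induction_on with
  | _ n ih =>
    intro hn
    rcases hstep n hn with rfl | ⟨⟨hp, hk⟩, he⟩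
    · refine ⟨1, one_mem _, fun k => ?_⟩
      show eV k = _
      rw [show uAt (dUnits 0 k) = qone from h0 k, toQ_one]
      simp
    · obtain ⟨f, hf, hd⟩ := ih _ hp (by omega)
      refine ⟨f * gWord (dgWord (dStep n).2), mul_mem hf (gWord_mem _), fun k => ?_⟩
      have hgen := isDiag_gen ⟨_, hk⟩ k
      have hc : toQ (uAt (dgUnits (dStep n).2 k)) ∈ icosians :=
        toQ_mem_icosians_iff.2 (isIco_uAt _)
      show (f.1 ((gWord (dgWord (dStep n).2)).1 (eL k))).1 = _
      rw [show (gWord (dgWord (dStep n).2)).1 (eL k) = ⟨_, smul_mem hc (eL k)⟩ from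
        Subtype.ext hgen, apply_smul f.2 hc, hd k,
        show uAt (dUnits n k) = _ from he k (List.mem_finRange k),
        toQ_qmul (isIco_uAt _) (show isIco (dQ (dStep n).1 k) = true from isIco_uAt _)]
      funext t
      rw [mul_assoc]
      rfl

/-- A diagonal element. -/
noncomputable def dEl (n : Fin 384) : ↥Isom := (exists_isDiag n.1 n.2).choose

theorem dEl_mem (n : Fin 384) : dEl n ∈ gen4 := (exists_isDiag n.1 n.2).choose_spec.1

theorem isDiag_dEl (n : Fin 384) : IsDiag (dEl n) (dUnits n.1) :=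
  (exists_isDiag n.1 n.2).choose_spec.2

/-- The image of a triple under a diagonal map. -/
def dImg (a b c : Qt) (t : Tr) : Tr := ⟨qmul t.x a, qmul t.y b, qmul t.z c⟩

/-- A vector with a zero second coordinate. -/
def rowA : ℕ := (((List.range 315).filter fun i =>
  decide ((rowT i).x = qh) && decide ((rowT i).y = qzero))).headD 0

/-- Units allowed in each diagonal position. -/
def sA : List Qt := units.filter fun u => divBy (qconj qh) (qmul qh u)

/-- Units allowed in the last diagonal position. -/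
def sC : List Qt :=
  let w := (rowT rowA).z
  units.filter fun u => divBy (qconj qh) (qmul w u)

theorem rowA_check : rowA < 315 ∧ (rowT rowA).x = qh ∧ (rowT rowA).y = qzero ∧
    (rowT 65).x = qzero ∧ (rowT 65).y = qh ∧ (rowT 306).x = qone ∧ (rowT 306).y = qone := by
  decide +kernel

/-- The unit triples of the tree. -/
def dList : List (Qt × Qt × Qt) := (List.range 384).map fun n => (dQ n 0, dQ n 1, dQ n 2)

theorem diag_complete_check : (sA.all fun a => (sA.filter fun b =>
      divBy (qconj qh) (qadd a (qneg b))).all fun b => (sC.filter fun c =>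
        memL (dImg a b c (rowT 306)) && memL (dImg a b c (rowT 65))).all fun c =>
          dList.contains (a, b, c)) = true := by
  decide +kernel

theorem unit_of_norm {c : ℍ[ℝ]} (hc : c ∈ icosians) (hn : normSq c = 1) :
    ∃ u ∈ units, toQ u = c := by
  obtain ⟨u, hui, rfl⟩ := mem_icosians_iff.1 hc
  refine ⟨u, mem_units hui ?_, rfl⟩
  have e : nZ u = (4, 0) := toR_injective (by rw [toR_nZ, hn]; simp [toR])
  rw [qT, e]; rfl

theorem apply_of_diag {f : ↥Isom} {l : Fin 3 → Qt} (hl : ∀ k, l k ∈ units)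
    (h : ∀ k, (f.1 (eL k)).1 = fun t => toQ (l k) * eV k t) {t : Tr} (ht : icoT t = true)
    (hm : toV t ∈ icoLeech) :
    (f.1 ⟨toV t, hm⟩).1 = toV (dImg (l 0) (l 1) (l 2) t) := by
  obtain ⟨hx, hy, hz⟩ := icoT_iff.1 ht
  have hi : ∀ k, isIco (l k) = true := fun k => (unit_facts (hl k)).1
  have h2 : ∀ a b : ℍ[ℝ], ((1 / 2 : ℝ) • a) * (b * 2) = a * b := by
    intro a b
    rw [← coe_two, Quaternion.mul_coe_eq_smul, mul_smul_comm, smul_mul_assoc, smul_smul]
    norm_num
  have h3 : ∀ a b : ℍ[ℝ], (2 : ℝ)⁻¹ • (a * (b * 2)) = a * b := by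
    intro a b
    rw [← h2 a b, smul_mul_assoc, one_div]
  rw [apply_eq_sum f.2]
  funext s
  simp only [Fin.sum_univ_three, h]
  fin_cases s <;>
    simp [eV, toV, dImg, toQ_qmul, hx, hy, hz, hi, h3]

theorem exists_dEl_of_fix {f : ↥Isom} (h : ∀ k, lineFun f (cI k) = cI k) :
    ∃ n : Fin 384, f = dEl n := by
  have hk : ∀ k, ∃ u ∈ units, (f.1 (eL k)).1 = fun t => toQ u * eV k t := by
    intro k
    obtain ⟨c, hc, hcn, ec⟩ := lineFun_spec f (cI k)
    obtain ⟨u, hu, rfl⟩ := unit_of_norm hc hcn
    rw [h k, row_cI] at ec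
    exact ⟨u, hu, ec⟩
  choose l hl he using hk
  have hmem : ∀ i, i < 315 → memL (dImg (l 0) (l 1) (l 2) (rowT i)) = true := by
    intro i hi
    rw [← toV_mem_iff, ← apply_of_diag hl he (icoT_rowT hi) (isMin_iff.1 (isMin_rowT hi)).1]
    exact (f.1 _).2
  obtain ⟨hA, ax, ay, bx, by', cx, cy⟩ := rowA_check
  have q0 : ∀ u, isIco u = true → qmul qzero u = qzero := fun u hu =>
    toQ_injective (by rw [toQ_qmul (by decide) hu, toQ_zero, zero_mul])
  have q1 : ∀ u, isIco u = true → qmul qone u = u := fun u hu =>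
    toQ_injective (by rw [toQ_qmul (by decide) hu, toQ_one, one_mul])
  have hi : ∀ k, isIco (l k) = true := fun k => (unit_facts (hl k)).1
  have hq : isIco qh = true := by decide
  have dz : ∀ {w : Qt}, isIco w = true →
      (toQ w ∈ leftIdeal icoH ↔ divBy (qconj qh) w = true) := fun _ => mem_Ih_iff _
  obtain ⟨-, -, -, hAxy, hAyz, -⟩ := memL_parts (hmem rowA hA)
  obtain ⟨-, -, -, hBxy, -, -⟩ := memL_parts (hmem 65 (by norm_num))
  obtain ⟨-, -, -, hCxy, -, -⟩ := memL_parts (hmem 306 (by norm_num))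
  simp only [dImg, ax, ay, q0 _ (hi 1), toQ_zero, sub_zero, zero_sub] at hAxy hAyz
  simp only [dImg, bx, by', q0 _ (hi 0), toQ_zero, zero_sub] at hBxy
  simp only [dImg, cx, cy, q1 _ (hi 0), q1 _ (hi 1)] at hCxy
  have hneg : ∀ {q : ℍ[ℝ]}, -q ∈ leftIdeal icoH → q ∈ leftIdeal icoH := by
    rintro q ⟨a, ha, e⟩
    exact ⟨-a, neg_mem ha, by rw [neg_mul, ← e, neg_neg]⟩
  have hc := diag_complete_check
  simp only [List.all_eq_true, List.mem_filter, Bool.and_eq_true, List.contains_iff_mem] at hc
  have m0 : l 0 ∈ sA := List.mem_filter.2 ⟨hl 0, (dz (isIco_qmul hq (hi 0)).1).1 hAxy⟩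
  have m1 : l 1 ∈ sA := List.mem_filter.2 ⟨hl 1, (dz (isIco_qmul hq (hi 1)).1).1 (hneg hBxy)⟩
  have m2 : l 2 ∈ sC := List.mem_filter.2 ⟨hl 2, (mem_Ih_iff _).1 (hneg hAyz)⟩
  have m3 : divBy (qconj qh) (qadd (l 0) (qneg (l 1))) = true :=
    (mem_Ih_iff _).1 (by rw [toQ_add, toQ_neg, ← sub_eq_add_neg]; exact hCxy)
  have m := hc _ m0 _ ⟨m1, m3⟩ _ ⟨m2, hmem 306 (by norm_num), hmem 65 (by norm_num)⟩
  simp only [dList, List.mem_map, List.mem_range, Prod.mk.injEq] at m
  obtain ⟨n, hn, e0, e1, e2⟩ := m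
  refine ⟨⟨n, hn⟩, Subtype.ext (Isom_ext f.2 (dEl ⟨n, hn⟩).2 fun k => Subtype.ext ?_)⟩
  rw [he k, isDiag_dEl ⟨n, hn⟩ k]
  have he' : ∀ k, uAt (dUnits n k) = l k := by
    intro k; fin_cases k
    exacts [e0, e1, e2]
  show _ = fun t => toQ (uAt (dUnits n k)) * eV k t
  rw [he']

theorem lineFun_cI_of_diag {f : ↥Isom} {a : Fin 3 → ℕ} (h : IsDiag f a) (k : Fin 3) :
    lineFun f (cI k) = cI k := by
  refine lineFun_eq f (toQ_mem_icosians_iff.2 (isIco_uAt (a k))) (normSq_unit (uAt_mem _)) ?_
  rw [row_cI]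
  exact h k

/-! ### The structure of the group -/

/-- The elements of the transversal of the first stabiliser. -/
noncomputable def tEl (i : Fin 315) : ↥Isom := (exists_lineFun_eq i).choose

theorem tEl_mem (i : Fin 315) : tEl i ∈ gen4 := (exists_lineFun_eq i).choose_spec.1

theorem lineFun_tEl (i : Fin 315) : lineFun (tEl i) exI = i := (exists_lineFun_eq i).choose_spec.2

/-- The product of three transversal elements. -/
noncomputable def word3 (p : Fin 315 × Fin 10 × Fin 384) : ↥Isom :=
  tEl p.1 * gWord (oWord p.2.1.1) * dEl p.2.2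

theorem word3_surjective : Function.Surjective word3 := by
  intro f
  set f1 := (tEl (lineFun f exI))⁻¹ * f with hf1
  have h1 : lineFun f1 exI = exI := by
    have e := lineFun_tEl (lineFun f exI)
    rw [hf1, lineFun_mul]
    calc lineFun (tEl (lineFun f exI))⁻¹ (lineFun f exI)
        = lineFun (tEl (lineFun f exI))⁻¹ (lineFun (tEl (lineFun f exI)) exI) := by rw [e]
      _ = exI := by rw [← lineFun_mul, inv_mul_cancel, lineFun_one]
  have hxx : (rowT (lineFun f1 eyI).1).x = qzero := by
    refine toQ_injective ?_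
    rw [toQ_zero]
    exact coord_lineFun (k := 0) (f := f1) (i := eyI) h1 (by
      show toQ (rowT 73).x = 0
      rw [show (rowT 73).x = qzero by decide +kernel, toQ_zero])
  obtain ⟨j, hjx, hjy⟩ := exists_orth_move hxx
  set f2 := (gWord (oWord j.1))⁻¹ * f1 with hf2
  have h2x : lineFun f2 exI = exI := by
    rw [hf2, lineFun_mul, h1]
    calc lineFun (gWord (oWord j.1))⁻¹ exI
        = lineFun (gWord (oWord j.1))⁻¹ (lineFun (gWord (oWord j.1)) exI) := by rw [hjx]
      _ = exI := by rw [← lineFun_mul, inv_mul_cancel, lineFun_one]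
  have h2y : lineFun f2 eyI = eyI := by
    rw [hf2, lineFun_mul, ← hjy, ← lineFun_mul, inv_mul_cancel, lineFun_one]
  have h2z : lineFun f2 ezI = ezI := by
    obtain ⟨-, -, h64, -, -, -⟩ := orth_check
    simp only [List.all_eq_true, List.mem_range, Bool.or_eq_true, decide_eq_true_eq] at h64
    have hz : (rowT 64).x = qzero ∧ (rowT 64).y = qzero := by decide +kernel
    have hx' : (rowT (lineFun f2 ezI).1).x = qzero := toQ_injective (by
      rw [toQ_zero]
      exact coord_lineFun (k := 0) (f := f2) (i := ezI) h2x (by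
        show toQ (rowT 64).x = 0
        rw [hz.1, toQ_zero]))
    have hy' : (rowT (lineFun f2 ezI).1).y = qzero := toQ_injective (by
      rw [toQ_zero]
      exact coord_lineFun (k := 1) (f := f2) (i := ezI) h2y (by
        show toQ (rowT 64).y = 0
        rw [hz.2, toQ_zero]))
    rcases h64 _ (lineFun f2 ezI).2 with (h | h) | h
    · exact absurd hx' h
    · exact absurd hy' h
    · exact Fin.ext h
  obtain ⟨n, hn⟩ := exists_dEl_of_fix (f := f2) (by
    intro k
    fin_cases k
    exacts [h2x, h2y, h2z])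
  refine ⟨(lineFun f exI, j, n), ?_⟩
  rw [word3, ← hn, hf2, hf1]
  group

theorem gen4_eq_top : gen4 = ⊤ := by
  refine eq_top_iff.2 fun f _ => ?_
  obtain ⟨p, rfl⟩ := word3_surjective f
  exact mul_mem (mul_mem (tEl_mem _) (gWord_mem _)) (dEl_mem _)

theorem twoJ2_eq_Isom : twoJ2 = Isom := by
  refine le_antisymm twoJ2_le_Isom fun f hf => ?_
  have h : (⟨f, hf⟩ : ↥Isom) ∈ gen4 := by rw [gen4_eq_top]; trivial
  exact gen4_le h

theorem dQ_nodup : dList.Nodup := by decide +kernel

theorem word3_injective : Function.Injective word3 := by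
  have hfix : ∀ j : Fin 10, lineFun (gWord (oWord j.1)) exI = exI ∧
      (lineFun (gWord (oWord j.1)) eyI).1 = orthIdx.getD j.1 0 := by
    intro j
    obtain ⟨-, -, -, -, h, -⟩ := orth_check
    simp only [List.all_eq_true, List.mem_range, Bool.and_eq_true, decide_eq_true_eq] at h
    exact ⟨Fin.ext ((lineFun_gWord _ _).trans (h j.1 j.2).1),
      (lineFun_gWord _ _).trans (h j.1 j.2).2⟩
  rintro ⟨i, j, n⟩ ⟨i', j', n'⟩ h
  have ev : ∀ i j n, lineFun (word3 (i, j, n)) exI = i := by
    intro i j n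
    rw [word3, lineFun_mul, lineFun_mul,
      show lineFun (dEl n) exI = exI from lineFun_cI_of_diag (isDiag_dEl n) 0, (hfix j).1,
      lineFun_tEl]
  have hi : i = i' := (ev i j n).symm.trans ((congrArg (lineFun · exI) h).trans (ev i' j' n'))
  subst hi
  simp only [word3, mul_assoc, mul_left_cancel_iff] at h
  have hy := congrArg (lineFun · eyI) h
  simp only [lineFun_mul, show ∀ n, lineFun (dEl n) eyI = eyI from
    fun n => lineFun_cI_of_diag (isDiag_dEl n) 1] at hy
  have hj : j = j' := by
    obtain ⟨hl, -, -, -, -, hnd⟩ := orth_check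
    have := congrArg Fin.val hy
    rw [(hfix j).2, (hfix j').2, List.getD_eq_getElem _ _ (by rw [hl]; exact j.2),
      List.getD_eq_getElem _ _ (by rw [hl]; exact j'.2), hnd.getElem_inj_iff] at this
    exact Fin.ext this
  subst hj
  rw [mul_left_cancel_iff] at h
  have hn : dList[n.1]'(by simp [dList]) = dList[n'.1]'(by simp [dList]) := by
    have hu : ∀ k, dQ n.1 k = dQ n'.1 k := by
      intro k
      have e := congrFun ((isDiag_dEl n k).symm.trans ((congrArg
        (fun f : ↥Isom => (f.1 (eL k)).1) h).trans (isDiag_dEl n' k))) k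
      simp only [eV, Pi.single_eq_same] at e
      have h20 : (2 : ℍ[ℝ]) ≠ 0 := by
        rw [← coe_two, ← Quaternion.coe_zero]
        exact fun e => two_ne_zero (Quaternion.coe_inj.1 e)
      exact toQ_injective (mul_right_cancel₀ h20 e)
    simp [dList, hu]
  rw [dQ_nodup.getElem_inj_iff] at hn
  rw [Fin.ext hn]

theorem card_Isom : Nat.card ↥Isom = 1209600 := by
  rw [← Nat.card_eq_of_bijective word3 ⟨word3_injective, word3_surjective⟩, Nat.card_prod,
    Nat.card_prod, Nat.card_fin, Nat.card_fin, Nat.card_fin]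

instance : Finite ↥Isom := Finite.of_surjective _ word3_surjective

/-! ### The centre -/

theorem neg_mem_icoLeech (x : icoLeech) : -x.1 ∈ icoLeech := by
  have h := smul_mem (c := -1) (neg_mem (one_mem _)) x
  simpa [neg_one_mul, Pi.neg_def] using h

/-- Minus one. -/
noncomputable def negI : ↥Isom :=
  ⟨{ toFun := fun x => ⟨-x.1, neg_mem_icoLeech x⟩
     invFun := fun x => ⟨-x.1, neg_mem_icoLeech x⟩
     left_inv := fun x => Subtype.ext (neg_neg _)
     right_inv := fun x => Subtype.ext (neg_neg _) },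
    fun x y => by
      show qip (-x.1) (-y.1) = qip x.1 y.1
      simp [qip]⟩

theorem negI_ne_one : negI ≠ 1 := by
  intro h
  have e : -(eV 0 0) = eV 0 0 := congrFun (congrArg (fun f : ↥Isom => (f.1 (eL 0)).1) h) 0
  simp only [eV, Pi.single_eq_same, neg_eq_iff_add_eq_zero] at e
  rw [← coe_two, ← Quaternion.coe_add, ← Quaternion.coe_zero, Quaternion.coe_inj] at e
  norm_num at e

theorem negI_commute (f : ↥Isom) : negI * f = f * negI := by
  refine Subtype.ext (Equiv.ext fun x => Subtype.ext ?_)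
  show -(f.1 x).1 = (f.1 ⟨-x.1, neg_mem_icoLeech x⟩).1
  rw [apply_eq_sum f.2, apply_eq_sum f.2]
  funext t
  simp

/-- The diagonal triples fixing every line. -/
def scalarSurvivors : List (Qt × Qt × Qt) := dList.filter fun d =>
  (List.range 315).all fun i => decide ((rowT i).x ≠ qone) ||
    (decide (qmul d.1 (rowT i).y = qmul (rowT i).y d.2.1) &&
      decide (qmul d.1 (rowT i).z = qmul (rowT i).z d.2.2))

theorem scalar_check : scalarSurvivors.all (fun d => decide (d = (qone, qone, qone)) ||
    decide (d = (qneg qone, qneg qone, qneg qone))) = true := by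
  decide +kernel

theorem diag_eq_of {f g : ↥Isom} (h : ∀ k, (f.1 (eL k)).1 = (g.1 (eL k)).1) : f = g :=
  Subtype.ext (Isom_ext f.2 g.2 fun k => Subtype.ext (h k))

theorem eq_one_or_negI_of_ker {f : ↥Isom} (h : ∀ i, lineFun f i = i) : f = 1 ∨ f = negI := by
  obtain ⟨n, rfl⟩ := exists_dEl_of_fix (f := f) (fun k => h (cI k))
  set l : Fin 3 → Qt := fun k => dQ n.1 k with hl
  have hlu : ∀ k, l k ∈ units := fun k => uAt_mem _
  have hd : (dQ n.1 0, dQ n.1 1, dQ n.1 2) ∈ scalarSurvivors := by
    refine List.mem_filter.2 ⟨List.mem_map.2 ⟨n.1, List.mem_range.2 n.2, rfl⟩, ?_⟩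
    simp only [List.all_eq_true, List.mem_range, Bool.or_eq_true, Bool.and_eq_true, decide_eq_true_eq]
    intro i hi
    by_cases hx : (rowT i).x = qone
    · right
      obtain ⟨c, hc, hcn, ec⟩ := lineFun_spec (dEl n) ⟨i, hi⟩
      rw [h] at ec
      have ht := icoT_rowT hi
      obtain ⟨-, hy, hz⟩ := icoT_iff.1 ht
      have e := apply_of_diag hlu (isDiag_dEl n) ht (isMin_iff.1 (isMin_rowT hi)).1
      have e' : toV (dImg (l 0) (l 1) (l 2) (rowT i)) = fun t => c * toV (rowT i) t := e.symm.trans ec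
      have hli : ∀ k, isIco (l k) = true := fun k => isIco_uAt _
      have e0 := congrFun e' 0
      have e1 := congrFun e' 1
      have e2 := congrFun e' 2
      simp only [toV, dImg, Matrix.cons_val_zero, Matrix.cons_val_one, Matrix.cons_val, hx] at e0 e1 e2
      rw [toQ_qmul (by decide) (hli 0), toQ_one, one_mul, mul_one] at e0
      rw [toQ_qmul hy (hli 1), ← e0] at e1
      rw [toQ_qmul hz (hli 2), ← e0] at e2
      exact ⟨toQ_injective (by rw [toQ_qmul (hli 0) hy, toQ_qmul hy (hli 1), e1]),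
        toQ_injective (by rw [toQ_qmul (hli 0) hz, toQ_qmul hz (hli 2), e2])⟩
    · exact Or.inl hx
  have hs := scalar_check
  simp only [List.all_eq_true, Bool.or_eq_true, decide_eq_true_eq] at hs
  rcases hs _ hd with hd | hd <;> simp only [Prod.mk.injEq] at hd <;> obtain ⟨a, b, c⟩ := hd
  · left
    refine diag_eq_of fun k => ?_
    rw [isDiag_dEl n k]
    show _ = eV k
    fin_cases k <;> simp only [dQ] at a b c <;> simp [a, b, c, toQ_one]
  · right
    refine diag_eq_of fun k => ?_
    rw [isDiag_dEl n k]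
    show _ = -eV k
    fin_cases k <;> simp only [dQ] at a b c <;> simp [a, b, c, toQ_one, toQ_neg, Pi.neg_def]

theorem negI_lineFun (i : Fin 315) : lineFun negI i = i :=
  lineFun_eq negI (c := -1) (neg_mem (one_mem _)) (by rw [Quaternion.normSq_neg, map_one])
    (by funext t; show -((row i).1 t) = _; simp)

theorem ker_lineHom : ∀ f : ↥Isom, f ∈ lineHom.ker ↔ (f = 1 ∨ f = negI) := by
  intro f
  rw [MonoidHom.mem_ker]
  constructor
  · intro h
    exact eq_one_or_negI_of_ker fun i => by rw [← lineHom_apply, h]; rfl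
  · rintro (rfl | rfl)
    · exact map_one _
    · exact Equiv.ext fun i => negI_lineFun i

/-- The coordinate reflection among the diagonal elements. -/
theorem reflX_check : dList.contains (qneg qone, qone, qone) = true := by decide +kernel

theorem center_Isom : Subgroup.center ↥Isom = lineHom.ker := by
  ext f
  rw [Subgroup.mem_center_iff, ker_lineHom]
  constructor
  · intro hc
    refine eq_one_or_negI_of_ker fun i => ?_
    have hx : lineFun f exI = exI := by
      have hm := reflX_check
      simp only [List.contains_iff_mem, dList, List.mem_map, List.mem_range, Prod.mk.injEq] at hm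
      obtain ⟨n, hn, a, b, c⟩ := hm
      obtain ⟨d, hd, hdn, ed⟩ := lineFun_spec f exI
      set v := row (lineFun f exI) with hv
      have hrow : row exI = eL 0 := row_cI 0
      rw [hrow] at ed
      have hu : toQ (uAt (dUnits n 0)) = -1 := by
        rw [show uAt (dUnits n 0) = qneg qone from a, toQ_neg, toQ_one]
      have hl : ∀ k, uAt (dUnits n k) ∈ units := fun k => uAt_mem _
      have hcomm := congrArg (fun g : ↥Isom => (g.1 (eL 0)).1) (hc (dEl ⟨n, hn⟩))
      change ((dEl ⟨n, hn⟩).1 (f.1 (eL 0))).1 = (f.1 ((dEl ⟨n, hn⟩).1 (eL 0))).1 at hcomm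
      rw [show f.1 (eL 0) = ⟨_, smul_mem hd v⟩ from Subtype.ext ed, apply_smul (dEl ⟨n, hn⟩).2 hd,
        show (dEl ⟨n, hn⟩).1 (eL 0) = ⟨_, smul_mem (toQ_mem_icosians_iff.2 (isIco_uAt _)) (eL 0)⟩
          from Subtype.ext (isDiag_dEl ⟨n, hn⟩ 0),
        apply_smul f.2 (toQ_mem_icosians_iff.2 (isIco_uAt _)), ed, hu] at hcomm
      have ht := icoT_rowT (lineFun f exI).2
      obtain ⟨-, hy, hz⟩ := icoT_iff.1 ht
      have happ := apply_of_diag hl (isDiag_dEl ⟨n, hn⟩) ht
        (isMin_iff.1 (isMin_rowT (lineFun f exI).2)).1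
      have hne : d ≠ 0 := fun e => by rw [e] at hdn; simp at hdn
      have key : ∀ {q : Qt}, isIco q = true → d * toQ (qmul q qone) = -1 * (d * toQ q) →
          q = qzero := by
        intro q hq e
        rw [toQ_qmul hq (by decide), toQ_one, mul_one, neg_one_mul, eq_neg_iff_add_eq_zero,
          ← two_smul ℝ, smul_eq_zero, mul_eq_zero] at e
        refine toQ_injective ?_
        rw [toQ_zero]
        exact (e.resolve_left two_ne_zero).resolve_left hne
      have e1 := congrFun hcomm 1
      have e2 := congrFun hcomm 2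
      rw [show v = ⟨toV (rowT (lineFun f exI).1), _⟩ from rfl, happ] at e1 e2
      simp only [toV, dImg, Matrix.cons_val_one, Matrix.cons_val] at e1 e2
      rw [show uAt (dUnits n 1) = qone from b] at e1
      rw [show uAt (dUnits n 2) = qone from c] at e2
      obtain ⟨-, -, -, h314, -, -⟩ := orth_check
      simp only [List.all_eq_true, List.mem_range, Bool.or_eq_true, decide_eq_true_eq] at h314
      rcases h314 _ (lineFun f exI).2 with (h | h) | h
      · exact absurd (key hy e1) h
      · exact absurd (key hz e2) h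
      · exact Fin.ext h
    obtain ⟨g, -, rfl⟩ := exists_lineFun_eq i
    rw [← lineFun_mul, ← hc g, lineFun_mul, hx]
  · rintro (rfl | rfl) g
    · simp
    · exact (negI_commute g).symm

theorem card_center : Nat.card ↥(Subgroup.center ↥Isom) = 2 := by
  rw [center_Isom]
  have : ((lineHom.ker : Subgroup ↥Isom) : Set ↥Isom) = {1, negI} := by
    ext f; simp [ker_lineHom f]
  rw [← SetLike.coe_sort_coe, this, Nat.card_coe_set_eq, Set.ncard_pair (Ne.symm negI_ne_one)]

end CfsgLib.Char.J2
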