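import Cfsg.Agent.Lib.Char.J2.Elements
import Cfsg.Agent.Lib.Char.J2.PSUData
import Cfsg.Agent.Lib.Char.SU33.Classes

/-!
The stabiliser of a block in J2 is the special unitary group of dimension three over nine elements.
-/

set_option autoImplicit false
set_option maxRecDepth 10000

namespace CfsgLib.Char.J2

open Cfsg.Spor
open CfsgLib.Char.SU33 (pget gCode mulM oneM codeOf Root)

/-- The code of the element attached to a matrix. -/
def psuImg (i : ℕ) : ℕ := pget 13 psuImgTab i

/-- The index of the matrix attached to an element. -/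
def psuInv (h : ℕ) : ℕ := pget 13 psuInvTab h

/-- Right multiplication by a generator. -/
def psuSuc (g i : ℕ) : ℕ := if g = 0 then pget 13 psuSucA i else pget 13 psuSucB i

/-- A generator. -/
def psuGen (g : ℕ) : ℕ := if g = 0 then psuGenA else psuGenB

theorem psu_step_check : ((List.range 6048).all fun i => (List.range 2).all fun g =>
    decide (psuSuc g i < 6048) && (gCode (psuSuc g i) == mulM (gCode i) (gCode (psuGen g))) &&
      (List.range 4).all fun j =>
        appC (psuImg (psuSuc g i)) (bpt j) == appC (psuImg i) (appC (psuImg (psuGen g)) (bpt j))) = true := by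
  decide +kernel

theorem psu_tree_check : ((List.range 6048).all fun i =>
    decide (i = psuUnit) || (decide (pget 14 psuParTab i / 2 < 6048) &&
      decide (pget 6 psuDepTab (pget 14 psuParTab i / 2) < pget 6 psuDepTab i) &&
      (psuSuc (pget 14 psuParTab i % 2) (pget 14 psuParTab i / 2) == i))) = true := by
  decide +kernel

theorem psu_range_check : ((List.range 6048).all fun i => decide (psuImg i < 6048) &&
    decide (psuInv i < 6048) && (psuImg (psuInv i) == i)) = true := by
  decide +kernel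

theorem psu_unit_check : psuUnit < 6048 ∧ psuGenA < 6048 ∧ psuGenB < 6048 ∧
    gCode psuUnit = oneM ∧ psuImg psuUnit = 0 := by
  decide +kernel

/-- The action on the blocks of the group of dimension three. -/
noncomputable def psuMap {F : Type*} [Field F] [Fintype F] (R : Root F) (g : ↥(Cfsg.SU 3 F 3)) : ↥P100 :=
  el (psuImg ((SU33.elem_bijective R).2 g).choose.1)

theorem psuMap_elem {F : Type*} [Field F] [Fintype F] (R : Root F) (i : Fin 6048) :
    psuMap R (SU33.elem R i) = el (psuImg i.1) := by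
  rw [psuMap]
  congr 2
  exact congrArg Fin.val
    ((SU33.elem_bijective R).1 ((SU33.elem_bijective R).2 (SU33.elem R i)).choose_spec)

theorem psu_elem_step {F : Type*} [Field F] [Fintype F] (R : Root F) {i g : ℕ} (hi : i < 6048) (hg : g < 2) :
    ∃ (hs : psuSuc g i < 6048) (hgg : psuGen g < 6048),
      SU33.elem R ⟨i, hi⟩ * SU33.elem R ⟨psuGen g, hgg⟩ = SU33.elem R ⟨psuSuc g i, hs⟩ ∧
      el (psuImg i) * el (psuImg (psuGen g)) = el (psuImg (psuSuc g i)) := by
  have h := psu_step_check
  simp only [List.all_eq_true, List.mem_range, Bool.and_eq_true, decide_eq_true_eq, beq_iff_eq] at h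
  obtain ⟨⟨hs, hm⟩, hb⟩ := h i hi g hg
  have hr := psu_range_check
  simp only [List.all_eq_true, List.mem_range, Bool.and_eq_true, decide_eq_true_eq] at hr
  have hgg : psuGen g < 6048 := by
    obtain ⟨-, hA, hB, -, -⟩ := psu_unit_check
    unfold psuGen; split_ifs <;> assumption
  refine ⟨hs, hgg, SU33.codeOf_injective R ?_, eq_of_base fun j => Fin.ext ?_⟩
  · rw [SU33.codeOf_mul, SU33.codeOf_elem, SU33.codeOf_elem, SU33.codeOf_elem, hm]
  · show ((el (psuImg i)).1 ((el (psuImg (psuGen g))).1 (bP j))).1 = ((el (psuImg (psuSuc g i))).1 (bP j)).1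
    have lt : ∀ n, n < 6048 → psuImg n < 604800 := fun n hn => by have := (hr n hn).1.1; omega
    rw [el_apply (lt i hi), el_apply (lt _ hgg), el_apply (lt _ hs)]
    exact (hb j.1 j.2).symm

theorem psuMap_mul {F : Type*} [Field F] [Fintype F] (R : Root F) (x y : ↥(Cfsg.SU 3 F 3)) :
    psuMap R (x * y) = psuMap R x * psuMap R y := by
  obtain ⟨hu, -, -, huc, hui⟩ := psu_unit_check
  have ht := psu_tree_check
  simp only [List.all_eq_true, List.mem_range, Bool.or_eq_true, Bool.and_eq_true, decide_eq_true_eq,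
    beq_iff_eq] at ht
  have hone : SU33.elem R ⟨psuUnit, hu⟩ = 1 :=
    SU33.codeOf_injective R (by rw [SU33.codeOf_elem, SU33.codeOf_one, huc])
  have hgen : ∀ (x : ↥(Cfsg.SU 3 F 3)) (g : ℕ) (hg : g < 2) (hgg : psuGen g < 6048),
      psuMap R (x * SU33.elem R ⟨psuGen g, hgg⟩) = psuMap R x * el (psuImg (psuGen g)) := by
    intro x g hg hgg
    obtain ⟨⟨i, hi⟩, rfl⟩ := (SU33.elem_bijective R).2 x
    obtain ⟨hs, _, e1, e2⟩ := psu_elem_step R hi hg
    rw [e1, psuMap_elem, psuMap_elem, e2]
  suffices ∀ d, ∀ (i : Fin 6048), pget 6 psuDepTab i.1 ≤ d → ∀ x,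
      psuMap R (x * SU33.elem R i) = psuMap R x * psuMap R (SU33.elem R i) by
    obtain ⟨i, rfl⟩ := (SU33.elem_bijective R).2 y
    exact this _ i le_rfl x
  intro d
  induction d with
  | zero =>
    intro i hd x
    rcases ht i.1 i.2 with h | ⟨⟨-, h⟩, -⟩
    · have : i = ⟨psuUnit, hu⟩ := Fin.ext h
      subst this
      rw [hone, mul_one, show psuMap R (1 : ↥(Cfsg.SU 3 F 3)) = 1 by
        rw [← hone, psuMap_elem]; show el (psuImg psuUnit) = 1; rw [hui, el_zero], mul_one]
    · omega
  | succ d ih =>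
    intro i hd x
    rcases ht i.1 i.2 with h | ⟨⟨hp, hlt⟩, he⟩
    · have : i = ⟨psuUnit, hu⟩ := Fin.ext h
      subst this
      rw [hone, mul_one, show psuMap R (1 : ↥(Cfsg.SU 3 F 3)) = 1 by
        rw [← hone, psuMap_elem]; show el (psuImg psuUnit) = 1; rw [hui, el_zero], mul_one]
    · set p := pget 14 psuParTab i.1 / 2
      set g := pget 14 psuParTab i.1 % 2
      obtain ⟨hs, hgg, e1, e2⟩ := psu_elem_step R hp (show g < 2 from Nat.mod_lt _ two_pos)
      have hi : (⟨psuSuc g p, hs⟩ : Fin 6048) = i := Fin.ext he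
      rw [hi] at e1
      rw [← e1, ← mul_assoc, hgen _ _ (Nat.mod_lt _ two_pos), hgen _ _ (Nat.mod_lt _ two_pos),
        ih ⟨p, hp⟩ (by show pget 6 psuDepTab p ≤ d; omega), mul_assoc]

/-- The stabiliser of the first block. -/
noncomputable def blockStab : Subgroup ↥P100 :=
  (MulAction.stabilizer (Equiv.Perm (Fin 100)) (0 : Fin 100)).comap P100.subtype

theorem mem_blockStab {g : ↥P100} : g ∈ blockStab ↔ g.1 0 = 0 := by
  rw [blockStab, Subgroup.mem_comap, MulAction.mem_stabilizer_iff]; rfl

theorem nonempty_blockStab_equiv {F : Type*} [Field F] [Fintype F] (R : Root F) :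
    Nonempty (↥(Cfsg.SU 3 F 3) ≃* ↥blockStab) := by
  have hr := psu_range_check
  simp only [List.all_eq_true, List.mem_range, Bool.and_eq_true, decide_eq_true_eq, beq_iff_eq] at hr
  have hmem : ∀ g, psuMap R g ∈ blockStab := fun g => by
    obtain ⟨i, rfl⟩ := (SU33.elem_bijective R).2 g
    rw [psuMap_elem, mem_blockStab]
    exact el_fix_zero (hr i.1 i.2).1.1
  let f : ↥(Cfsg.SU 3 F 3) →* ↥blockStab :=
    MonoidHom.mk' (fun g => ⟨psuMap R g, hmem g⟩) fun a b => Subtype.ext (psuMap_mul R a b)
  refine ⟨MulEquiv.ofBijective f ?_⟩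
  have hsurj : Function.Surjective f := by
    rintro ⟨g, hg⟩
    obtain ⟨h, hh, rfl⟩ := exists_el_of_fix (mem_blockStab.1 hg)
    exact ⟨SU33.elem R ⟨psuInv h, (hr h hh).1.2⟩, Subtype.ext
      ((psuMap_elem R _).trans (congrArg el (hr h hh).2))⟩
  have hle : Nat.card ↥(Cfsg.SU 3 F 3) ≤ Nat.card ↥blockStab := by
    rw [SU33.card_su33 R]
    have hinj : Function.Injective fun h : Fin 6048 =>
        (⟨el h.1, mem_blockStab.2 (el_fix_zero h.2)⟩ : ↥blockStab) := by
      intro a b e
      have e' := elem_bijective.1 (congrArg Subtype.val e)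
      simp only [idxOf, Prod.mk.injEq, Fin.ext_iff] at e'
      exact Fin.ext (by omega)
    simpa using Nat.card_le_card_of_injective _ hinj
  have : Finite ↥(Cfsg.SU 3 F 3) := Nat.finite_of_card_ne_zero (by rw [SU33.card_su33 R]; norm_num)
  exact hsurj.bijective_of_nat_card_le hle

theorem orbit_check :
    ([orbit36, orbit63].all fun L => (L.map Prod.fst).Nodup &&
      (L.all fun p => decide (p.1 < 100) && decide (p.2 < 6048) &&
        (appC p.2 (L.headD (0, 0)).1 == p.1)) &&
      (List.range 6048).all fun h => (L.map Prod.fst).contains (appC h (L.headD (0, 0)).1)) = true ∧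
    orbit36.length = 36 ∧ orbit63.length = 63 := by
  decide +kernel

/-- A listed orbit of the stabiliser of the first block. -/
theorem ncard_listed_orbit {L : List (ℕ × ℕ)} (hL : L ∈ [orbit36, orbit63]) :
    ∃ b : Fin 100, (Set.range fun k : ↥blockStab => k.1.1 b).ncard = L.length := by
  have h := orbit_check.1
  simp only [List.all_eq_true, Bool.and_eq_true, decide_eq_true_eq, beq_iff_eq, List.mem_range,
    List.contains_iff_mem] at h
  obtain ⟨⟨hnd, hw⟩, hcl⟩ := h L hL
  have hne : L ≠ [] := by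
    rintro rfl
    simpa using hcl 0 (by norm_num)
  have hb : (L.headD (0, 0)).1 < 100 := by
    obtain ⟨p, L', rfl⟩ := List.exists_cons_of_ne_nil hne
    exact (hw p (List.mem_cons_self ..)).1.1
  set b : Fin 100 := ⟨(L.headD (0, 0)).1, hb⟩
  refine ⟨b, ?_⟩
  have e : (fun x : Fin 100 => x.1) '' (Set.range fun k : ↥blockStab => k.1.1 b) =
      ↑(L.map Prod.fst).toFinset := by
    ext x
    simp only [Set.mem_image, Set.mem_range, exists_exists_eq_and, List.coe_toFinset, Set.mem_setOf_eq]
    constructor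
    · rintro ⟨⟨k, hk⟩, rfl⟩
      obtain ⟨h, hh, rfl⟩ := exists_el_of_fix (mem_blockStab.1 hk)
      show ((el h).1 b).1 ∈ _
      rw [el_apply (by omega)]
      exact hcl h hh
    · intro hx
      obtain ⟨p, hp, rfl⟩ := List.mem_map.1 hx
      refine ⟨⟨el p.2, mem_blockStab.2 (el_fix_zero (hw p hp).1.2)⟩, ?_⟩
      show ((el p.2).1 b).1 = p.1
      rw [el_apply (by have := (hw p hp).1.2; omega)]
      exact (hw p hp).2
  rw [← Set.ncard_image_of_injective _ (f := fun x : Fin 100 => x.1) Fin.val_injective, e,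
    Set.ncard_coe_finset, List.toFinset_card_of_nodup hnd, List.length_map]

theorem blockStab_pretransitive (b : Fin 100) : ∃ g : ↥P100, g.1 0 = b := by
  have hb := base_check
  simp only [List.all_eq_true, List.mem_range, Bool.and_eq_true, decide_eq_true_eq] at hb
  have hinj : Function.Injective fun n : Fin 100 => (tr100 0 n).1 0 := by
    intro n m e
    have e' := congrArg Fin.val e
    rw [tr0_apply, tr0_apply] at e'
    exact Fin.ext (List.inj_on_of_nodup_map (hb 0 (by norm_num)).1 (List.mem_range.2 n.2)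
      (List.mem_range.2 m.2) e')
  obtain ⟨n, hn⟩ := Finite.surjective_of_injective hinj b
  exact ⟨_, hn⟩

end CfsgLib.Char.J2
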