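import Cfsg.Prelude.Def_Spor_J2

/-!
Exact arithmetic in the icosian ring: quaternions with coordinates in `ℤ[τ]/2`.
-/

set_option autoImplicit false

namespace CfsgLib.Char.J2

open Quaternion Cfsg.Spor

/-- The pair `(p, q)` stands for `p + q τ`. -/
abbrev Zt := ℤ × ℤ

/-- Addition. -/
def zadd (a b : Zt) : Zt := (a.1 + b.1, a.2 + b.2)

/-- Negation. -/
def zneg (a : Zt) : Zt := (-a.1, -a.2)

/-- Multiplication, with `τ² = τ + 1`. -/
def zmul (a b : Zt) : Zt := (a.1 * b.1 + a.2 * b.2, a.1 * b.2 + a.2 * b.1 + a.2 * b.2)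

/-- The real number of a pair. -/
noncomputable def toR (a : Zt) : ℝ := a.1 + a.2 * tau

theorem tau_sq : tau * tau = tau + 1 := by
  unfold tau
  have h : Real.sqrt 5 * Real.sqrt 5 = 5 := Real.mul_self_sqrt (by norm_num)
  ring_nf
  rw [sq, h]
  ring

theorem sig_eq : sig = 1 - tau := by unfold sig tau; ring

theorem sqrt_five_eq : Real.sqrt 5 = 2 * tau - 1 := by unfold tau; ring

theorem toR_add (a b : Zt) : toR (zadd a b) = toR a + toR b := by
  simp only [toR, zadd]; push_cast; ring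

theorem toR_neg (a : Zt) : toR (zneg a) = -toR a := by simp only [toR, zneg]; push_cast; ring

theorem toR_mul (a b : Zt) : toR (zmul a b) = toR a * toR b := by
  simp only [toR, zmul]
  push_cast
  linear_combination (-((a.2 : ℝ) * b.2)) * tau_sq

theorem toR_injective : Function.Injective toR := by
  intro a b h
  have hirr : Irrational (Real.sqrt 5) := by
    exact_mod_cast Nat.Prime.irrational_sqrt (p := 5) (by norm_num)
  simp only [toR, tau] at h
  have h2 : ((b.2 - a.2 : ℤ) : ℝ) * Real.sqrt 5 = ((2 * a.1 + a.2 - (2 * b.1 + b.2) : ℤ) : ℝ) := by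
    push_cast
    linear_combination (-2 : ℝ) * h
  by_cases hq : b.2 - a.2 = 0
  · rw [hq, Int.cast_zero, zero_mul, eq_comm, Int.cast_eq_zero] at h2
    exact Prod.ext (by omega) (by omega)
  · exact absurd h2 ((hirr.intCast_mul hq).ne_int _)

/-- Quaternion coordinates, doubled. -/
structure Qt where
  a : Zt
  b : Zt
  c : Zt
  d : Zt
  deriving DecidableEq

/-- The quaternion of doubled coordinates. -/
noncomputable def toQ (x : Qt) : ℍ[ℝ] := ⟨toR x.a / 2, toR x.b / 2, toR x.c / 2, toR x.d / 2⟩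

@[simp] theorem toQ_re (x : Qt) : (toQ x).re = toR x.a / 2 := rfl
@[simp] theorem toQ_imI (x : Qt) : (toQ x).imI = toR x.b / 2 := rfl
@[simp] theorem toQ_imJ (x : Qt) : (toQ x).imJ = toR x.c / 2 := rfl
@[simp] theorem toQ_imK (x : Qt) : (toQ x).imK = toR x.d / 2 := rfl

@[simp] theorem mkQ_re (a b c d : ℝ) : (⟨a, b, c, d⟩ : ℍ[ℝ]).re = a := rfl
@[simp] theorem mkQ_imI (a b c d : ℝ) : (⟨a, b, c, d⟩ : ℍ[ℝ]).imI = b := rfl
@[simp] theorem mkQ_imJ (a b c d : ℝ) : (⟨a, b, c, d⟩ : ℍ[ℝ]).imJ = c := rfl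
@[simp] theorem mkQ_imK (a b c d : ℝ) : (⟨a, b, c, d⟩ : ℍ[ℝ]).imK = d := rfl

/-- Addition. -/
def qadd (x y : Qt) : Qt := ⟨zadd x.a y.a, zadd x.b y.b, zadd x.c y.c, zadd x.d y.d⟩

/-- Negation. -/
def qneg (x : Qt) : Qt := ⟨zneg x.a, zneg x.b, zneg x.c, zneg x.d⟩

/-- Conjugation. -/
def qconj (x : Qt) : Qt := ⟨x.a, zneg x.b, zneg x.c, zneg x.d⟩

/-- Scaling by an integer. -/
def qsc (k : ℤ) (x : Qt) : Qt :=
  ⟨(k * x.a.1, k * x.a.2), (k * x.b.1, k * x.b.2), (k * x.c.1, k * x.c.2), (k * x.d.1, k * x.d.2)⟩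

/-- Twice the product. -/
def qm2 (x y : Qt) : Qt :=
  ⟨zadd (zadd (zmul x.a y.a) (zneg (zmul x.b y.b))) (zadd (zneg (zmul x.c y.c)) (zneg (zmul x.d y.d))),
    zadd (zadd (zmul x.a y.b) (zmul x.b y.a)) (zadd (zmul x.c y.d) (zneg (zmul x.d y.c))),
    zadd (zadd (zmul x.a y.c) (zneg (zmul x.b y.d))) (zadd (zmul x.c y.a) (zmul x.d y.b)),
    zadd (zadd (zmul x.a y.d) (zmul x.b y.c)) (zadd (zneg (zmul x.c y.b)) (zmul x.d y.a))⟩

/-- Division by an integer. -/
def qdiv (k : ℤ) (x : Qt) : Qt :=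
  ⟨(x.a.1 / k, x.a.2 / k), (x.b.1 / k, x.b.2 / k), (x.c.1 / k, x.c.2 / k), (x.d.1 / k, x.d.2 / k)⟩

/-- The product of two icosians. -/
def qmul (x y : Qt) : Qt := qdiv 2 (qm2 x y)

/-- Zero. -/
def qzero : Qt := ⟨(0, 0), (0, 0), (0, 0), (0, 0)⟩

/-- One. -/
def qone : Qt := ⟨(2, 0), (0, 0), (0, 0), (0, 0)⟩

theorem toQ_add (x y : Qt) : toQ (qadd x y) = toQ x + toQ y := by
  ext <;> simp [qadd, toR_add] <;> ring

theorem toQ_neg (x : Qt) : toQ (qneg x) = -toQ x := by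
  ext <;> simp [qneg, toR_neg] <;> ring

theorem toQ_conj (x : Qt) : toQ (qconj x) = star (toQ x) := by
  ext <;> simp [qconj, toR_neg] <;> ring

theorem toQ_sc (k : ℤ) (x : Qt) : toQ (qsc k x) = (k : ℝ) • toQ x := by
  ext <;> simp [qsc, toR] <;> ring

theorem toQ_zero : toQ qzero = 0 := by
  ext <;> simp [qzero, toR]

theorem toQ_one : toQ qone = 1 := by
  ext <;> simp [qone, toR]

theorem toQ_m2 (x y : Qt) : toQ (qm2 x y) = (2 : ℝ) • (toQ x * toQ y) := by
  ext <;> simp [qm2, toR_add, toR_neg, toR_mul] <;> ring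

theorem toQ_injective : Function.Injective toQ := by
  intro x y h
  have h2 : ∀ {u v : ℝ}, u / 2 = v / 2 → u = v := fun e => by linarith
  obtain ⟨a, b, c, d⟩ := x
  obtain ⟨a', b', c', d'⟩ := y
  have h₁ := congrArg QuaternionAlgebra.re h
  have h₂ := congrArg QuaternionAlgebra.imI h
  have h₃ := congrArg QuaternionAlgebra.imJ h
  have h₄ := congrArg QuaternionAlgebra.imK h
  obtain rfl : a = a' := toR_injective (h2 h₁)
  obtain rfl : b = b' := toR_injective (h2 h₂)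
  obtain rfl : c = c' := toR_injective (h2 h₃)
  obtain rfl : d = d' := toR_injective (h2 h₄)
  rfl

theorem qdiv_sc {k : ℤ} (hk : k ≠ 0) (x : Qt) : qdiv k (qsc k x) = x := by
  obtain ⟨a, b, c, d⟩ := x
  simp [qdiv, qsc, Int.mul_ediv_cancel_left _ hk]

/-- The parity test for membership in the icosian ring. -/
def isIco (x : Qt) : Bool :=
  decide ((x.c.1 - x.a.2 - x.b.1 - x.b.2) % 2 = 0) && decide ((x.c.2 - x.a.1 - x.a.2 - x.b.1) % 2 = 0)
    && decide ((x.d.1 - x.a.1 - x.a.2 - x.b.2) % 2 = 0)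
    && decide ((x.d.2 - x.a.1 - x.b.1 - x.b.2) % 2 = 0)

/-- A basis of the icosian ring. -/
def ibase : Fin 8 → Qt :=
  ![⟨(1, 0), (1, 0), (1, 0), (1, 0)⟩, ⟨(0, 1), (1, 0), (0, 0), (1, -1)⟩,
    ⟨(0, 0), (1, 0), (1, -1), (0, 1)⟩, ⟨(0, 0), (0, 1), (1, 0), (1, -1)⟩,
    ⟨(0, 0), (0, 0), (2, 0), (0, 0)⟩, ⟨(0, 0), (0, 0), (0, 2), (0, 0)⟩,
    ⟨(0, 0), (0, 0), (0, 0), (2, 0)⟩, ⟨(0, 0), (0, 0), (0, 0), (0, 2)⟩]

/-- The lattice spanned by the basis. -/
noncomputable def ispan : Submodule ℤ ℍ[ℝ] := Submodule.span ℤ (Set.range fun i => toQ (ibase i))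

theorem isIco_iff (x : Qt) : isIco x = true ↔
    (x.c.1 - x.a.2 - x.b.1 - x.b.2) % 2 = 0 ∧ (x.c.2 - x.a.1 - x.a.2 - x.b.1) % 2 = 0 ∧
      (x.d.1 - x.a.1 - x.a.2 - x.b.2) % 2 = 0 ∧ (x.d.2 - x.a.1 - x.b.1 - x.b.2) % 2 = 0 := by
  simp [isIco, and_assoc]

theorem exists_isIco_of_mem {v : ℍ[ℝ]} (hv : v ∈ ispan) : ∃ x, isIco x = true ∧ toQ x = v := by
  induction hv using Submodule.span_induction with
  | mem v hv =>
    obtain ⟨i, rfl⟩ := hv
    exact ⟨ibase i, by revert i; decide, rfl⟩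
  | zero => exact ⟨qzero, by decide, toQ_zero⟩
  | add u w _ _ hu hw =>
    obtain ⟨x, hx, rfl⟩ := hu
    obtain ⟨y, hy, rfl⟩ := hw
    refine ⟨qadd x y, ?_, toQ_add x y⟩
    rw [isIco_iff] at hx hy ⊢
    simp only [qadd, zadd]
    omega
  | smul k u _ hu =>
    obtain ⟨x, hx, rfl⟩ := hu
    refine ⟨qsc k x, ?_, by rw [toQ_sc, Int.cast_smul_eq_zsmul]⟩
    rw [isIco_iff] at hx ⊢
    simp only [qsc]
    obtain ⟨h1, h2, h3, h4⟩ := hx
    have key : ∀ u : ℤ, u % 2 = 0 → (k * u) % 2 = 0 := fun u hu => by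
      rw [Int.mul_emod, hu, mul_zero, Int.zero_emod]
    refine ⟨?_, ?_, ?_, ?_⟩ <;> simp only [← mul_sub] <;> apply key <;> assumption

theorem toQ_mem_ispan {x : Qt} (hx : isIco x = true) : toQ x ∈ ispan := by
  rw [isIco_iff] at hx
  obtain ⟨⟨p, q⟩, ⟨r, s⟩, ⟨t, u⟩, ⟨v, w⟩⟩ := x
  simp only at hx
  have e : toQ ⟨(p, q), (r, s), (t, u), (v, w)⟩ =
      ∑ i, (![p, q, r - p - q, s, (t - p - (r - p - q) - s) / 2, (u + (r - p - q)) / 2,
        (v - p - q - s) / 2, (w + q - (r - p - q) + s) / 2] i) • toQ (ibase i) := by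
    obtain ⟨a, ha⟩ : ∃ a, t - p - (r - p - q) - s = 2 * a :=
      ⟨(t - p - (r - p - q) - s) / 2, by omega⟩
    obtain ⟨b, hb⟩ : ∃ b, u + (r - p - q) = 2 * b := ⟨(u + (r - p - q)) / 2, by omega⟩
    obtain ⟨c, hc⟩ : ∃ c, v - p - q - s = 2 * c := ⟨(v - p - q - s) / 2, by omega⟩
    obtain ⟨d, hd⟩ : ∃ d, w + q - (r - p - q) + s = 2 * d :=
      ⟨(w + q - (r - p - q) + s) / 2, by omega⟩
    rw [ha, hb, hc, hd]
    simp only [Int.mul_ediv_cancel_left _ (two_ne_zero : (2 : ℤ) ≠ 0)]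
    obtain rfl : t = 2 * a + p + (r - p - q) + s := by omega
    obtain rfl : u = 2 * b - (r - p - q) := by omega
    obtain rfl : v = 2 * c + p + q + s := by omega
    obtain rfl : w = 2 * d - q + (r - p - q) - s := by omega
    ext <;> simp [Fin.sum_univ_succ, ibase, toR] <;> ring
  rw [e]
  exact Submodule.sum_mem _ fun i _ => Submodule.smul_mem _ _ (Submodule.subset_span ⟨i, rfl⟩)

theorem ispan_mul {u v : ℍ[ℝ]} (hu : u ∈ ispan) (hv : v ∈ ispan) : u * v ∈ ispan := by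
  have hle : ispan * ispan ≤ ispan := by
    rw [ispan, Submodule.span_mul_span, Submodule.span_le]
    rintro _ ⟨_, ⟨i, rfl⟩, _, ⟨j, rfl⟩, rfl⟩
    have hev : ∀ i j : Fin 8, qm2 (ibase i) (ibase j) = qsc 2 (qmul (ibase i) (ibase j)) ∧
        isIco (qmul (ibase i) (ibase j)) = true := by decide +kernel
    have h : toQ (ibase i) * toQ (ibase j) = toQ (qmul (ibase i) (ibase j)) := by
      refine smul_right_injective _ (two_ne_zero : (2 : ℝ) ≠ 0) ?_
      show (2 : ℝ) • _ = (2 : ℝ) • _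
      rw [← toQ_m2, (hev i j).1, toQ_sc]
      norm_num
    show toQ (ibase i) * toQ (ibase j) ∈ _
    rw [h]
    exact toQ_mem_ispan (hev i j).2
  exact hle (Submodule.mul_mem_mul hu hv)

theorem isIco_qmul {x y : Qt} (hx : isIco x = true) (hy : isIco y = true) :
    isIco (qmul x y) = true ∧ toQ (qmul x y) = toQ x * toQ y := by
  obtain ⟨w, hw, e⟩ := exists_isIco_of_mem (ispan_mul (toQ_mem_ispan hx) (toQ_mem_ispan hy))
  have h : qm2 x y = qsc 2 w := toQ_injective (by rw [toQ_m2, toQ_sc, e]; norm_num)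
  have hq : qmul x y = w := by rw [qmul, h, qdiv_sc (by norm_num)]
  exact ⟨by rw [hq]; exact hw, by rw [hq, e]⟩

theorem toQ_qmul {x y : Qt} (hx : isIco x = true) (hy : isIco y = true) :
    toQ (qmul x y) = toQ x * toQ y := (isIco_qmul hx hy).2

theorem isIco_qadd {x y : Qt} (hx : isIco x = true) (hy : isIco y = true) :
    isIco (qadd x y) = true := by
  rw [isIco_iff] at hx hy ⊢
  simp only [qadd, zadd]
  omega

theorem isIco_qneg {x : Qt} (hx : isIco x = true) : isIco (qneg x) = true := by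
  rw [isIco_iff] at hx ⊢
  simp only [qneg, zneg]
  omega

theorem isIco_qconj {x : Qt} (hx : isIco x = true) : isIco (qconj x) = true := by
  rw [isIco_iff] at hx ⊢
  simp only [qconj, zneg]
  omega

/-- The two generators. -/
def igen (g : Bool) : Qt := if g then ⟨(1, 0), (1, -1), (0, 0), (0, 1)⟩ else ⟨(0, 0), (2, 0), (0, 0), (0, 0)⟩

/-- A word in the generators. -/
def iword : List Bool → Qt
  | [] => qone
  | g :: l => qmul (igen g) (iword l)

theorem toQ_igen (g : Bool) :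
    toQ (igen g) = if g then (⟨1 / 2, sig / 2, 0, tau / 2⟩ : ℍ[ℝ]) else qI := by
  cases g <;> ext <;> simp [igen, toR, qI, sig_eq] <;> ring

theorem iword_mem : ∀ l, isIco (iword l) = true ∧ toQ (iword l) ∈ icosians
  | [] => ⟨by decide, by rw [iword, toQ_one]; exact one_mem _⟩
  | g :: l => by
    obtain ⟨h1, h2⟩ := iword_mem l
    have hg : isIco (igen g) = true := by cases g <;> decide
    refine ⟨(isIco_qmul hg h1).1, ?_⟩
    rw [iword, toQ_qmul hg h1]
    refine mul_mem (Subring.subset_closure ?_) h2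
    rw [toQ_igen]
    cases g
    · exact Or.inl rfl
    · exact Or.inr rfl

/-- Words for the basis. -/
def ibaseWords : Fin 8 → List Bool × Option (List Bool) :=
  let I := false
  let G := true
  ![([I, I, I, G, I, G, I, G, G, I], none), ([I, I, I, G, G, I, G, I, G, G, I], none),
    ([I, I, I, G, I, G, I, G, G, I, G], none), ([G, I, G, G, I, G, I, G, G], none),
    ([I, G, I, G, G, I, G, I, G, G, I, G], none),
    ([I, I, I, G, I, G, I, G, G, I, G, I], some [I, G, I, G, I, G, G, I, G, G]),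
    ([I, I, G, I, G, G, I, G, I, G, G, I, G], none), ([I, G, I], some [G])]

theorem ibase_eq : ∀ i, ibase i = match ibaseWords i with
    | (l, none) => iword l
    | (l, some l') => qadd (iword l) (iword l') := by
  decide +kernel

theorem mem_icosians_iff {v : ℍ[ℝ]} : v ∈ icosians ↔ ∃ x, isIco x = true ∧ toQ x = v := by
  constructor
  · intro hv
    refine exists_isIco_of_mem ?_
    induction hv using Subring.closure_induction with
    | mem v hv =>
      rcases hv with rfl | rfl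
      · rw [show qI = toQ (igen false) by rw [toQ_igen]; rfl]
        exact toQ_mem_ispan (by decide)
      · rw [show (⟨1 / 2, sig / 2, 0, tau / 2⟩ : ℍ[ℝ]) = toQ (igen true) by rw [toQ_igen]; rfl]
        exact toQ_mem_ispan (by decide)
    | zero => exact zero_mem _
    | one => rw [← toQ_one]; exact toQ_mem_ispan (by decide)
    | add _ _ _ _ hx hy => exact add_mem hx hy
    | neg _ _ hx => exact neg_mem hx
    | mul _ _ _ _ hx hy => exact ispan_mul hx hy
  · rintro ⟨x, hx, rfl⟩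
    have hle : ispan ≤ icosians.toAddSubgroup.toIntSubmodule := by
      refine Submodule.span_le.2 ?_
      rintro _ ⟨i, rfl⟩
      show toQ (ibase i) ∈ icosians
      have h := ibase_eq i
      rcases hb : ibaseWords i with ⟨l, _ | l'⟩ <;> rw [hb] at h <;> rw [h]
      · exact (iword_mem l).2
      · rw [toQ_add]; exact add_mem (iword_mem l).2 (iword_mem l').2
    exact hle (toQ_mem_ispan hx)

theorem toQ_mem_icosians_iff {x : Qt} : toQ x ∈ icosians ↔ isIco x = true := by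
  rw [mem_icosians_iff]
  exact ⟨fun ⟨y, hy, e⟩ => toQ_injective e ▸ hy, fun h => ⟨x, h, rfl⟩⟩

/-- The element of norm two. -/
def qh : Qt := ⟨(1, -2), (1, 0), (1, 0), (1, 0)⟩

theorem toQ_qh : toQ qh = icoH := by
  ext <;> simp [qh, icoH, toR, sqrt_five_eq] <;> ring

theorem icoH_mul_star : icoH * star icoH = 2 ∧ star icoH * icoH = 2 := by
  have key : ∀ u v : Qt, qm2 u v = qsc 4 qone → toQ u * toQ v = 2 := by
    intro u v e
    refine smul_right_injective _ (two_ne_zero : (2 : ℝ) ≠ 0) ?_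
    show (2 : ℝ) • _ = (2 : ℝ) • (2 : ℍ[ℝ])
    rw [← toQ_m2, e, toQ_sc, toQ_one, ← one_add_one_eq_two (R := ℍ[ℝ]), smul_add, ← add_smul]
    norm_num
  rw [← toQ_qh, ← toQ_conj]
  exact ⟨key _ _ (by decide), key _ _ (by decide)⟩

/-- The test for membership in the left ideal of an element of norm two with given conjugate. -/
def divBy (hc x : Qt) : Bool :=
  let m := qm2 x hc
  decide (qsc 4 (qdiv 4 m) = m) && isIco (qdiv 4 m)

theorem mem_leftIdeal_iff_aux {q : Qt} {h : ℍ[ℝ]} (hq : toQ q = star h) (h1 : h * star h = 2)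
    (h2 : star h * h = 2) (x : Qt) : toQ x ∈ leftIdeal h ↔ divBy q x = true := by
  simp only [divBy, Bool.and_eq_true, decide_eq_true_eq]
  constructor
  · rintro ⟨a, ha, e⟩
    obtain ⟨y, hy, rfl⟩ := mem_icosians_iff.1 ha
    have hm : qm2 x q = qsc 4 y := by
      refine toQ_injective ?_
      rw [toQ_m2, hq, toQ_sc, e, mul_assoc, h1, mul_two, smul_add, ← add_smul]
      norm_num
    rw [hm, qdiv_sc (by norm_num)]
    exact ⟨rfl, hy⟩
  · rintro ⟨e, hy⟩
    refine ⟨toQ (qdiv 4 (qm2 x q)), toQ_mem_icosians_iff.2 hy, ?_⟩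
    have := congrArg (fun w => toQ w * h) e
    simp only [toQ_sc, toQ_m2, hq, smul_mul_assoc, mul_assoc, h2] at this
    refine smul_right_injective _ (four_ne_zero : (4 : ℝ) ≠ 0) ?_
    show (4 : ℝ) • toQ x = (4 : ℝ) • _
    have h4 : (((4 : ℤ)) : ℝ) = 4 := by norm_num
    rw [h4] at this
    rw [this, mul_two, smul_add, ← add_smul]
    norm_num

theorem mem_Ih_iff (x : Qt) : toQ x ∈ leftIdeal icoH ↔ divBy (qconj qh) x = true :=
  mem_leftIdeal_iff_aux (by rw [toQ_conj, toQ_qh]) icoH_mul_star.1 icoH_mul_star.2 x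

theorem mem_Ihbar_iff (x : Qt) : toQ x ∈ leftIdeal (star icoH) ↔ divBy qh x = true :=
  mem_leftIdeal_iff_aux (by rw [toQ_qh, star_star]) (by rw [star_star]; exact icoH_mul_star.2)
    (by rw [star_star]; exact icoH_mul_star.1) x

end CfsgLib.Char.J2
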