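import Cfsg.Agent.Lib.Char.J2.ReflStab
import Cfsg.Agent.Lib.Spor.ExtraspecialSubgroup

/-!
The centraliser of a reflection in J2 is an extraspecial group of order 32 extended by A5.
-/

set_option autoImplicit false
set_option maxRecDepth 10000

namespace CfsgLib.Char.J2

open Quaternion Cfsg.Spor

theorem negI_mul_refl_ne (j : Fin 315) : negI * lineRefl exI ≠ lineRefl j := by
  intro h
  have ev : ∀ k : Fin 3, qrefl (row j).1 (eV k) = -(qrefl (row exI).1 (eV k)) := by
    intro k
    have e := congrArg (fun f : ↥Isom => (f.1 (eL k)).1) h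
    simp only [lineRefl_apply] at e
    rw [← show (eL k).1 = eV k from rfl, ← e]
    show -(((lineRefl exI).1 (eL k)).1) = _
    rw [lineRefl_apply]
  have hx : row exI = eL 0 := row_cI 0
  rw [hx] at ev
  have he0 : (eL 0).1 = eV 0 := rfl
  rw [he0] at ev
  have h4 : qip (eV 0) (eV 0) = 4 := by
    rw [← he0, ← hx]; exact qip_row exI
  -- the new mirror is orthogonal to the first axis and parallel to the other two
  have hq0 : qip (eV 0) (row j).1 = 0 := by
    have e := ev 0
    have hr : qrefl (eV 0) (eV 0) = -eV 0 := by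
      funext t
      simp only [qrefl, h4, Pi.neg_apply]
      rw [show ((1 / 2 : ℝ) • (4 : ℍ[ℝ])) = 2 by
        rw [show (4 : ℍ[ℝ]) = ((4 : ℝ) : ℍ[ℝ]) by norm_cast, ← Quaternion.coe_smul, smul_eq_mul,
          ← coe_two]
        norm_num]
      noncomm_ring
    rw [hr, neg_neg] at e
    by_contra hq
    have : (row j).1 = 0 := by
      funext t
      have et := congrFun e t
      simp only [qrefl, sub_eq_self, mul_eq_zero] at et
      exact et.resolve_left fun h' => hq ((smul_eq_zero.1 h').resolve_left (by norm_num))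
    rw [this] at hq
    exact hq (by simp [qip])
  have hpar : ∀ s : Fin 3, s ≠ 0 → ∀ t : Fin 3, t ≠ s → (row j).1 t = 0 := by
    intro s hs t ht
    have e := congrFun (ev s) t
    have hq : qip (eV s) (eV 0) = 0 := by
      rw [qip_eV, eV, Pi.single_eq_of_ne (Ne.symm hs), zero_mul]
    have het : eV s t = 0 := by rw [eV, Pi.single_eq_of_ne ht]
    simp only [qrefl, hq, smul_zero, zero_mul, sub_zero, Pi.neg_apply, het, neg_zero, zero_sub,
      neg_eq_zero, mul_eq_zero] at e
    refine e.resolve_left fun h' => ?_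
    have hz := (smul_eq_zero.1 h').resolve_left (by norm_num)
    have e' := congrFun (ev s) s
    have hes : eV s s = 2 := by simp [eV]
    simp only [qrefl, hq, smul_zero, zero_mul, sub_zero, Pi.neg_apply, hz, hes] at e'
    rw [eq_neg_iff_add_eq_zero, ← coe_two, ← Quaternion.coe_add, ← Quaternion.coe_zero,
      Quaternion.coe_inj] at e'
    norm_num at e'
  have hall : (row j).1 = 0 := by
    funext t
    fin_cases t
    · exact hpar 1 (by decide) 0 (by decide)
    · exact hpar 2 (by decide) 1 (by decide)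
    · exact hpar 1 (by decide) 2 (by decide)
  have := qip_row j
  rw [hall] at this
  simp [qip] at this
  have h40 : (4 : ℍ[ℝ]) ≠ 0 := by
    rw [show (4 : ℍ[ℝ]) = ((4 : ℝ) : ℍ[ℝ]) by norm_cast, ← Quaternion.coe_zero]
    exact fun e => by simpa using Quaternion.coe_inj.1 e
  exact h40 this.symm

theorem lineRefl_conj (g : ↥Isom) (i : Fin 315) :
    g * lineRefl i * g⁻¹ = lineRefl (lineFun g i) := by
  obtain ⟨c, -, hn, ec⟩ := lineFun_spec g i
  refine Subtype.ext (Equiv.ext fun x => Subtype.ext ?_)
  show ((g.1 * (lineRefl i).1 * g.1⁻¹) x).1 = _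
  rw [conj_refl g.2 (lineRefl_apply i), ec, qrefl_smul_vec hn, lineRefl_apply]

/-- Up to sign, commuting with a reflection is fixing its line. -/
theorem commute_mod_center_iff (g : ↥Isom) (i : Fin 315) :
    g * lineRefl i * g⁻¹ * (lineRefl i)⁻¹ ∈ rho.ker ↔ lineFun g i = i := by
  rw [lineRefl_conj]
  constructor
  · intro h
    rw [ker_rho, center_Isom] at h
    rcases (ker_lineHom _).1 h with e | e
    · exact lineRefl_injective (mul_inv_eq_one.1 e)
    · exfalso
      rw [mul_inv_eq_iff_eq_mul] at e
      set s := (tEl i)⁻¹ with hs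
      have hsi : lineFun s i = exI := by
        calc lineFun s i = lineFun s (lineFun (tEl i) exI) := by rw [lineFun_tEl]
          _ = exI := by rw [← lineFun_mul, hs, inv_mul_cancel, lineFun_one]
      refine negI_mul_refl_ne (lineFun s (lineFun g i)) ?_
      rw [← lineRefl_conj s (lineFun g i), e, ← hsi, ← lineRefl_conj s i]
      calc negI * (s * lineRefl i * s⁻¹) = (negI * s) * lineRefl i * s⁻¹ := by group
        _ = s * (negI * lineRefl i) * s⁻¹ := by rw [negI_commute s]; group
  · intro h
    rw [h, mul_inv_cancel]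
    exact one_mem _

theorem equivP100_mk (x : ↥twoJ2) :
    ((equivP100 (QuotientGroup.mk x) : ↥P100) : Equiv.Perm (Fin 100)) = rho (toIsom x) := rfl

/-- The stabiliser of the first line in the action on blocks. -/
noncomputable def stab100 : Subgroup (Equiv.Perm (Fin 100)) := lineStab.map rho

theorem card_stab100 : Nat.card ↥stab100 = 1920 := by
  let f : ↥lineStab →* Equiv.Perm (Fin 100) := rho.comp lineStab.subtype
  have hr : f.range = stab100 := by
    rw [stab100, MonoidHom.range_comp, Subgroup.range_subtype]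
  have hk : Nat.card f.ker = 2 := by
    rw [← card_center, ← ker_rho]
    exact Nat.card_congr (Subgroup.subgroupOfEquivOfLe ker_rho_le).toEquiv
  have h := Subgroup.card_mul_index f.ker
  rw [Subgroup.index_ker, hr, hk, card_lineStab] at h
  omega

/-- The action on frames, seen on blocks. -/
theorem exists_frame100 : ∃ ψ : ↥stab100 →* Equiv.Perm (Fin 5),
    ∀ (g : ↥lineStab), ψ ⟨rho g.1, g.1, g.2, rfl⟩ = frameHom g := by
  let f : ↥lineStab →* ↥stab100 := (rho.comp lineStab.subtype).codRestrict stab100 fun g => ⟨g.1, g.2, rfl⟩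
  have hf : Function.Surjective f := by
    rintro ⟨_, g, hg, rfl⟩; exact ⟨⟨g, hg⟩, rfl⟩
  have hker : f.ker ≤ frameHom.ker := fun g hg => MonoidHom.mem_ker.2 (frameHom_ker_rho g (by
    rw [MonoidHom.mem_ker] at hg ⊢; exact congrArg Subtype.val hg))
  exact ⟨f.liftOfSurjective hf ⟨frameHom, hker⟩, fun g => MonoidHom.liftOfRightInverse_comp_apply f _ _ ⟨frameHom, hker⟩ g⟩

/-- The block images of the base points under a word. -/
def bimg (w : List ℕ) : List ℕ := (List.range 4).map fun j => wB w (bpt j)

/-- The central word. -/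
def zWord : List ℕ := coreWords.getD 1 []

theorem coreWords_check : coreWords.length = 32 ∧
    coreWords.all (fun w => decide (wPerm w 314 = 314) && (frW w == List.finRange 5)) = true ∧
    (coreWords.map bimg).Nodup ∧ coreWords.getD 0 [] = [] ∧
    coreWords.all (fun a => coreWords.all fun b => (bimg (a ++ b) == bimg (b ++ a)) ||
      (bimg (a ++ b) == bimg (zWord ++ (b ++ a)))) = true ∧
    coreWords.all (fun a => (bimg (a ++ a) == bimg []) || (bimg (a ++ a) == bimg zWord)) = true ∧
    coreWords.all (fun a => decide (a = []) || decide (a = zWord) ||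
      coreWords.any fun b => !(bimg (a ++ b) == bimg (b ++ a))) = true ∧
    coreWords.all (fun b => bimg (zWord ++ b) == bimg (b ++ zWord)) = true := by
  decide +kernel

theorem gWord_append : ∀ a b : List ℕ, gWord (a ++ b) = gWord a * gWord b
  | [], b => by rw [List.nil_append, gWord, one_mul]
  | k :: a, b => by rw [List.cons_append, gWord, gWord, gWord_append a b, mul_assoc]

theorem bimg_eq_iff (a b : List ℕ) : bimg a = bimg b ↔ rho (gWord a) = rho (gWord b) := by
  constructor
  · intro h
    have := eq_of_base (g := ⟨rho (gWord a), _, rfl⟩) (h := ⟨rho (gWord b), _, rfl⟩) fun j => Fin.ext (by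
      show (rho (gWord a) (bP j)).1 = (rho (gWord b) (bP j)).1
      rw [rho_gWord, rho_gWord]
      have e := congrArg (fun l : List ℕ => l.getD j.1 0) h
      simpa [bimg, bP, List.getD_eq_getElem] using e)
    exact congrArg Subtype.val this
  · intro h
    refine List.map_inj_left.2 fun j hj => ?_
    have hj' : j < 4 := List.mem_range.1 hj
    have e := congrArg (fun p : Equiv.Perm (Fin 100) => (p (bP ⟨j, hj'⟩)).1) h
    simp only [rho_gWord] at e
    exact e

/-- The structure, on blocks. -/
theorem stab100_structure : ∃ ψ : ↥stab100 →* Equiv.Perm (Fin 5),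
    ψ.range = alternatingGroup (Fin 5) ∧ Nat.card ψ.ker = 32 ∧ Cfsg.IsExtraspecial 2 ↥ψ.ker := by
  classical
  obtain ⟨ψ, hψ⟩ := exists_frame100
  obtain ⟨hlen, hmem, hnd, h0, hcomm, hsq, hcen, hzc⟩ := coreWords_check
  simp only [List.all_eq_true, List.any_eq_true, Bool.and_eq_true, Bool.or_eq_true, decide_eq_true_eq,
    beq_iff_eq, Bool.not_eq_true', beq_eq_false_iff_ne, ne_eq] at hmem hcomm hsq hcen hzc
  have hrange : ψ.range = alternatingGroup (Fin 5) := by
    rw [← range_frameHom]
    refine le_antisymm ?_ ?_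
    · rintro _ ⟨⟨_, g, hg, rfl⟩, rfl⟩
      exact ⟨⟨g, hg⟩, (hψ ⟨g, hg⟩).symm⟩
    · rintro _ ⟨g, rfl⟩
      exact ⟨_, hψ g⟩
  have hker : Nat.card ψ.ker = 32 := by
    have h := Subgroup.card_mul_index ψ.ker
    rw [Subgroup.index_ker, hrange, card_stab100, nat_card_alternatingGroup, Nat.card_fin] at h
    rw [show (Nat.factorial 5) / 2 = 60 from rfl] at h
    omega
  have hstab : ∀ w ∈ coreWords, gWord w ∈ lineStab := fun w hw =>
    mem_lineStab.2 (Fin.ext ((lineFun_gWord _ _).trans (hmem w hw).1))
  have hin : ∀ (w : List ℕ) (hw : w ∈ coreWords),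
      (⟨rho (gWord w), gWord w, hstab w hw, rfl⟩ : ↥stab100) ∈ ψ.ker := by
    intro w hw
    rw [MonoidHom.mem_ker, hψ ⟨gWord w, hstab w hw⟩]
    refine Equiv.ext fun d => ?_
    rw [frameHom_gWord (hstab w hw), (hmem w hw).2]
    simp
  let F : Fin 32 → ψ.ker := fun k => ⟨_, hin (coreWords[k.1]'(by rw [hlen]; exact k.2)) (List.getElem_mem _)⟩
  have hF : Function.Injective F := by
    intro a b h
    have h' := congrArg (fun x : ψ.ker => ((x.1 : ↥stab100) : Equiv.Perm (Fin 100))) h
    have e := (bimg_eq_iff _ _).2 h'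
    rw [← List.getElem_map bimg (h := by rw [List.length_map, hlen]; exact a.2),
      ← List.getElem_map bimg (h := by rw [List.length_map, hlen]; exact b.2), hnd.getElem_inj_iff] at e
    exact Fin.ext e
  have hall : ∀ q ∈ ψ.ker, ∃ w ∈ coreWords, (q : Equiv.Perm (Fin 100)) = rho (gWord w) := by
    intro q hq
    obtain ⟨k, hk⟩ := (hF.bijective_of_nat_card_le (by rw [hker, Nat.card_fin])).2 ⟨q, hq⟩
    exact ⟨_, List.getElem_mem (by rw [hlen]; exact k.2),
      (congrArg (fun x : ψ.ker => ((x.1 : ↥stab100) : Equiv.Perm (Fin 100))) hk).symm⟩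
  have hz : zWord ∈ coreWords := by decide +kernel
  set z : ↥stab100 := ⟨rho (gWord zWord), gWord zWord, hstab _ hz, rfl⟩
  have hmul : ∀ a b : List ℕ, rho (gWord a) * rho (gWord b) = rho (gWord (a ++ b)) := fun a b => by
    rw [gWord_append, map_mul]
  have hone : (1 : Equiv.Perm (Fin 100)) = rho (gWord []) := by rw [gWord, map_one]
  have hz1 : z ≠ 1 := by
    intro e
    have e' := (bimg_eq_iff zWord []).2 ((congrArg Subtype.val e).trans hone)
    revert e'
    decide +kernel
  have hz2 : z * z = 1 := by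
    refine Subtype.ext ?_
    show rho (gWord zWord) * rho (gWord zWord) = 1
    rw [hmul, hone]
    exact (bimg_eq_iff _ _).1 (by decide +kernel)
  haveI : Fact (Nat.Prime 2) := ⟨Nat.prime_two⟩
  refine ⟨ψ, hrange, hker, CfsgLib.Spor.LargeQ.isExtraspecial_sub (Q := ψ.ker) (z := z)
    (IsPGroup.of_card (n := 5) (by rw [hker]; norm_num)) le_rfl
    (orderOf_eq_prime (by rw [pow_two]; exact hz2) hz1) (hin _ hz) ?_ ?_ ?_ ?_⟩
  · intro a ha b hb
    obtain ⟨u, hu, hau⟩ := hall a ha
    obtain ⟨v, hv, hbv⟩ := hall b hb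
    rcases hcomm u hu v hv with e | e <;> rw [bimg_eq_iff] at e
    · left
      rw [mul_inv_eq_one, mul_inv_eq_iff_eq_mul]
      refine Subtype.ext ?_
      show (a : Equiv.Perm (Fin 100)) * b = b * a
      rw [hau, hbv, hmul, hmul, e]
    · right
      rw [mul_inv_eq_iff_eq_mul, mul_inv_eq_iff_eq_mul]
      refine Subtype.ext ?_
      show (a : Equiv.Perm (Fin 100)) * b = rho (gWord zWord) * b * a
      rw [hau, hbv, hmul, hmul, hmul, e, List.append_assoc]
  · intro a ha
    obtain ⟨u, hu, hau⟩ := hall a ha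
    rcases hsq u hu with e | e <;> rw [bimg_eq_iff] at e
    · left
      refine Subtype.ext ?_
      show (a : Equiv.Perm (Fin 100)) * a = 1
      rw [hau, hmul, e, ← hone]
    · right
      refine Subtype.ext ?_
      show (a : Equiv.Perm (Fin 100)) * a = rho (gWord zWord)
      rw [hau, hmul, e]
  · intro a ha
    obtain ⟨u, hu, hau⟩ := hall a ha
    constructor
    · intro h
      rcases hcen u hu with (e | e) | ⟨v, hv, hne⟩
      · left; refine Subtype.ext ?_; rw [hau, e, ← hone]; rfl
      · right; refine Subtype.ext ?_; rw [hau, e]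
      · have e := congrArg Subtype.val (h _ (hin v hv))
        simp only [Subgroup.coe_mul, hau, hmul] at e
        exact absurd ((bimg_eq_iff _ _).2 e.symm) hne
    · rintro (rfl | rfl) b hb
      · simp
      · obtain ⟨v, hv, hbv⟩ := hall b hb
        refine Subtype.ext ?_
        show (b : Equiv.Perm (Fin 100)) * rho (gWord zWord) = rho (gWord zWord) * b
        rw [hbv, hmul, hmul]
        exact ((bimg_eq_iff _ _).1 (hzc v hv)).symm
  · obtain ⟨u, hu, hu'⟩ : ∃ u ∈ coreWords, u ≠ [] ∧ u ≠ zWord :=
      ⟨coreWords.getD 2 [], by decide +kernel, by decide +kernel⟩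
    rcases hcen u hu with (e | e) | ⟨v, hv, hne⟩
    · exact absurd e hu'.1
    · exact absurd e hu'.2
    · refine ⟨_, hin u hu, _, hin v hv, fun h => hne ((bimg_eq_iff _ _).2 ?_)⟩
      have e := congrArg Subtype.val h
      simp only [Subgroup.coe_mul, hmul] at e
      exact e

/-- The centraliser of a reflection in J2 is the stabiliser of the first line. -/
theorem exists_centralizer_equiv {x : ↥twoJ2} (hx : IsIcoReflection x.1) :
    Nonempty (↥(Subgroup.centralizer ({(QuotientGroup.mk x : J2)} : Set J2)) ≃* ↥stab100) := by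
  obtain ⟨i, hi⟩ := exists_lineRefl hx
  have hxi : toIsom x = lineRefl i := Subtype.ext hi
  set s := tEl i with hs
  have hsi : lineFun s exI = i := lineFun_tEl i
  have hmem : ∀ c : J2, c ∈ Subgroup.centralizer ({(QuotientGroup.mk x : J2)} : Set J2) ↔
      (rho s)⁻¹ * (equivP100 c : Equiv.Perm (Fin 100)) * rho s ∈ stab100 := by
    intro c
    obtain ⟨y, rfl⟩ := QuotientGroup.mk_surjective c
    rw [equivP100_mk, Subgroup.mem_centralizer_singleton_iff, ← map_inv, ← map_mul, ← map_mul]
    have h1 : (QuotientGroup.mk y : J2) * QuotientGroup.mk x = QuotientGroup.mk x * QuotientGroup.mk y ↔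
        lineFun (toIsom y) i = i := by
      rw [← commute_mod_center_iff, MonoidHom.mem_ker]
      rw [← equivP100.injective.eq_iff, map_mul, map_mul, Subtype.ext_iff]
      simp only [Subgroup.coe_mul]
      rw [equivP100_mk, equivP100_mk, hxi, map_mul, map_mul, map_mul, map_inv, map_inv,
        mul_inv_eq_one, mul_inv_eq_iff_eq_mul]
    rw [h1]
    have h2 : s⁻¹ * toIsom y * s ∈ lineStab ↔ lineFun (toIsom y) i = i := by
      rw [mem_lineStab, lineFun_mul, lineFun_mul, hsi]
      constructor
      · intro h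
        have := congrArg (lineFun s) h
        rwa [← lineFun_mul, mul_inv_cancel, lineFun_one, hsi] at this
      · intro h
        rw [h]
        calc lineFun s⁻¹ i = lineFun s⁻¹ (lineFun s exI) := by rw [hsi]
          _ = exI := by rw [← lineFun_mul, inv_mul_cancel, lineFun_one]
    rw [← h2]
    constructor
    · exact fun h => ⟨_, h, rfl⟩
    · rintro ⟨g, hg, e⟩
      have hk : g⁻¹ * (s⁻¹ * toIsom y * s) ∈ rho.ker := by
        rw [MonoidHom.mem_ker, map_mul, map_inv, e, inv_mul_cancel]
      have := lineStab.mul_mem hg (ker_rho_le hk)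
      rwa [mul_inv_cancel_left] at this
  let e : ↥(Subgroup.centralizer ({(QuotientGroup.mk x : J2)} : Set J2)) →* ↥stab100 :=
    MonoidHom.mk' (fun c => ⟨_, (hmem c.1).1 c.2⟩) fun a b => Subtype.ext (by
      show (rho s)⁻¹ * (equivP100 (a.1 * b.1) : Equiv.Perm (Fin 100)) * rho s = _
      rw [map_mul, Subgroup.coe_mul, Subgroup.coe_mul]
      group)
  refine ⟨MulEquiv.ofBijective e ⟨?_, ?_⟩⟩
  · intro a b h
    have h' := congrArg Subtype.val h
    exact Subtype.ext (equivP100.injective (Subtype.ext (mul_left_cancel (mul_right_cancel h'))))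
  · rintro ⟨p, g, hg, rfl⟩
    let c := equivP100.symm ⟨rho (s * g * s⁻¹), _, rfl⟩
    have hc : (rho s)⁻¹ * (equivP100 c : Equiv.Perm (Fin 100)) * rho s = rho g := by
      rw [MulEquiv.apply_symm_apply]
      show (rho s)⁻¹ * rho (s * g * s⁻¹) * rho s = rho g
      rw [map_mul, map_mul, map_inv]; group
    exact ⟨⟨c, (hmem c).2 (hc ▸ ⟨g, hg, rfl⟩)⟩, Subtype.ext hc⟩

end CfsgLib.Char.J2
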