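import Cfsg.Agent.Lib.Char.J2.Hundred
import Cfsg.Agent.Lib.Char.J2.CoreData

/-!
The stabiliser of a line and the centraliser of a reflection in J2.
-/

set_option autoImplicit false
set_option maxRecDepth 10000

namespace CfsgLib.Char.J2

open Quaternion Cfsg.Spor

/-- The isometries fixing the first line. -/
noncomputable def lineStab : Subgroup ↥Isom :=
  (MulAction.stabilizer (Equiv.Perm (Fin 315)) exI).comap lineHom

theorem mem_lineStab {g : ↥Isom} : g ∈ lineStab ↔ lineFun g exI = exI := by
  rw [lineStab, Subgroup.mem_comap, MulAction.mem_stabilizer_iff]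
  rfl

/-- Words generating the stabiliser of the first line. -/
def stabWords : List (List ℕ) := (List.range 4).map dgWord ++ (List.range 10).map oWord

/-- The frame of a line orthogonal to the first line. -/
def frame (i : ℕ) : Fin 5 := Fin.ofNat 5 (if i < 69 then i - 64 else 73 - i)

theorem stabWords_check : stabWords.all (fun w => decide (wPerm w 314 = 314) &&
    (List.range 10).all fun d => decide (64 ≤ wPerm w (64 + d)) && decide (wPerm w (64 + d) ≤ 73) &&
      decide (frame (wPerm w (64 + d)) = frame (wPerm w (64 + (frame (64 + d)).1)))) = true := by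
  decide +kernel

theorem stab_eq : Subgroup.closure {g : ↥Isom | ∃ w ∈ stabWords, g = gWord w} = lineStab := by
  refine le_antisymm ((Subgroup.closure_le _).2 ?_) fun g hg => ?_
  · rintro g ⟨w, hw, rfl⟩
    have h := stabWords_check
    simp only [List.all_eq_true, Bool.and_eq_true, decide_eq_true_eq] at h
    exact mem_lineStab.2 (Fin.ext ((lineFun_gWord _ _).trans (h w hw).1))
  set cl := Subgroup.closure {g : ↥Isom | ∃ w ∈ stabWords, g = gWord w}
  have hword : ∀ w ∈ stabWords, gWord w ∈ cl := fun w hw => Subgroup.subset_closure ⟨w, hw, rfl⟩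
  have hdiag : ∀ n < 384, ∃ f ∈ cl, IsDiag f (dUnits n) := by
    obtain ⟨-, h0, hstep⟩ := diagTree_check
    simp only [List.all_eq_true, List.mem_range, Bool.or_eq_true, Bool.and_eq_true,
      decide_eq_true_eq] at hstep
    intro n
    induction n using Nat.strong_induction_on with
    | _ n ih =>
      intro hn
      rcases hstep n hn with rfl | ⟨⟨hp, hk⟩, he⟩
      · refine ⟨1, one_mem _, fun k => ?_⟩
        show eV k = _
        rw [show uAt (dUnits 0 k) = qone from h0 k, toQ_one]
        simp
      · obtain ⟨f, hf, hd⟩ := ih _ hp (by omega)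
        refine ⟨f * gWord (dgWord (dStep n).2), mul_mem hf (hword _ ?_), fun k => ?_⟩
        · exact List.mem_append_left _ (List.mem_map.2 ⟨_, List.mem_range.2 hk, rfl⟩)
        have hgen := isDiag_gen ⟨_, hk⟩ k
        have hc : toQ (uAt (dgUnits (dStep n).2 k)) ∈ icosians :=
          toQ_mem_icosians_iff.2 (isIco_uAt _)
        show (f.1 ((gWord (dgWord (dStep n).2)).1 (eL k))).1 = _
        rw [show (gWord (dgWord (dStep n).2)).1 (eL k) = ⟨_, smul_mem hc (eL k)⟩ from
          Subtype.ext hgen, apply_smul f.2 hc, hd k,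
          show uAt (dUnits n k) = _ from he k (List.mem_finRange k),
          toQ_qmul (isIco_uAt _) (show isIco (dQ (dStep n).1 k) = true from isIco_uAt _)]
        funext t
        rw [mul_assoc]
        rfl
  obtain ⟨⟨i, j, n⟩, hp⟩ := word3_surjective (tEl exI * g)
  have hjfix : lineFun (gWord (oWord j.1)) exI = exI := by
    obtain ⟨-, -, -, -, h, -⟩ := orth_check
    simp only [List.all_eq_true, List.mem_range, Bool.and_eq_true, decide_eq_true_eq] at h
    exact Fin.ext ((lineFun_gWord _ _).trans (h j.1 j.2).1)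
  have hi : i = exI := by
    have e := congrArg (lineFun · exI) hp
    simp only [word3, lineFun_mul, mem_lineStab.1 hg] at e
    rw [show lineFun (dEl n) exI = exI from lineFun_cI_of_diag (isDiag_dEl n) 0, hjfix,
      lineFun_tEl, lineFun_tEl] at e
    exact e
  subst hi
  rw [word3, mul_assoc, mul_left_cancel_iff] at hp
  rw [← hp]
  refine mul_mem (hword _ (List.mem_append_right _ (List.mem_map.2 ⟨_, List.mem_range.2 j.2, rfl⟩))) ?_
  obtain ⟨f, hf, hd⟩ := hdiag n.1 n.2
  rwa [show dEl n = f from diag_eq_of fun k => (isDiag_dEl n k).trans (hd k).symm]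

theorem card_lineStab : Nat.card ↥lineStab = 3840 := by
  have hfix : ∀ (j : Fin 10) (n : Fin 384), lineFun (gWord (oWord j.1) * dEl n) exI = exI := by
    intro j n
    obtain ⟨-, -, -, -, h, -⟩ := orth_check
    simp only [List.all_eq_true, List.mem_range, Bool.and_eq_true, decide_eq_true_eq] at h
    rw [lineFun_mul, show lineFun (dEl n) exI = exI from lineFun_cI_of_diag (isDiag_dEl n) 0]
    exact Fin.ext ((lineFun_gWord _ _).trans (h j.1 j.2).1)
  rw [← Nat.card_eq_of_bijective (fun p : Fin 10 × Fin 384 =>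
    (⟨gWord (oWord p.1.1) * dEl p.2, mem_lineStab.2 (hfix p.1 p.2)⟩ : ↥lineStab)) ⟨?_, ?_⟩]
  · simp
  · intro p p' h
    have h' : word3 (exI, p.1, p.2) = word3 (exI, p'.1, p'.2) := by
      simp only [word3, mul_assoc]
      exact congrArg (tEl exI * ·) (congrArg Subtype.val h)
    exact congrArg Prod.snd (word3_injective h')
  · rintro ⟨g, hg⟩
    obtain ⟨⟨i, j, n⟩, hp⟩ := word3_surjective (tEl exI * g)
    have hi : i = exI := by
      have e := congrArg (lineFun · exI) hp
      simp only [word3, mul_assoc] at e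
      rw [lineFun_mul, lineFun_mul (tEl exI), hfix, lineFun_tEl, mem_lineStab.1 hg, lineFun_tEl] at e
      exact e
    subst hi
    refine ⟨(j, n), Subtype.ext ?_⟩
    simp only [word3, mul_assoc, mul_left_cancel_iff] at hp
    exact hp

/-- An isometry respects the frames through the first line. -/
def RespectsFrames (g : ↥Isom) : Prop :=
  lineFun g exI = exI ∧ ∀ i : Fin 315, 64 ≤ i.1 → i.1 ≤ 73 →
    (64 ≤ (lineFun g i).1 ∧ (lineFun g i).1 ≤ 73) ∧
      ∀ i' : Fin 315, i'.1 = 64 + (frame i.1).1 →
        frame (lineFun g i).1 = frame (lineFun g i').1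

theorem respectsFrames {g : ↥Isom} (hg : g ∈ lineStab) : RespectsFrames g := by
  rw [← stab_eq, ← Subgroup.mem_toSubmonoid, Subgroup.closure_toSubmonoid_of_finite] at hg
  induction hg using Submonoid.closure_induction with
  | mem g hg =>
    obtain ⟨w, hw, rfl⟩ := hg
    have h := stabWords_check
    simp only [List.all_eq_true, List.mem_range, Bool.and_eq_true, decide_eq_true_eq] at h
    obtain ⟨h1, h2⟩ := h w hw
    refine ⟨Fin.ext ((lineFun_gWord _ _).trans h1), fun i hi hi' => ?_⟩
    obtain ⟨d, hd⟩ := Nat.le.dest hi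
    obtain ⟨⟨e1, e2⟩, e3⟩ := h2 d (by omega)
    rw [lineFun_gWord, ← hd]
    refine ⟨⟨e1, e2⟩, fun i' e => ?_⟩
    rw [lineFun_gWord, e]
    exact e3
  | one => exact ⟨lineFun_one _, fun i hi hi' => by
      rw [lineFun_one]
      refine ⟨⟨hi, hi'⟩, fun i' e => ?_⟩
      rw [lineFun_one, e]
      exact (show ∀ d < 10, frame (64 + d) = frame (64 + (frame (64 + d)).1) by decide) (i.1 - 64)
        (by omega) |> fun h => by rwa [show 64 + (i.1 - 64) = i.1 by omega] at h⟩
  | mul a b _ _ ha hb =>
    refine ⟨by rw [lineFun_mul, hb.1, ha.1], fun i hi hi' => ?_⟩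
    obtain ⟨⟨e1, e2⟩, e3⟩ := hb.2 i hi hi'
    obtain ⟨⟨f1, f2⟩, f3⟩ := ha.2 _ e1 e2
    rw [lineFun_mul]
    refine ⟨⟨f1, f2⟩, fun i' e => ?_⟩
    rw [lineFun_mul]
    obtain ⟨⟨e1', e2'⟩, -⟩ := hb.2 i' (by omega) (by have := (frame i.1).2; omega)
    obtain ⟨-, g3⟩ := ha.2 _ e1' e2'
    let j : Fin 315 := ⟨64 + (frame (lineFun b i).1).1, by have := (frame (lineFun b i).1).2; omega⟩
    rw [f3 j rfl, g3 j (by rw [show frame (lineFun b i').1 = frame (lineFun b i).1 from (e3 i' e).symm])]

/-- The line chosen in a frame. -/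
def frameRep (d : Fin 5) : Fin 315 := ⟨64 + d.1, by have := d.2; omega⟩

theorem frame_frameRep (d : Fin 5) : frame (frameRep d).1 = d := by revert d; decide

theorem frame_mul (g h : ↥lineStab) (d : Fin 5) :
    frame (lineFun (g.1 * h.1) (frameRep d)).1 =
      frame (lineFun g.1 (frameRep (frame (lineFun h.1 (frameRep d)).1))).1 := by
  obtain ⟨⟨e1, e2⟩, -⟩ := (respectsFrames h.2).2 (frameRep d) (Nat.le_add_right _ _)
    (by show 64 + d.1 ≤ 73; omega)
  rw [lineFun_mul]
  exact ((respectsFrames g.2).2 _ e1 e2).2 _ rfl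

/-- The permutation of the frames. -/
noncomputable def frameHom : ↥lineStab →* Equiv.Perm (Fin 5) :=
  MonoidHom.mk' (fun g =>
    { toFun := fun d => frame (lineFun g.1 (frameRep d)).1
      invFun := fun d => frame (lineFun g⁻¹.1 (frameRep d)).1
      left_inv := fun d => by
        beta_reduce
        rw [← frame_mul, ← Subgroup.coe_mul, inv_mul_cancel, Subgroup.coe_one, lineFun_one,
          frame_frameRep]
      right_inv := fun d => by
        beta_reduce
        rw [← frame_mul, ← Subgroup.coe_mul, mul_inv_cancel, Subgroup.coe_one, lineFun_one,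
          frame_frameRep] })
    fun g h => Equiv.ext fun d => frame_mul g h d

theorem frameHom_apply (g : ↥lineStab) (d : Fin 5) :
    frameHom g d = frame (lineFun g.1 (frameRep d)).1 := rfl

theorem ker_rho_le : rho.ker ≤ lineStab := by
  intro g hg
  rw [ker_rho, center_Isom, MonoidHom.mem_ker] at hg
  exact mem_lineStab.2 (by rw [← lineHom_apply, hg]; rfl)

theorem frameHom_ker_rho (g : ↥lineStab) (hg : g.1 ∈ rho.ker) : frameHom g = 1 := by
  rw [ker_rho, center_Isom, MonoidHom.mem_ker] at hg
  refine Equiv.ext fun d => ?_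
  rw [frameHom_apply, ← lineHom_apply, hg]
  exact frame_frameRep d

/-- The action of a word on the frames. -/
def frW (w : List ℕ) : List (Fin 5) := (List.range 5).map fun d => frame (wPerm w (64 + d))

theorem frameHom_gWord {w : List ℕ} (h : gWord w ∈ lineStab) (d : Fin 5) :
    frameHom ⟨gWord w, h⟩ d = (frW w).getD d.1 0 := by
  rw [frameHom_apply, lineFun_gWord, frW, List.getD_eq_getElem _ _ (by simp)]
  simp [frameRep]

theorem range_frameHom : frameHom.range = alternatingGroup (Fin 5) := by
  classical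
  have hmemS : ∀ w ∈ stabWords, gWord w ∈ lineStab := fun w hw => by
    rw [← stab_eq]; exact Subgroup.subset_closure ⟨w, hw, rfl⟩
  have heven : ∀ w ∈ stabWords, ∀ h : gWord w ∈ lineStab,
      Equiv.Perm.sign (frameHom ⟨gWord w, h⟩) = 1 := by
    have hl : ∀ w ∈ stabWords, ∀ p : Equiv.Perm (Fin 5), (∀ d : Fin 5, p d = (frW w).getD d.1 0) →
        Equiv.Perm.sign p = 1 := by
      have key : stabWords.all (fun w => decide (∀ p : Equiv.Perm (Fin 5),
          (∀ d : Fin 5, p d = (frW w).getD d.1 0) → Equiv.Perm.sign p = 1)) = true := by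
        decide +kernel
      simp only [List.all_eq_true, decide_eq_true_eq] at key
      exact key
    exact fun w hw h => hl w hw _ (frameHom_gWord h)
  have hle : frameHom.range ≤ alternatingGroup (Fin 5) := by
    rintro _ ⟨⟨g, hg⟩, rfl⟩
    rw [Equiv.Perm.mem_alternatingGroup]
    rw [← stab_eq, ← Subgroup.mem_toSubmonoid, Subgroup.closure_toSubmonoid_of_finite] at hg
    revert hg
    suffices ∀ g, g ∈ Submonoid.closure {g : ↥Isom | ∃ w ∈ stabWords, g = gWord w} →
        ∀ h : g ∈ lineStab, Equiv.Perm.sign (frameHom ⟨g, h⟩) = 1 from fun hg => this g hg _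
    intro g hg
    induction hg using Submonoid.closure_induction with
    | mem g hg => obtain ⟨w, hw, rfl⟩ := hg; exact heven w hw
    | one => intro h; rw [show (⟨1, h⟩ : ↥lineStab) = 1 from rfl, map_one, map_one]
    | mul a b ha hb iha ihb =>
      intro h
      have hmem : ∀ x, x ∈ Submonoid.closure {g : ↥Isom | ∃ w ∈ stabWords, g = gWord w} → x ∈ lineStab :=
        fun x hx => by
          rw [← stab_eq, ← Subgroup.mem_toSubmonoid, Subgroup.closure_toSubmonoid_of_finite]
          exact hx
      rw [show (⟨a * b, h⟩ : ↥lineStab) = ⟨a, hmem a ha⟩ * ⟨b, hmem b hb⟩ from rfl, map_mul, map_mul,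
        iha, ihb, one_mul]
  let w3 := dgWord 0
  let w5 := oWord 1
  have hw3 : w3 ∈ stabWords := by decide +kernel
  have hw5 : w5 ∈ stabWords := by decide +kernel
  have hord : ∀ p q : Equiv.Perm (Fin 5), (∀ d : Fin 5, p d = (frW w3).getD d.1 0) →
      (∀ d : Fin 5, q d = (frW w5).getD d.1 0) → (p ^ 3 = 1 ∧ p ≠ 1) ∧ (q ^ 5 = 1 ∧ q ≠ 1) := by
    decide +kernel
  obtain ⟨⟨a3, a1⟩, ⟨b5, b1⟩⟩ := hord _ _ (frameHom_gWord (hmemS _ hw3)) (frameHom_gWord (hmemS _ hw5))
  have h3 : Fact (Nat.Prime 3) := ⟨Nat.prime_three⟩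
  have h5 : Fact (Nat.Prime 5) := ⟨by norm_num⟩
  let A := frameHom.range.subgroupOf (alternatingGroup (Fin 5))
  have hcardA : Nat.card A = Nat.card frameHom.range :=
    Nat.card_congr (Subgroup.subgroupOfEquivOfLe hle).toEquiv
  have h15 : 15 ∣ Nat.card frameHom.range := by
    refine Nat.Coprime.mul_dvd_of_dvd_of_dvd (by norm_num : Nat.Coprime 3 5) ?_ ?_
    · exact (orderOf_eq_prime a3 a1).symm.dvd.trans (Subgroup.orderOf_dvd_natCard _ ⟨_, rfl⟩)
    · exact (orderOf_eq_prime b5 b1).symm.dvd.trans (Subgroup.orderOf_dvd_natCard _ ⟨_, rfl⟩)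
  have htop : A = ⊤ := by
    by_contra hA
    have h60 : Nat.card (alternatingGroup (Fin 5)) = 60 := by
      rw [nat_card_alternatingGroup, Nat.card_fin]; rfl
    have hmul := A.card_mul_index
    rw [h60, hcardA] at hmul
    obtain ⟨c, hc⟩ := h15
    rw [hc] at hmul
    have hidx : A.index ≤ 4 := by
      rw [show 60 = 15 * 4 by norm_num, mul_assoc] at hmul
      have := Nat.eq_of_mul_eq_mul_left (by norm_num) hmul
      exact Nat.le_of_dvd (by norm_num) ⟨c, by rw [← this, mul_comm]⟩
    have : IsSimpleGroup (alternatingGroup (Fin 5)) := alternatingGroup.isSimpleGroup (by simp)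
    rcases (Subgroup.normalCore_normal A).eq_bot_or_eq_top with hb | ht
    · let f := MulAction.toPermHom (alternatingGroup (Fin 5)) (alternatingGroup (Fin 5) ⧸ A)
      have hinj : Function.Injective f := by
        rw [← MonoidHom.ker_eq_bot_iff, ← Subgroup.normalCore_eq_ker]; exact hb
      have hle24 := Subgroup.card_dvd_of_injective f hinj
      rw [h60, Nat.card_perm] at hle24
      rw [show Nat.card (alternatingGroup (Fin 5) ⧸ A) = A.index from rfl] at hle24
      have := Nat.le_of_dvd (Nat.factorial_pos _) hle24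
      have h24 := Nat.factorial_le hidx
      norm_num [Nat.factorial] at h24
      omega
    · exact hA (eq_top_iff.2 (ht ▸ Subgroup.normalCore_le A))
  refine le_antisymm hle fun p hp => ?_
  have : (⟨p, hp⟩ : alternatingGroup (Fin 5)) ∈ A := by rw [htop]; trivial
  exact this

end CfsgLib.Char.J2
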