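import Cfsg.Agent.Lib.Char.J2.Order

/-!
The reflections of 2.J2 and the projection to J2.
-/

set_option autoImplicit false

namespace CfsgLib.Char.J2

open Quaternion Cfsg.Spor

/-- The group 2.J2 is the isometry group. -/
noncomputable def toIsom : ↥twoJ2 ≃* ↥Isom := MulEquiv.subgroupCongr twoJ2_eq_Isom

theorem card_twoJ2 : Nat.card ↥twoJ2 = 1209600 := by
  rw [Nat.card_congr toIsom.toEquiv, card_Isom]

instance : Finite ↥twoJ2 := Finite.of_equiv _ toIsom.symm.toEquiv

theorem comap_center_Isom :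
    (Subgroup.center ↥Isom).comap toIsom.toMonoidHom = Subgroup.center ↥twoJ2 := by
  ext x
  simp only [Subgroup.mem_comap, Subgroup.mem_center_iff]
  constructor
  · intro h g
    exact toIsom.injective (by rw [map_mul, map_mul]; exact h (toIsom g))
  · intro h g
    obtain ⟨g, rfl⟩ := toIsom.surjective g
    show toIsom g * toIsom x = toIsom x * toIsom g
    rw [← map_mul, ← map_mul, h g]

theorem mem_center_twoJ2 {z : ↥twoJ2} :
    z ∈ Subgroup.center ↥twoJ2 ↔ (toIsom z = 1 ∨ toIsom z = negI) := by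
  rw [← comap_center_Isom, Subgroup.mem_comap, center_Isom, ← ker_lineHom]
  rfl

theorem card_center_twoJ2 : Nat.card ↥(Subgroup.center ↥twoJ2) = 2 := by
  rw [← card_center]
  refine Nat.card_congr (Equiv.subtypeEquiv toIsom.toEquiv fun x => ?_)
  rw [← comap_center_Isom]
  rfl

theorem card_J2 : Nat.card J2 = 604800 := by
  have h := Subgroup.card_eq_card_quotient_mul_card_subgroup (Subgroup.center ↥twoJ2)
  rw [card_twoJ2, card_center_twoJ2] at h
  show Nat.card (↥twoJ2 ⧸ Subgroup.center ↥twoJ2) = 604800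
  omega

instance : Finite J2 := inferInstanceAs (Finite (↥twoJ2 ⧸ Subgroup.center ↥twoJ2))

theorem qrefl_smul_vec {c : ℍ[ℝ]} (hn : normSq c = 1) (r x : Fin 3 → ℍ[ℝ]) :
    qrefl (fun t => c * r t) x = qrefl r x := by
  funext t
  simp only [qrefl, qip_smul_right]
  rw [← smul_mul_assoc, mul_assoc, ← mul_assoc (star c), Quaternion.star_mul_self, hn,
    Quaternion.coe_one, one_mul]

theorem conj_refl {g f : Equiv.Perm icoLeech} (hg : g ∈ Isom) {r : icoLeech}
    (hf : ∀ x : icoLeech, (f x).1 = qrefl r.1 x.1) (x : icoLeech) :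
    ((g * f * g⁻¹) x).1 = qrefl (g r).1 x.1 := by
  show (g (f (g⁻¹ x))).1 = _
  rw [apply_eq_sum hg]
  have e : qip (g⁻¹ x).1 r.1 = qip x.1 (g r).1 := by
    rw [← hg (g⁻¹ x) r]
    simp
  funext t
  have hx : x.1 t = ∑ i, ((1 / 2 : ℝ) • (g⁻¹ x).1 i) * (g (eL i)).1 t := by
    have := congrFun (apply_eq_sum hg (g⁻¹ x)) t
    simpa using this
  have hr : (g r).1 t = ∑ i, ((1 / 2 : ℝ) • r.1 i) * (g (eL i)).1 t :=
    congrFun (apply_eq_sum hg r) t
  show _ = x.1 t - ((1 / 2 : ℝ) • qip x.1 (g r).1) * (g r).1 t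
  rw [hx, hr, ← e, Finset.mul_sum, ← Finset.sum_sub_distrib]
  refine Finset.sum_congr rfl fun i _ => ?_
  rw [hf]
  simp only [qrefl, smul_sub, sub_mul]
  simp only [smul_mul_assoc, mul_smul_comm, mul_assoc]

/-- The reflection of a line. -/
noncomputable def lineRefl (i : Fin 315) : ↥Isom :=
  (tEl i * (tEl ⟨66, by norm_num⟩)⁻¹) * gI 0 * (tEl i * (tEl ⟨66, by norm_num⟩)⁻¹)⁻¹

theorem lineRefl_apply (i : Fin 315) (x : icoLeech) :
    ((lineRefl i).1 x).1 = qrefl (row i).1 x.1 := by
  set g := tEl i * (tEl ⟨66, by norm_num⟩)⁻¹ with hg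
  have hgi : lineFun g ⟨66, by norm_num⟩ = i := by
    rw [hg, lineFun_mul]
    have e := lineFun_tEl ⟨66, by norm_num⟩
    calc lineFun (tEl i) (lineFun (tEl ⟨66, by norm_num⟩)⁻¹ ⟨66, by norm_num⟩)
        = lineFun (tEl i) exI := by
          congr 1
          calc lineFun (tEl ⟨66, by norm_num⟩)⁻¹ ⟨66, by norm_num⟩
              = lineFun (tEl ⟨66, by norm_num⟩)⁻¹ (lineFun (tEl ⟨66, by norm_num⟩) exI) := by rw [e]
            _ = exI := by rw [← lineFun_mul, inv_mul_cancel, lineFun_one]
      _ = i := lineFun_tEl i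
  obtain ⟨c, -, hn, ec⟩ := lineFun_spec g ⟨66, by norm_num⟩
  rw [hgi] at ec
  show ((g.1 * (gRefl 0) * g.1⁻¹) x).1 = _
  rw [conj_refl g.2 (r := row ⟨66, by norm_num⟩) (fun _ => rfl), ec, qrefl_smul_vec hn]

theorem exists_lineRefl {f : Equiv.Perm icoLeech} (hf : IsIcoReflection f) :
    ∃ i, f = (lineRefl i).1 := by
  obtain ⟨r, hr, hfr⟩ := hf
  obtain ⟨i, c, -, hn, e⟩ := exists_index hr
  refine ⟨i, Equiv.ext fun x => Subtype.ext ?_⟩
  rw [hfr, lineRefl_apply, e, qrefl_smul_vec hn]

theorem isIcoReflection_lineRefl (i : Fin 315) : IsIcoReflection (lineRefl i).1 :=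
  ⟨row i, qip_row i, lineRefl_apply i⟩

theorem exists_conj {f f' : Equiv.Perm icoLeech} (hf : IsIcoReflection f) (hf' : IsIcoReflection f') :
    ∃ g ∈ twoJ2, g * f * g⁻¹ = f' := by
  obtain ⟨i, rfl⟩ := exists_lineRefl hf
  obtain ⟨j, rfl⟩ := exists_lineRefl hf'
  refine ⟨(tEl j * (tEl i)⁻¹).1, by rw [twoJ2_eq_Isom]; exact (tEl j * (tEl i)⁻¹).2, ?_⟩
  show ((tEl j * (tEl i)⁻¹) * lineRefl i * (tEl j * (tEl i)⁻¹)⁻¹ : ↥Isom).1 = (lineRefl j).1
  congr 1
  unfold lineRefl
  group

theorem lineRefl_injective : Function.Injective lineRefl := by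
  have base : ∀ k, (∀ x : icoLeech, qrefl (row k).1 x.1 = qrefl (row exI).1 x.1) → k = exI := by
    intro k h
    have hz : ∀ s : Fin 3, s ≠ 0 → (row k).1 s = 0 := by
      intro s hs
      have e := h (eL s)
      rw [show row exI = eL 0 from row_cI 0] at e
      have e0 : qip (eL s).1 (eL 0).1 = 0 := by
        rw [show (eL 0).1 = eV 0 from rfl, qip_eV, show (eL s).1 = eV s from rfl, eV,
          Pi.single_eq_of_ne (Ne.symm hs), zero_mul]
      have ek : ∀ t, ((1 / 2 : ℝ) • qip (eL s).1 (row k).1) * (row k).1 t = 0 := by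
        intro t
        have := congrFun e t
        simp only [qrefl, e0, smul_zero, zero_mul, sub_zero, sub_eq_self] at this
        exact this
      by_contra hne
      rw [row_coord_eq_zero_iff] at hne
      have hq : qip (eL s).1 (row k).1 = 0 := by
        have h2 := ek s
        rw [mul_eq_zero] at h2
        rcases h2 with h2 | h2
        · exact (smul_eq_zero.1 h2).resolve_left (by norm_num)
        · exact absurd ((row_coord_eq_zero_iff _ _).1 h2) hne
      exact hne (by rw [← star_qip, hq, star_zero])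
    obtain ⟨-, -, -, h314, -, -⟩ := orth_check
    simp only [List.all_eq_true, List.mem_range, Bool.or_eq_true, decide_eq_true_eq] at h314
    rcases h314 _ k.2 with (h' | h') | h'
    · exact absurd (toQ_injective ((hz 1 (by decide)).trans toQ_zero.symm)) h'
    · exact absurd (toQ_injective ((hz 2 (by decide)).trans toQ_zero.symm)) h'
    · exact Fin.ext h'
  intro i j h
  set g := (tEl i)⁻¹ with hg
  have hj : lineFun g j = exI := by
    refine base _ fun x => ?_
    obtain ⟨c, -, hn, ec⟩ := lineFun_spec g j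
    have hi : lineFun g i = exI := by
      calc lineFun g i = lineFun g (lineFun (tEl i) exI) := by rw [lineFun_tEl]
        _ = exI := by rw [← lineFun_mul, hg, inv_mul_cancel, lineFun_one]
    obtain ⟨d, -, dn, ed⟩ := lineFun_spec g i
    rw [hi] at ed
    rw [← qrefl_smul_vec hn (row (lineFun g j)).1, ← ec, ← conj_refl g.2 (lineRefl_apply j),
      ← qrefl_smul_vec dn (row exI).1, ← ed, ← conj_refl g.2 (lineRefl_apply i), h]
  calc i = lineFun (tEl i) exI := (lineFun_tEl i).symm
    _ = j := by rw [← hj, ← lineFun_mul, hg, mul_inv_cancel, lineFun_one]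

theorem ncard_reflections : {f : Equiv.Perm icoLeech | IsIcoReflection f}.ncard = 315 := by
  have : {f : Equiv.Perm icoLeech | IsIcoReflection f} = Set.range fun i => (lineRefl i).1 := by
    ext f
    constructor
    · intro hf
      obtain ⟨i, hi⟩ := exists_lineRefl hf
      exact ⟨i, hi.symm⟩
    · rintro ⟨i, rfl⟩
      exact isIcoReflection_lineRefl i
  rw [this, Set.ncard_range_of_injective (f := fun i => (lineRefl i).1) (Subtype.val_injective.comp lineRefl_injective),
    Nat.card_fin]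

theorem units_length : units.length = 120 ∧ units.Nodup := by decide +kernel

theorem ncard_minimal : {r : Fin 3 → ℍ[ℝ] | r ∈ icoLeech ∧ qip r r = 4}.ncard = 37800 := by
  set F : Fin 120 × Fin 315 → (Fin 3 → ℍ[ℝ]) := fun p t => toQ (uAt p.1.1) * (row p.2).1 t with hF
  have hinj : Function.Injective F := by
    rintro ⟨a, i⟩ ⟨b, j⟩ h
    have ha := normSq_unit (uAt_mem a.1)
    have hb := normSq_unit (uAt_mem b.1)
    have hij : i = j := by
      refine index_unique (c := star (toQ (uAt b.1)) * toQ (uAt a.1)) ?_ ?_ ?_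
      · rw [← toQ_conj]
        exact mul_mem (toQ_mem_icosians_iff.2 (isIco_qconj (isIco_uAt _)))
          (toQ_mem_icosians_iff.2 (isIco_uAt _))
      · rw [map_mul, Quaternion.normSq_star, ha, hb, one_mul]
      · funext t
        have := congrFun h t
        simp only [hF] at this
        rw [mul_assoc, this, ← mul_assoc, Quaternion.star_mul_self, hb, Quaternion.coe_one, one_mul]
    subst hij
    obtain ⟨t, ht⟩ : ∃ t, (row i).1 t ≠ 0 := by
      by_contra hc
      push_neg at hc
      have h4 := qip_row i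
      rw [show qip (row i).1 (row i).1 = 0 by simp [qip, hc]] at h4
      have : ((4 : ℝ) : ℍ[ℝ]) = ((0 : ℝ) : ℍ[ℝ]) := by norm_cast; exact h4.symm
      rw [Quaternion.coe_inj] at this
      norm_num at this
    have e : uAt a.1 = uAt b.1 := toQ_injective (mul_right_cancel₀ ht (congrFun h t))
    rw [uAt, uAt, List.getD_eq_getElem _ _ (by rw [units_length.1]; exact a.2),
      List.getD_eq_getElem _ _ (by rw [units_length.1]; exact b.2),
      units_length.2.getElem_inj_iff] at e
    rw [Fin.ext e]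
  have : {r : Fin 3 → ℍ[ℝ] | r ∈ icoLeech ∧ qip r r = 4} = Set.range F := by
    ext v
    constructor
    · rintro ⟨hv, hq⟩
      obtain ⟨i, c, hc, hn, e⟩ := exists_index (v := ⟨v, hv⟩) hq
      obtain ⟨u, hu, rfl⟩ := unit_of_norm hc hn
      obtain ⟨n, hn', rfl⟩ := List.getElem_of_mem hu
      refine ⟨(⟨n, by rw [units_length.1] at hn'; exact hn'⟩, i), ?_⟩
      simp only [hF, uAt, List.getD_eq_getElem _ _ hn']
      exact e.symm
    · rintro ⟨⟨a, i⟩, rfl⟩
      refine ⟨smul_mem (toQ_mem_icosians_iff.2 (isIco_uAt _)) _, ?_⟩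
      simp only [hF, qip_smul_left, qip_smul_right, qip_row]
      rw [show (4 : ℍ[ℝ]) = ((4 : ℝ) : ℍ[ℝ]) by norm_cast, Quaternion.mul_coe_eq_smul,
        smul_mul_assoc, Quaternion.self_mul_star, normSq_unit (uAt_mem _), Quaternion.smul_coe, mul_one]
  rw [this, Set.ncard_range_of_injective hinj, Nat.card_prod, Nat.card_fin, Nat.card_fin]

end CfsgLib.Char.J2
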