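import Mathlib

/-!
The element orders of the symmetric group of degree eight.
-/

set_option autoImplicit false

namespace CfsgLib.Char.J2

/-- The possible least common multiples of lists of numbers at least two with bounded sum. -/
def lcmVals : ℕ → ℕ → List ℕ
  | 0, _ => [1]
  | f + 1, s => 1 :: (List.range (s + 1)).flatMap fun a =>
      if 2 ≤ a then (lcmVals f (s - a)).map (Nat.lcm a) else []

theorem mem_lcmVals : ∀ (l : List ℕ) (f s : ℕ), (∀ a ∈ l, 2 ≤ a) → l.sum ≤ s → l.sum ≤ f →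
    (l : Multiset ℕ).lcm ∈ lcmVals f s
  | [], f, s, _, _, _ => by cases f <;> simp [lcmVals]
  | a :: l, 0, s, h, _, hf => by
    have := h a List.mem_cons_self
    simp only [List.sum_cons] at hf
    omega
  | a :: l, f + 1, s, h, hs, hf => by
    have ha := h a List.mem_cons_self
    simp only [List.sum_cons] at hs hf
    simp only [lcmVals, List.mem_cons, List.mem_flatMap, List.mem_range]
    refine Or.inr ⟨a, by omega, ?_⟩
    rw [if_pos ha, List.mem_map, ← Multiset.cons_coe, Multiset.lcm_cons]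
    exact ⟨_, mem_lcmVals l f (s - a) (fun b hb => h b (List.mem_cons_of_mem _ hb)) (by omega)
      (by omega), rfl⟩

theorem lcmVals_eight : ∀ n ∈ lcmVals 8 8,
    n ∈ ([1, 2, 3, 4, 5, 6, 7, 8, 10, 12, 15] : List ℕ) := by
  decide +kernel

theorem orderOf_mem (σ : Equiv.Perm (Fin 8)) :
    orderOf σ ∈ ([1, 2, 3, 4, 5, 6, 7, 8, 10, 12, 15] : List ℕ) := by
  rw [← σ.lcm_cycleType]
  have hsum : σ.cycleType.sum ≤ 8 := by
    rw [σ.sum_cycleType]
    exact (Finset.card_le_univ _).trans (by simp)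
  obtain ⟨l, hl⟩ := Quot.exists_rep σ.cycleType
  rw [← hl]
  refine lcmVals_eight _ (mem_lcmVals l 8 8 (fun a ha => ?_) ?_ ?_)
  · exact Equiv.Perm.two_le_of_mem_cycleType (σ := σ) (by rw [← hl]; exact ha)
  all_goals
    rw [← hl] at hsum
    simpa using hsum

/-- A witness for each order. -/
def sym8Wit (n : ℕ) : Equiv.Perm (Fin 8) :=
  if n = 2 then c[0, 1] else if n = 3 then c[0, 1, 2] else if n = 4 then c[0, 1, 2, 3]
  else if n = 5 then c[0, 1, 2, 3, 4] else if n = 6 then c[0, 1, 2, 3, 4, 5]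
  else if n = 7 then c[0, 1, 2, 3, 4, 5, 6] else if n = 8 then c[0, 1, 2, 3, 4, 5, 6, 7]
  else if n = 10 then c[0, 1, 2, 3, 4] * c[5, 6] else if n = 12 then c[0, 1, 2, 3] * c[4, 5, 6]
  else if n = 15 then c[0, 1, 2, 3, 4] * c[5, 6, 7] else 1

theorem sym8Wit_check : ∀ n ∈ ([1, 2, 3, 4, 5, 6, 7, 8, 10, 12, 15] : List ℕ),
    (sym8Wit n) ^ n = 1 ∧ ∀ i < n, 0 < i → (sym8Wit n) ^ i ≠ 1 := by
  decide +kernel

theorem range_orderOf_sym8 :
    Set.range (orderOf : Equiv.Perm (Fin 8) → ℕ) = {1, 2, 3, 4, 5, 6, 7, 8, 10, 12, 15} := by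
  ext n
  constructor
  · rintro ⟨σ, rfl⟩
    have h := orderOf_mem σ
    simp only [List.mem_cons, List.not_mem_nil, or_false] at h
    simpa using h
  · intro hn
    have hn' : n ∈ ([1, 2, 3, 4, 5, 6, 7, 8, 10, 12, 15] : List ℕ) := by simpa using hn
    obtain ⟨h1, h2⟩ := sym8Wit_check n hn'
    have hpos : 0 < n := by
      simp only [List.mem_cons, List.not_mem_nil, or_false] at hn'
      omega
    exact ⟨sym8Wit n, (orderOf_eq_iff hpos).2 ⟨h1, fun i hi hi0 => h2 i hi hi0⟩⟩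

end CfsgLib.Char.J2
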