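import Cfsg.Agent.Lib.Char.J2.Vec

/-!
Representatives of the 315 lines of minimal vectors of the icosian Leech lattice.
-/

set_option autoImplicit false
set_option maxRecDepth 20000

namespace CfsgLib.Char.J2

/-- The representatives. -/
def table : List Tr := [
  ⟨⟨(-1, 0), (-1, 0), (-1, 0), (1, -2)⟩, ⟨(2, 0), (0, 0), (0, 0), (0, 0)⟩, ⟨(0, 0), (-2, 0), (0, 0), (0, 0)⟩⟩,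
  ⟨⟨(-1, 0), (-1, 0), (-1, 0), (1, -2)⟩, ⟨(2, 0), (0, 0), (0, 0), (0, 0)⟩, ⟨(0, 0), (2, 0), (0, 0), (0, 0)⟩⟩,
  ⟨⟨(-1, 0), (-1, 0), (-1, 2), (1, 0)⟩, ⟨(2, 0), (0, 0), (0, 0), (0, 0)⟩, ⟨(0, 0), (0, 0), (-2, 0), (0, 0)⟩⟩,
  ⟨⟨(-1, 0), (-1, 0), (-1, 2), (1, 0)⟩, ⟨(2, 0), (0, 0), (0, 0), (0, 0)⟩, ⟨(0, 0), (0, 0), (2, 0), (0, 0)⟩⟩,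
  ⟨⟨(-1, 0), (-1, 0), (1, -2), (-1, 0)⟩, ⟨(2, 0), (0, 0), (0, 0), (0, 0)⟩, ⟨(0, 0), (0, 0), (0, 0), (-2, 0)⟩⟩,
  ⟨⟨(-1, 0), (-1, 0), (1, -2), (-1, 0)⟩, ⟨(2, 0), (0, 0), (0, 0), (0, 0)⟩, ⟨(0, 0), (0, 0), (0, 0), (2, 0)⟩⟩,
  ⟨⟨(-1, 0), (-1, 0), (1, 0), (-1, 2)⟩, ⟨(2, 0), (0, 0), (0, 0), (0, 0)⟩, ⟨(-2, 0), (0, 0), (0, 0), (0, 0)⟩⟩,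
  ⟨⟨(-1, 0), (-1, 0), (1, 0), (-1, 2)⟩, ⟨(2, 0), (0, 0), (0, 0), (0, 0)⟩, ⟨(2, 0), (0, 0), (0, 0), (0, 0)⟩⟩,
  ⟨⟨(-1, 0), (-1, 2), (-1, 0), (1, 0)⟩, ⟨(2, 0), (0, 0), (0, 0), (0, 0)⟩, ⟨(-2, 0), (0, 0), (0, 0), (0, 0)⟩⟩,
  ⟨⟨(-1, 0), (-1, 2), (-1, 0), (1, 0)⟩, ⟨(2, 0), (0, 0), (0, 0), (0, 0)⟩, ⟨(2, 0), (0, 0), (0, 0), (0, 0)⟩⟩,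
  ⟨⟨(-1, 0), (-1, 2), (1, 0), (-1, 0)⟩, ⟨(2, 0), (0, 0), (0, 0), (0, 0)⟩, ⟨(0, 0), (-2, 0), (0, 0), (0, 0)⟩⟩,
  ⟨⟨(-1, 0), (-1, 2), (1, 0), (-1, 0)⟩, ⟨(2, 0), (0, 0), (0, 0), (0, 0)⟩, ⟨(0, 0), (2, 0), (0, 0), (0, 0)⟩⟩,
  ⟨⟨(-1, 0), (1, -2), (-1, 0), (-1, 0)⟩, ⟨(2, 0), (0, 0), (0, 0), (0, 0)⟩, ⟨(0, 0), (0, 0), (-2, 0), (0, 0)⟩⟩,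
  ⟨⟨(-1, 0), (1, -2), (-1, 0), (-1, 0)⟩, ⟨(2, 0), (0, 0), (0, 0), (0, 0)⟩, ⟨(0, 0), (0, 0), (2, 0), (0, 0)⟩⟩,
  ⟨⟨(-1, 0), (1, -2), (1, 0), (1, 0)⟩, ⟨(2, 0), (0, 0), (0, 0), (0, 0)⟩, ⟨(0, 0), (0, 0), (0, 0), (-2, 0)⟩⟩,
  ⟨⟨(-1, 0), (1, -2), (1, 0), (1, 0)⟩, ⟨(2, 0), (0, 0), (0, 0), (0, 0)⟩, ⟨(0, 0), (0, 0), (0, 0), (2, 0)⟩⟩,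
  ⟨⟨(-1, 0), (1, 0), (-1, 0), (-1, 2)⟩, ⟨(2, 0), (0, 0), (0, 0), (0, 0)⟩, ⟨(0, 0), (0, 0), (0, 0), (-2, 0)⟩⟩,
  ⟨⟨(-1, 0), (1, 0), (-1, 0), (-1, 2)⟩, ⟨(2, 0), (0, 0), (0, 0), (0, 0)⟩, ⟨(0, 0), (0, 0), (0, 0), (2, 0)⟩⟩,
  ⟨⟨(-1, 0), (1, 0), (-1, 2), (-1, 0)⟩, ⟨(2, 0), (0, 0), (0, 0), (0, 0)⟩, ⟨(-2, 0), (0, 0), (0, 0), (0, 0)⟩⟩,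
  ⟨⟨(-1, 0), (1, 0), (-1, 2), (-1, 0)⟩, ⟨(2, 0), (0, 0), (0, 0), (0, 0)⟩, ⟨(2, 0), (0, 0), (0, 0), (0, 0)⟩⟩,
  ⟨⟨(-1, 0), (1, 0), (1, -2), (1, 0)⟩, ⟨(2, 0), (0, 0), (0, 0), (0, 0)⟩, ⟨(0, 0), (-2, 0), (0, 0), (0, 0)⟩⟩,
  ⟨⟨(-1, 0), (1, 0), (1, -2), (1, 0)⟩, ⟨(2, 0), (0, 0), (0, 0), (0, 0)⟩, ⟨(0, 0), (2, 0), (0, 0), (0, 0)⟩⟩,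
  ⟨⟨(-1, 0), (1, 0), (1, 0), (1, -2)⟩, ⟨(2, 0), (0, 0), (0, 0), (0, 0)⟩, ⟨(0, 0), (0, 0), (-2, 0), (0, 0)⟩⟩,
  ⟨⟨(-1, 0), (1, 0), (1, 0), (1, -2)⟩, ⟨(2, 0), (0, 0), (0, 0), (0, 0)⟩, ⟨(0, 0), (0, 0), (2, 0), (0, 0)⟩⟩,
  ⟨⟨(-1, 1), (-1, 1), (-1, 1), (-1, 1)⟩, ⟨(0, -1), (0, 1), (0, 1), (0, 1)⟩, ⟨(2, 0), (0, 0), (0, 0), (0, 0)⟩⟩,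
  ⟨⟨(-1, 1), (-1, 1), (-1, 1), (-1, 1)⟩, ⟨(0, 1), (0, -1), (0, -1), (0, -1)⟩, ⟨(2, 0), (0, 0), (0, 0), (0, 0)⟩⟩,
  ⟨⟨(-1, 1), (-1, 1), (-1, 1), (-1, 1)⟩, ⟨(2, 0), (0, 0), (0, 0), (0, 0)⟩, ⟨(0, -1), (0, 1), (0, 1), (0, 1)⟩⟩,
  ⟨⟨(-1, 1), (-1, 1), (-1, 1), (-1, 1)⟩, ⟨(2, 0), (0, 0), (0, 0), (0, 0)⟩, ⟨(0, 1), (0, -1), (0, -1), (0, -1)⟩⟩,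
  ⟨⟨(-1, 1), (-1, 1), (1, -1), (1, -1)⟩, ⟨(0, -1), (0, -1), (0, -1), (0, 1)⟩, ⟨(2, 0), (0, 0), (0, 0), (0, 0)⟩⟩,
  ⟨⟨(-1, 1), (-1, 1), (1, -1), (1, -1)⟩, ⟨(0, 1), (0, 1), (0, 1), (0, -1)⟩, ⟨(2, 0), (0, 0), (0, 0), (0, 0)⟩⟩,
  ⟨⟨(-1, 1), (-1, 1), (1, -1), (1, -1)⟩, ⟨(2, 0), (0, 0), (0, 0), (0, 0)⟩, ⟨(0, -1), (0, -1), (0, -1), (0, 1)⟩⟩,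
  ⟨⟨(-1, 1), (-1, 1), (1, -1), (1, -1)⟩, ⟨(2, 0), (0, 0), (0, 0), (0, 0)⟩, ⟨(0, 1), (0, 1), (0, 1), (0, -1)⟩⟩,
  ⟨⟨(-1, 1), (1, -1), (-1, 1), (1, -1)⟩, ⟨(0, -1), (0, 1), (0, -1), (0, -1)⟩, ⟨(2, 0), (0, 0), (0, 0), (0, 0)⟩⟩,
  ⟨⟨(-1, 1), (1, -1), (-1, 1), (1, -1)⟩, ⟨(0, 1), (0, -1), (0, 1), (0, 1)⟩, ⟨(2, 0), (0, 0), (0, 0), (0, 0)⟩⟩,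
  ⟨⟨(-1, 1), (1, -1), (-1, 1), (1, -1)⟩, ⟨(2, 0), (0, 0), (0, 0), (0, 0)⟩, ⟨(0, -1), (0, 1), (0, -1), (0, -1)⟩⟩,
  ⟨⟨(-1, 1), (1, -1), (-1, 1), (1, -1)⟩, ⟨(2, 0), (0, 0), (0, 0), (0, 0)⟩, ⟨(0, 1), (0, -1), (0, 1), (0, 1)⟩⟩,
  ⟨⟨(-1, 1), (1, -1), (1, -1), (-1, 1)⟩, ⟨(0, -1), (0, -1), (0, 1), (0, -1)⟩, ⟨(2, 0), (0, 0), (0, 0), (0, 0)⟩⟩,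
  ⟨⟨(-1, 1), (1, -1), (1, -1), (-1, 1)⟩, ⟨(0, 1), (0, 1), (0, -1), (0, 1)⟩, ⟨(2, 0), (0, 0), (0, 0), (0, 0)⟩⟩,
  ⟨⟨(-1, 1), (1, -1), (1, -1), (-1, 1)⟩, ⟨(2, 0), (0, 0), (0, 0), (0, 0)⟩, ⟨(0, -1), (0, -1), (0, 1), (0, -1)⟩⟩,
  ⟨⟨(-1, 1), (1, -1), (1, -1), (-1, 1)⟩, ⟨(2, 0), (0, 0), (0, 0), (0, 0)⟩, ⟨(0, 1), (0, 1), (0, -1), (0, 1)⟩⟩,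
  ⟨⟨(-1, 2), (-1, 0), (-1, 0), (1, 0)⟩, ⟨(2, 0), (0, 0), (0, 0), (0, 0)⟩, ⟨(0, 0), (0, 0), (0, 0), (-2, 0)⟩⟩,
  ⟨⟨(-1, 2), (-1, 0), (-1, 0), (1, 0)⟩, ⟨(2, 0), (0, 0), (0, 0), (0, 0)⟩, ⟨(0, 0), (0, 0), (0, 0), (2, 0)⟩⟩,
  ⟨⟨(-1, 2), (-1, 0), (1, 0), (-1, 0)⟩, ⟨(2, 0), (0, 0), (0, 0), (0, 0)⟩, ⟨(0, 0), (0, 0), (-2, 0), (0, 0)⟩⟩,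
  ⟨⟨(-1, 2), (-1, 0), (1, 0), (-1, 0)⟩, ⟨(2, 0), (0, 0), (0, 0), (0, 0)⟩, ⟨(0, 0), (0, 0), (2, 0), (0, 0)⟩⟩,
  ⟨⟨(-1, 2), (1, 0), (-1, 0), (-1, 0)⟩, ⟨(2, 0), (0, 0), (0, 0), (0, 0)⟩, ⟨(0, 0), (-2, 0), (0, 0), (0, 0)⟩⟩,
  ⟨⟨(-1, 2), (1, 0), (-1, 0), (-1, 0)⟩, ⟨(2, 0), (0, 0), (0, 0), (0, 0)⟩, ⟨(0, 0), (2, 0), (0, 0), (0, 0)⟩⟩,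
  ⟨⟨(-1, 2), (1, 0), (1, 0), (1, 0)⟩, ⟨(2, 0), (0, 0), (0, 0), (0, 0)⟩, ⟨(-2, 0), (0, 0), (0, 0), (0, 0)⟩⟩,
  ⟨⟨(-1, 2), (1, 0), (1, 0), (1, 0)⟩, ⟨(2, 0), (0, 0), (0, 0), (0, 0)⟩, ⟨(2, 0), (0, 0), (0, 0), (0, 0)⟩⟩,
  ⟨⟨(0, -1), (0, -1), (0, -1), (0, 1)⟩, ⟨(-1, 1), (-1, 1), (1, -1), (1, -1)⟩, ⟨(2, 0), (0, 0), (0, 0), (0, 0)⟩⟩,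
  ⟨⟨(0, -1), (0, -1), (0, -1), (0, 1)⟩, ⟨(1, -1), (1, -1), (-1, 1), (-1, 1)⟩, ⟨(2, 0), (0, 0), (0, 0), (0, 0)⟩⟩,
  ⟨⟨(0, -1), (0, -1), (0, -1), (0, 1)⟩, ⟨(2, 0), (0, 0), (0, 0), (0, 0)⟩, ⟨(-1, 1), (-1, 1), (1, -1), (1, -1)⟩⟩,
  ⟨⟨(0, -1), (0, -1), (0, -1), (0, 1)⟩, ⟨(2, 0), (0, 0), (0, 0), (0, 0)⟩, ⟨(1, -1), (1, -1), (-1, 1), (-1, 1)⟩⟩,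
  ⟨⟨(0, -1), (0, -1), (0, 1), (0, -1)⟩, ⟨(-1, 1), (1, -1), (1, -1), (-1, 1)⟩, ⟨(2, 0), (0, 0), (0, 0), (0, 0)⟩⟩,
  ⟨⟨(0, -1), (0, -1), (0, 1), (0, -1)⟩, ⟨(1, -1), (-1, 1), (-1, 1), (1, -1)⟩, ⟨(2, 0), (0, 0), (0, 0), (0, 0)⟩⟩,
  ⟨⟨(0, -1), (0, -1), (0, 1), (0, -1)⟩, ⟨(2, 0), (0, 0), (0, 0), (0, 0)⟩, ⟨(-1, 1), (1, -1), (1, -1), (-1, 1)⟩⟩,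
  ⟨⟨(0, -1), (0, -1), (0, 1), (0, -1)⟩, ⟨(2, 0), (0, 0), (0, 0), (0, 0)⟩, ⟨(1, -1), (-1, 1), (-1, 1), (1, -1)⟩⟩,
  ⟨⟨(0, -1), (0, 1), (0, -1), (0, -1)⟩, ⟨(-1, 1), (1, -1), (-1, 1), (1, -1)⟩, ⟨(2, 0), (0, 0), (0, 0), (0, 0)⟩⟩,
  ⟨⟨(0, -1), (0, 1), (0, -1), (0, -1)⟩, ⟨(1, -1), (-1, 1), (1, -1), (-1, 1)⟩, ⟨(2, 0), (0, 0), (0, 0), (0, 0)⟩⟩,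
  ⟨⟨(0, -1), (0, 1), (0, -1), (0, -1)⟩, ⟨(2, 0), (0, 0), (0, 0), (0, 0)⟩, ⟨(-1, 1), (1, -1), (-1, 1), (1, -1)⟩⟩,
  ⟨⟨(0, -1), (0, 1), (0, -1), (0, -1)⟩, ⟨(2, 0), (0, 0), (0, 0), (0, 0)⟩, ⟨(1, -1), (-1, 1), (1, -1), (-1, 1)⟩⟩,
  ⟨⟨(0, -1), (0, 1), (0, 1), (0, 1)⟩, ⟨(-1, 1), (-1, 1), (-1, 1), (-1, 1)⟩, ⟨(2, 0), (0, 0), (0, 0), (0, 0)⟩⟩,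
  ⟨⟨(0, -1), (0, 1), (0, 1), (0, 1)⟩, ⟨(1, -1), (1, -1), (1, -1), (1, -1)⟩, ⟨(2, 0), (0, 0), (0, 0), (0, 0)⟩⟩,
  ⟨⟨(0, -1), (0, 1), (0, 1), (0, 1)⟩, ⟨(2, 0), (0, 0), (0, 0), (0, 0)⟩, ⟨(-1, 1), (-1, 1), (-1, 1), (-1, 1)⟩⟩,
  ⟨⟨(0, -1), (0, 1), (0, 1), (0, 1)⟩, ⟨(2, 0), (0, 0), (0, 0), (0, 0)⟩, ⟨(1, -1), (1, -1), (1, -1), (1, -1)⟩⟩,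
  ⟨⟨(0, 0), (0, 0), (0, 0), (0, 0)⟩, ⟨(0, 0), (0, 0), (0, 0), (0, 0)⟩, ⟨(4, 0), (0, 0), (0, 0), (0, 0)⟩⟩,
  ⟨⟨(0, 0), (0, 0), (0, 0), (0, 0)⟩, ⟨(1, -2), (1, 0), (1, 0), (1, 0)⟩, ⟨(-1, 0), (-1, 0), (1, -2), (1, 0)⟩⟩,
  ⟨⟨(0, 0), (0, 0), (0, 0), (0, 0)⟩, ⟨(1, -2), (1, 0), (1, 0), (1, 0)⟩, ⟨(-1, 0), (1, -2), (1, 0), (-1, 0)⟩⟩,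
  ⟨⟨(0, 0), (0, 0), (0, 0), (0, 0)⟩, ⟨(1, -2), (1, 0), (1, 0), (1, 0)⟩, ⟨(-1, 0), (1, 0), (-1, 0), (1, -2)⟩⟩,
  ⟨⟨(0, 0), (0, 0), (0, 0), (0, 0)⟩, ⟨(1, -2), (1, 0), (1, 0), (1, 0)⟩, ⟨(-1, 2), (-1, 0), (-1, 0), (-1, 0)⟩⟩,
  ⟨⟨(0, 0), (0, 0), (0, 0), (0, 0)⟩, ⟨(1, -2), (1, 0), (1, 0), (1, 0)⟩, ⟨(1, -2), (1, 0), (1, 0), (1, 0)⟩⟩,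
  ⟨⟨(0, 0), (0, 0), (0, 0), (0, 0)⟩, ⟨(1, -2), (1, 0), (1, 0), (1, 0)⟩, ⟨(1, 0), (-1, 0), (1, 0), (-1, 2)⟩⟩,
  ⟨⟨(0, 0), (0, 0), (0, 0), (0, 0)⟩, ⟨(1, -2), (1, 0), (1, 0), (1, 0)⟩, ⟨(1, 0), (-1, 2), (-1, 0), (1, 0)⟩⟩,
  ⟨⟨(0, 0), (0, 0), (0, 0), (0, 0)⟩, ⟨(1, -2), (1, 0), (1, 0), (1, 0)⟩, ⟨(1, 0), (1, 0), (-1, 2), (-1, 0)⟩⟩,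
  ⟨⟨(0, 0), (0, 0), (0, 0), (0, 0)⟩, ⟨(4, 0), (0, 0), (0, 0), (0, 0)⟩, ⟨(0, 0), (0, 0), (0, 0), (0, 0)⟩⟩,
  ⟨⟨(0, 1), (0, -1), (0, -1), (0, -1)⟩, ⟨(-1, 1), (-1, 1), (-1, 1), (-1, 1)⟩, ⟨(2, 0), (0, 0), (0, 0), (0, 0)⟩⟩,
  ⟨⟨(0, 1), (0, -1), (0, -1), (0, -1)⟩, ⟨(1, -1), (1, -1), (1, -1), (1, -1)⟩, ⟨(2, 0), (0, 0), (0, 0), (0, 0)⟩⟩,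
  ⟨⟨(0, 1), (0, -1), (0, -1), (0, -1)⟩, ⟨(2, 0), (0, 0), (0, 0), (0, 0)⟩, ⟨(-1, 1), (-1, 1), (-1, 1), (-1, 1)⟩⟩,
  ⟨⟨(0, 1), (0, -1), (0, -1), (0, -1)⟩, ⟨(2, 0), (0, 0), (0, 0), (0, 0)⟩, ⟨(1, -1), (1, -1), (1, -1), (1, -1)⟩⟩,
  ⟨⟨(0, 1), (0, -1), (0, 1), (0, 1)⟩, ⟨(-1, 1), (1, -1), (-1, 1), (1, -1)⟩, ⟨(2, 0), (0, 0), (0, 0), (0, 0)⟩⟩,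
  ⟨⟨(0, 1), (0, -1), (0, 1), (0, 1)⟩, ⟨(1, -1), (-1, 1), (1, -1), (-1, 1)⟩, ⟨(2, 0), (0, 0), (0, 0), (0, 0)⟩⟩,
  ⟨⟨(0, 1), (0, -1), (0, 1), (0, 1)⟩, ⟨(2, 0), (0, 0), (0, 0), (0, 0)⟩, ⟨(-1, 1), (1, -1), (-1, 1), (1, -1)⟩⟩,
  ⟨⟨(0, 1), (0, -1), (0, 1), (0, 1)⟩, ⟨(2, 0), (0, 0), (0, 0), (0, 0)⟩, ⟨(1, -1), (-1, 1), (1, -1), (-1, 1)⟩⟩,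
  ⟨⟨(0, 1), (0, 1), (0, -1), (0, 1)⟩, ⟨(-1, 1), (1, -1), (1, -1), (-1, 1)⟩, ⟨(2, 0), (0, 0), (0, 0), (0, 0)⟩⟩,
  ⟨⟨(0, 1), (0, 1), (0, -1), (0, 1)⟩, ⟨(1, -1), (-1, 1), (-1, 1), (1, -1)⟩, ⟨(2, 0), (0, 0), (0, 0), (0, 0)⟩⟩,
  ⟨⟨(0, 1), (0, 1), (0, -1), (0, 1)⟩, ⟨(2, 0), (0, 0), (0, 0), (0, 0)⟩, ⟨(-1, 1), (1, -1), (1, -1), (-1, 1)⟩⟩,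
  ⟨⟨(0, 1), (0, 1), (0, -1), (0, 1)⟩, ⟨(2, 0), (0, 0), (0, 0), (0, 0)⟩, ⟨(1, -1), (-1, 1), (-1, 1), (1, -1)⟩⟩,
  ⟨⟨(0, 1), (0, 1), (0, 1), (0, -1)⟩, ⟨(-1, 1), (-1, 1), (1, -1), (1, -1)⟩, ⟨(2, 0), (0, 0), (0, 0), (0, 0)⟩⟩,
  ⟨⟨(0, 1), (0, 1), (0, 1), (0, -1)⟩, ⟨(1, -1), (1, -1), (-1, 1), (-1, 1)⟩, ⟨(2, 0), (0, 0), (0, 0), (0, 0)⟩⟩,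
  ⟨⟨(0, 1), (0, 1), (0, 1), (0, -1)⟩, ⟨(2, 0), (0, 0), (0, 0), (0, 0)⟩, ⟨(-1, 1), (-1, 1), (1, -1), (1, -1)⟩⟩,
  ⟨⟨(0, 1), (0, 1), (0, 1), (0, -1)⟩, ⟨(2, 0), (0, 0), (0, 0), (0, 0)⟩, ⟨(1, -1), (1, -1), (-1, 1), (-1, 1)⟩⟩,
  ⟨⟨(1, -2), (-1, 0), (-1, 0), (-1, 0)⟩, ⟨(2, 0), (0, 0), (0, 0), (0, 0)⟩, ⟨(-2, 0), (0, 0), (0, 0), (0, 0)⟩⟩,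
  ⟨⟨(1, -2), (-1, 0), (-1, 0), (-1, 0)⟩, ⟨(2, 0), (0, 0), (0, 0), (0, 0)⟩, ⟨(2, 0), (0, 0), (0, 0), (0, 0)⟩⟩,
  ⟨⟨(1, -2), (-1, 0), (1, 0), (1, 0)⟩, ⟨(2, 0), (0, 0), (0, 0), (0, 0)⟩, ⟨(0, 0), (-2, 0), (0, 0), (0, 0)⟩⟩,
  ⟨⟨(1, -2), (-1, 0), (1, 0), (1, 0)⟩, ⟨(2, 0), (0, 0), (0, 0), (0, 0)⟩, ⟨(0, 0), (2, 0), (0, 0), (0, 0)⟩⟩,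
  ⟨⟨(1, -2), (1, 0), (-1, 0), (1, 0)⟩, ⟨(2, 0), (0, 0), (0, 0), (0, 0)⟩, ⟨(0, 0), (0, 0), (-2, 0), (0, 0)⟩⟩,
  ⟨⟨(1, -2), (1, 0), (-1, 0), (1, 0)⟩, ⟨(2, 0), (0, 0), (0, 0), (0, 0)⟩, ⟨(0, 0), (0, 0), (2, 0), (0, 0)⟩⟩,
  ⟨⟨(1, -2), (1, 0), (1, 0), (-1, 0)⟩, ⟨(2, 0), (0, 0), (0, 0), (0, 0)⟩, ⟨(0, 0), (0, 0), (0, 0), (-2, 0)⟩⟩,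
  ⟨⟨(1, -2), (1, 0), (1, 0), (-1, 0)⟩, ⟨(2, 0), (0, 0), (0, 0), (0, 0)⟩, ⟨(0, 0), (0, 0), (0, 0), (2, 0)⟩⟩,
  ⟨⟨(1, -2), (1, 0), (1, 0), (1, 0)⟩, ⟨(-1, 0), (-1, 0), (1, -2), (1, 0)⟩, ⟨(0, 0), (0, 0), (0, 0), (0, 0)⟩⟩,
  ⟨⟨(1, -2), (1, 0), (1, 0), (1, 0)⟩, ⟨(-1, 0), (1, -2), (1, 0), (-1, 0)⟩, ⟨(0, 0), (0, 0), (0, 0), (0, 0)⟩⟩,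
  ⟨⟨(1, -2), (1, 0), (1, 0), (1, 0)⟩, ⟨(-1, 0), (1, 0), (-1, 0), (1, -2)⟩, ⟨(0, 0), (0, 0), (0, 0), (0, 0)⟩⟩,
  ⟨⟨(1, -2), (1, 0), (1, 0), (1, 0)⟩, ⟨(-1, 2), (-1, 0), (-1, 0), (-1, 0)⟩, ⟨(0, 0), (0, 0), (0, 0), (0, 0)⟩⟩,
  ⟨⟨(1, -2), (1, 0), (1, 0), (1, 0)⟩, ⟨(0, 0), (0, 0), (0, 0), (0, 0)⟩, ⟨(-1, 0), (-1, 0), (1, -2), (1, 0)⟩⟩,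
  ⟨⟨(1, -2), (1, 0), (1, 0), (1, 0)⟩, ⟨(0, 0), (0, 0), (0, 0), (0, 0)⟩, ⟨(-1, 0), (1, -2), (1, 0), (-1, 0)⟩⟩,
  ⟨⟨(1, -2), (1, 0), (1, 0), (1, 0)⟩, ⟨(0, 0), (0, 0), (0, 0), (0, 0)⟩, ⟨(-1, 0), (1, 0), (-1, 0), (1, -2)⟩⟩,
  ⟨⟨(1, -2), (1, 0), (1, 0), (1, 0)⟩, ⟨(0, 0), (0, 0), (0, 0), (0, 0)⟩, ⟨(-1, 2), (-1, 0), (-1, 0), (-1, 0)⟩⟩,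
  ⟨⟨(1, -2), (1, 0), (1, 0), (1, 0)⟩, ⟨(0, 0), (0, 0), (0, 0), (0, 0)⟩, ⟨(1, -2), (1, 0), (1, 0), (1, 0)⟩⟩,
  ⟨⟨(1, -2), (1, 0), (1, 0), (1, 0)⟩, ⟨(0, 0), (0, 0), (0, 0), (0, 0)⟩, ⟨(1, 0), (-1, 0), (1, 0), (-1, 2)⟩⟩,
  ⟨⟨(1, -2), (1, 0), (1, 0), (1, 0)⟩, ⟨(0, 0), (0, 0), (0, 0), (0, 0)⟩, ⟨(1, 0), (-1, 2), (-1, 0), (1, 0)⟩⟩,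
  ⟨⟨(1, -2), (1, 0), (1, 0), (1, 0)⟩, ⟨(0, 0), (0, 0), (0, 0), (0, 0)⟩, ⟨(1, 0), (1, 0), (-1, 2), (-1, 0)⟩⟩,
  ⟨⟨(1, -2), (1, 0), (1, 0), (1, 0)⟩, ⟨(1, -2), (1, 0), (1, 0), (1, 0)⟩, ⟨(0, 0), (0, 0), (0, 0), (0, 0)⟩⟩,
  ⟨⟨(1, -2), (1, 0), (1, 0), (1, 0)⟩, ⟨(1, 0), (-1, 0), (1, 0), (-1, 2)⟩, ⟨(0, 0), (0, 0), (0, 0), (0, 0)⟩⟩,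
  ⟨⟨(1, -2), (1, 0), (1, 0), (1, 0)⟩, ⟨(1, 0), (-1, 2), (-1, 0), (1, 0)⟩, ⟨(0, 0), (0, 0), (0, 0), (0, 0)⟩⟩,
  ⟨⟨(1, -2), (1, 0), (1, 0), (1, 0)⟩, ⟨(1, 0), (1, 0), (-1, 2), (-1, 0)⟩, ⟨(0, 0), (0, 0), (0, 0), (0, 0)⟩⟩,
  ⟨⟨(1, -1), (-1, 1), (-1, 1), (1, -1)⟩, ⟨(0, -1), (0, -1), (0, 1), (0, -1)⟩, ⟨(2, 0), (0, 0), (0, 0), (0, 0)⟩⟩,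
  ⟨⟨(1, -1), (-1, 1), (-1, 1), (1, -1)⟩, ⟨(0, 1), (0, 1), (0, -1), (0, 1)⟩, ⟨(2, 0), (0, 0), (0, 0), (0, 0)⟩⟩,
  ⟨⟨(1, -1), (-1, 1), (-1, 1), (1, -1)⟩, ⟨(2, 0), (0, 0), (0, 0), (0, 0)⟩, ⟨(0, -1), (0, -1), (0, 1), (0, -1)⟩⟩,
  ⟨⟨(1, -1), (-1, 1), (-1, 1), (1, -1)⟩, ⟨(2, 0), (0, 0), (0, 0), (0, 0)⟩, ⟨(0, 1), (0, 1), (0, -1), (0, 1)⟩⟩,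
  ⟨⟨(1, -1), (-1, 1), (1, -1), (-1, 1)⟩, ⟨(0, -1), (0, 1), (0, -1), (0, -1)⟩, ⟨(2, 0), (0, 0), (0, 0), (0, 0)⟩⟩,
  ⟨⟨(1, -1), (-1, 1), (1, -1), (-1, 1)⟩, ⟨(0, 1), (0, -1), (0, 1), (0, 1)⟩, ⟨(2, 0), (0, 0), (0, 0), (0, 0)⟩⟩,
  ⟨⟨(1, -1), (-1, 1), (1, -1), (-1, 1)⟩, ⟨(2, 0), (0, 0), (0, 0), (0, 0)⟩, ⟨(0, -1), (0, 1), (0, -1), (0, -1)⟩⟩,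
  ⟨⟨(1, -1), (-1, 1), (1, -1), (-1, 1)⟩, ⟨(2, 0), (0, 0), (0, 0), (0, 0)⟩, ⟨(0, 1), (0, -1), (0, 1), (0, 1)⟩⟩,
  ⟨⟨(1, -1), (1, -1), (-1, 1), (-1, 1)⟩, ⟨(0, -1), (0, -1), (0, -1), (0, 1)⟩, ⟨(2, 0), (0, 0), (0, 0), (0, 0)⟩⟩,
  ⟨⟨(1, -1), (1, -1), (-1, 1), (-1, 1)⟩, ⟨(0, 1), (0, 1), (0, 1), (0, -1)⟩, ⟨(2, 0), (0, 0), (0, 0), (0, 0)⟩⟩,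
  ⟨⟨(1, -1), (1, -1), (-1, 1), (-1, 1)⟩, ⟨(2, 0), (0, 0), (0, 0), (0, 0)⟩, ⟨(0, -1), (0, -1), (0, -1), (0, 1)⟩⟩,
  ⟨⟨(1, -1), (1, -1), (-1, 1), (-1, 1)⟩, ⟨(2, 0), (0, 0), (0, 0), (0, 0)⟩, ⟨(0, 1), (0, 1), (0, 1), (0, -1)⟩⟩,
  ⟨⟨(1, -1), (1, -1), (1, -1), (1, -1)⟩, ⟨(0, -1), (0, 1), (0, 1), (0, 1)⟩, ⟨(2, 0), (0, 0), (0, 0), (0, 0)⟩⟩,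
  ⟨⟨(1, -1), (1, -1), (1, -1), (1, -1)⟩, ⟨(0, 1), (0, -1), (0, -1), (0, -1)⟩, ⟨(2, 0), (0, 0), (0, 0), (0, 0)⟩⟩,
  ⟨⟨(1, -1), (1, -1), (1, -1), (1, -1)⟩, ⟨(2, 0), (0, 0), (0, 0), (0, 0)⟩, ⟨(0, -1), (0, 1), (0, 1), (0, 1)⟩⟩,
  ⟨⟨(1, -1), (1, -1), (1, -1), (1, -1)⟩, ⟨(2, 0), (0, 0), (0, 0), (0, 0)⟩, ⟨(0, 1), (0, -1), (0, -1), (0, -1)⟩⟩,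
  ⟨⟨(1, 0), (-1, 0), (-1, 0), (-1, 2)⟩, ⟨(2, 0), (0, 0), (0, 0), (0, 0)⟩, ⟨(0, 0), (0, 0), (-2, 0), (0, 0)⟩⟩,
  ⟨⟨(1, 0), (-1, 0), (-1, 0), (-1, 2)⟩, ⟨(2, 0), (0, 0), (0, 0), (0, 0)⟩, ⟨(0, 0), (0, 0), (2, 0), (0, 0)⟩⟩,
  ⟨⟨(1, 0), (-1, 0), (-1, 2), (-1, 0)⟩, ⟨(2, 0), (0, 0), (0, 0), (0, 0)⟩, ⟨(0, 0), (-2, 0), (0, 0), (0, 0)⟩⟩,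
  ⟨⟨(1, 0), (-1, 0), (-1, 2), (-1, 0)⟩, ⟨(2, 0), (0, 0), (0, 0), (0, 0)⟩, ⟨(0, 0), (2, 0), (0, 0), (0, 0)⟩⟩,
  ⟨⟨(1, 0), (-1, 0), (1, -2), (1, 0)⟩, ⟨(2, 0), (0, 0), (0, 0), (0, 0)⟩, ⟨(-2, 0), (0, 0), (0, 0), (0, 0)⟩⟩,
  ⟨⟨(1, 0), (-1, 0), (1, -2), (1, 0)⟩, ⟨(2, 0), (0, 0), (0, 0), (0, 0)⟩, ⟨(2, 0), (0, 0), (0, 0), (0, 0)⟩⟩,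
  ⟨⟨(1, 0), (-1, 0), (1, 0), (1, -2)⟩, ⟨(2, 0), (0, 0), (0, 0), (0, 0)⟩, ⟨(0, 0), (0, 0), (0, 0), (-2, 0)⟩⟩,
  ⟨⟨(1, 0), (-1, 0), (1, 0), (1, -2)⟩, ⟨(2, 0), (0, 0), (0, 0), (0, 0)⟩, ⟨(0, 0), (0, 0), (0, 0), (2, 0)⟩⟩,
  ⟨⟨(1, 0), (-1, 2), (-1, 0), (-1, 0)⟩, ⟨(2, 0), (0, 0), (0, 0), (0, 0)⟩, ⟨(0, 0), (0, 0), (0, 0), (-2, 0)⟩⟩,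
  ⟨⟨(1, 0), (-1, 2), (-1, 0), (-1, 0)⟩, ⟨(2, 0), (0, 0), (0, 0), (0, 0)⟩, ⟨(0, 0), (0, 0), (0, 0), (2, 0)⟩⟩,
  ⟨⟨(1, 0), (-1, 2), (1, 0), (1, 0)⟩, ⟨(2, 0), (0, 0), (0, 0), (0, 0)⟩, ⟨(0, 0), (0, 0), (-2, 0), (0, 0)⟩⟩,
  ⟨⟨(1, 0), (-1, 2), (1, 0), (1, 0)⟩, ⟨(2, 0), (0, 0), (0, 0), (0, 0)⟩, ⟨(0, 0), (0, 0), (2, 0), (0, 0)⟩⟩,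
  ⟨⟨(1, 0), (1, -2), (-1, 0), (1, 0)⟩, ⟨(2, 0), (0, 0), (0, 0), (0, 0)⟩, ⟨(0, 0), (-2, 0), (0, 0), (0, 0)⟩⟩,
  ⟨⟨(1, 0), (1, -2), (-1, 0), (1, 0)⟩, ⟨(2, 0), (0, 0), (0, 0), (0, 0)⟩, ⟨(0, 0), (2, 0), (0, 0), (0, 0)⟩⟩,
  ⟨⟨(1, 0), (1, -2), (1, 0), (-1, 0)⟩, ⟨(2, 0), (0, 0), (0, 0), (0, 0)⟩, ⟨(-2, 0), (0, 0), (0, 0), (0, 0)⟩⟩,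
  ⟨⟨(1, 0), (1, -2), (1, 0), (-1, 0)⟩, ⟨(2, 0), (0, 0), (0, 0), (0, 0)⟩, ⟨(2, 0), (0, 0), (0, 0), (0, 0)⟩⟩,
  ⟨⟨(1, 0), (1, 0), (-1, 0), (1, -2)⟩, ⟨(2, 0), (0, 0), (0, 0), (0, 0)⟩, ⟨(-2, 0), (0, 0), (0, 0), (0, 0)⟩⟩,
  ⟨⟨(1, 0), (1, 0), (-1, 0), (1, -2)⟩, ⟨(2, 0), (0, 0), (0, 0), (0, 0)⟩, ⟨(2, 0), (0, 0), (0, 0), (0, 0)⟩⟩,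
  ⟨⟨(1, 0), (1, 0), (-1, 2), (1, 0)⟩, ⟨(2, 0), (0, 0), (0, 0), (0, 0)⟩, ⟨(0, 0), (0, 0), (0, 0), (-2, 0)⟩⟩,
  ⟨⟨(1, 0), (1, 0), (-1, 2), (1, 0)⟩, ⟨(2, 0), (0, 0), (0, 0), (0, 0)⟩, ⟨(0, 0), (0, 0), (0, 0), (2, 0)⟩⟩,
  ⟨⟨(1, 0), (1, 0), (1, -2), (-1, 0)⟩, ⟨(2, 0), (0, 0), (0, 0), (0, 0)⟩, ⟨(0, 0), (0, 0), (-2, 0), (0, 0)⟩⟩,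
  ⟨⟨(1, 0), (1, 0), (1, -2), (-1, 0)⟩, ⟨(2, 0), (0, 0), (0, 0), (0, 0)⟩, ⟨(0, 0), (0, 0), (2, 0), (0, 0)⟩⟩,
  ⟨⟨(1, 0), (1, 0), (1, 0), (-1, 2)⟩, ⟨(2, 0), (0, 0), (0, 0), (0, 0)⟩, ⟨(0, 0), (-2, 0), (0, 0), (0, 0)⟩⟩,
  ⟨⟨(1, 0), (1, 0), (1, 0), (-1, 2)⟩, ⟨(2, 0), (0, 0), (0, 0), (0, 0)⟩, ⟨(0, 0), (2, 0), (0, 0), (0, 0)⟩⟩,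
  ⟨⟨(2, 0), (0, 0), (0, 0), (0, 0)⟩, ⟨(-2, 0), (0, 0), (0, 0), (0, 0)⟩, ⟨(-1, 0), (-1, 0), (1, 0), (-1, 2)⟩⟩,
  ⟨⟨(2, 0), (0, 0), (0, 0), (0, 0)⟩, ⟨(-2, 0), (0, 0), (0, 0), (0, 0)⟩, ⟨(-1, 0), (-1, 2), (-1, 0), (1, 0)⟩⟩,
  ⟨⟨(2, 0), (0, 0), (0, 0), (0, 0)⟩, ⟨(-2, 0), (0, 0), (0, 0), (0, 0)⟩, ⟨(-1, 0), (1, 0), (-1, 2), (-1, 0)⟩⟩,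
  ⟨⟨(2, 0), (0, 0), (0, 0), (0, 0)⟩, ⟨(-2, 0), (0, 0), (0, 0), (0, 0)⟩, ⟨(-1, 2), (1, 0), (1, 0), (1, 0)⟩⟩,
  ⟨⟨(2, 0), (0, 0), (0, 0), (0, 0)⟩, ⟨(-2, 0), (0, 0), (0, 0), (0, 0)⟩, ⟨(1, -2), (-1, 0), (-1, 0), (-1, 0)⟩⟩,
  ⟨⟨(2, 0), (0, 0), (0, 0), (0, 0)⟩, ⟨(-2, 0), (0, 0), (0, 0), (0, 0)⟩, ⟨(1, 0), (-1, 0), (1, -2), (1, 0)⟩⟩,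
  ⟨⟨(2, 0), (0, 0), (0, 0), (0, 0)⟩, ⟨(-2, 0), (0, 0), (0, 0), (0, 0)⟩, ⟨(1, 0), (1, -2), (1, 0), (-1, 0)⟩⟩,
  ⟨⟨(2, 0), (0, 0), (0, 0), (0, 0)⟩, ⟨(-2, 0), (0, 0), (0, 0), (0, 0)⟩, ⟨(1, 0), (1, 0), (-1, 0), (1, -2)⟩⟩,
  ⟨⟨(2, 0), (0, 0), (0, 0), (0, 0)⟩, ⟨(-1, 0), (-1, 0), (-1, 0), (1, -2)⟩, ⟨(0, 0), (-2, 0), (0, 0), (0, 0)⟩⟩,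
  ⟨⟨(2, 0), (0, 0), (0, 0), (0, 0)⟩, ⟨(-1, 0), (-1, 0), (-1, 0), (1, -2)⟩, ⟨(0, 0), (2, 0), (0, 0), (0, 0)⟩⟩,
  ⟨⟨(2, 0), (0, 0), (0, 0), (0, 0)⟩, ⟨(-1, 0), (-1, 0), (-1, 2), (1, 0)⟩, ⟨(0, 0), (0, 0), (-2, 0), (0, 0)⟩⟩,
  ⟨⟨(2, 0), (0, 0), (0, 0), (0, 0)⟩, ⟨(-1, 0), (-1, 0), (-1, 2), (1, 0)⟩, ⟨(0, 0), (0, 0), (2, 0), (0, 0)⟩⟩,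
  ⟨⟨(2, 0), (0, 0), (0, 0), (0, 0)⟩, ⟨(-1, 0), (-1, 0), (1, -2), (-1, 0)⟩, ⟨(0, 0), (0, 0), (0, 0), (-2, 0)⟩⟩,
  ⟨⟨(2, 0), (0, 0), (0, 0), (0, 0)⟩, ⟨(-1, 0), (-1, 0), (1, -2), (-1, 0)⟩, ⟨(0, 0), (0, 0), (0, 0), (2, 0)⟩⟩,
  ⟨⟨(2, 0), (0, 0), (0, 0), (0, 0)⟩, ⟨(-1, 0), (-1, 0), (1, 0), (-1, 2)⟩, ⟨(-2, 0), (0, 0), (0, 0), (0, 0)⟩⟩,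
  ⟨⟨(2, 0), (0, 0), (0, 0), (0, 0)⟩, ⟨(-1, 0), (-1, 0), (1, 0), (-1, 2)⟩, ⟨(2, 0), (0, 0), (0, 0), (0, 0)⟩⟩,
  ⟨⟨(2, 0), (0, 0), (0, 0), (0, 0)⟩, ⟨(-1, 0), (-1, 2), (-1, 0), (1, 0)⟩, ⟨(-2, 0), (0, 0), (0, 0), (0, 0)⟩⟩,
  ⟨⟨(2, 0), (0, 0), (0, 0), (0, 0)⟩, ⟨(-1, 0), (-1, 2), (-1, 0), (1, 0)⟩, ⟨(2, 0), (0, 0), (0, 0), (0, 0)⟩⟩,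
  ⟨⟨(2, 0), (0, 0), (0, 0), (0, 0)⟩, ⟨(-1, 0), (-1, 2), (1, 0), (-1, 0)⟩, ⟨(0, 0), (-2, 0), (0, 0), (0, 0)⟩⟩,
  ⟨⟨(2, 0), (0, 0), (0, 0), (0, 0)⟩, ⟨(-1, 0), (-1, 2), (1, 0), (-1, 0)⟩, ⟨(0, 0), (2, 0), (0, 0), (0, 0)⟩⟩,
  ⟨⟨(2, 0), (0, 0), (0, 0), (0, 0)⟩, ⟨(-1, 0), (1, -2), (-1, 0), (-1, 0)⟩, ⟨(0, 0), (0, 0), (-2, 0), (0, 0)⟩⟩,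
  ⟨⟨(2, 0), (0, 0), (0, 0), (0, 0)⟩, ⟨(-1, 0), (1, -2), (-1, 0), (-1, 0)⟩, ⟨(0, 0), (0, 0), (2, 0), (0, 0)⟩⟩,
  ⟨⟨(2, 0), (0, 0), (0, 0), (0, 0)⟩, ⟨(-1, 0), (1, -2), (1, 0), (1, 0)⟩, ⟨(0, 0), (0, 0), (0, 0), (-2, 0)⟩⟩,
  ⟨⟨(2, 0), (0, 0), (0, 0), (0, 0)⟩, ⟨(-1, 0), (1, -2), (1, 0), (1, 0)⟩, ⟨(0, 0), (0, 0), (0, 0), (2, 0)⟩⟩,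
  ⟨⟨(2, 0), (0, 0), (0, 0), (0, 0)⟩, ⟨(-1, 0), (1, 0), (-1, 0), (-1, 2)⟩, ⟨(0, 0), (0, 0), (0, 0), (-2, 0)⟩⟩,
  ⟨⟨(2, 0), (0, 0), (0, 0), (0, 0)⟩, ⟨(-1, 0), (1, 0), (-1, 0), (-1, 2)⟩, ⟨(0, 0), (0, 0), (0, 0), (2, 0)⟩⟩,
  ⟨⟨(2, 0), (0, 0), (0, 0), (0, 0)⟩, ⟨(-1, 0), (1, 0), (-1, 2), (-1, 0)⟩, ⟨(-2, 0), (0, 0), (0, 0), (0, 0)⟩⟩,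
  ⟨⟨(2, 0), (0, 0), (0, 0), (0, 0)⟩, ⟨(-1, 0), (1, 0), (-1, 2), (-1, 0)⟩, ⟨(2, 0), (0, 0), (0, 0), (0, 0)⟩⟩,
  ⟨⟨(2, 0), (0, 0), (0, 0), (0, 0)⟩, ⟨(-1, 0), (1, 0), (1, -2), (1, 0)⟩, ⟨(0, 0), (-2, 0), (0, 0), (0, 0)⟩⟩,
  ⟨⟨(2, 0), (0, 0), (0, 0), (0, 0)⟩, ⟨(-1, 0), (1, 0), (1, -2), (1, 0)⟩, ⟨(0, 0), (2, 0), (0, 0), (0, 0)⟩⟩,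
  ⟨⟨(2, 0), (0, 0), (0, 0), (0, 0)⟩, ⟨(-1, 0), (1, 0), (1, 0), (1, -2)⟩, ⟨(0, 0), (0, 0), (-2, 0), (0, 0)⟩⟩,
  ⟨⟨(2, 0), (0, 0), (0, 0), (0, 0)⟩, ⟨(-1, 0), (1, 0), (1, 0), (1, -2)⟩, ⟨(0, 0), (0, 0), (2, 0), (0, 0)⟩⟩,
  ⟨⟨(2, 0), (0, 0), (0, 0), (0, 0)⟩, ⟨(-1, 1), (-1, 1), (-1, 1), (-1, 1)⟩, ⟨(0, -1), (0, 1), (0, 1), (0, 1)⟩⟩,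
  ⟨⟨(2, 0), (0, 0), (0, 0), (0, 0)⟩, ⟨(-1, 1), (-1, 1), (-1, 1), (-1, 1)⟩, ⟨(0, 1), (0, -1), (0, -1), (0, -1)⟩⟩,
  ⟨⟨(2, 0), (0, 0), (0, 0), (0, 0)⟩, ⟨(-1, 1), (-1, 1), (1, -1), (1, -1)⟩, ⟨(0, -1), (0, -1), (0, -1), (0, 1)⟩⟩,
  ⟨⟨(2, 0), (0, 0), (0, 0), (0, 0)⟩, ⟨(-1, 1), (-1, 1), (1, -1), (1, -1)⟩, ⟨(0, 1), (0, 1), (0, 1), (0, -1)⟩⟩,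
  ⟨⟨(2, 0), (0, 0), (0, 0), (0, 0)⟩, ⟨(-1, 1), (1, -1), (-1, 1), (1, -1)⟩, ⟨(0, -1), (0, 1), (0, -1), (0, -1)⟩⟩,
  ⟨⟨(2, 0), (0, 0), (0, 0), (0, 0)⟩, ⟨(-1, 1), (1, -1), (-1, 1), (1, -1)⟩, ⟨(0, 1), (0, -1), (0, 1), (0, 1)⟩⟩,
  ⟨⟨(2, 0), (0, 0), (0, 0), (0, 0)⟩, ⟨(-1, 1), (1, -1), (1, -1), (-1, 1)⟩, ⟨(0, -1), (0, -1), (0, 1), (0, -1)⟩⟩,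
  ⟨⟨(2, 0), (0, 0), (0, 0), (0, 0)⟩, ⟨(-1, 1), (1, -1), (1, -1), (-1, 1)⟩, ⟨(0, 1), (0, 1), (0, -1), (0, 1)⟩⟩,
  ⟨⟨(2, 0), (0, 0), (0, 0), (0, 0)⟩, ⟨(-1, 2), (-1, 0), (-1, 0), (1, 0)⟩, ⟨(0, 0), (0, 0), (0, 0), (-2, 0)⟩⟩,
  ⟨⟨(2, 0), (0, 0), (0, 0), (0, 0)⟩, ⟨(-1, 2), (-1, 0), (-1, 0), (1, 0)⟩, ⟨(0, 0), (0, 0), (0, 0), (2, 0)⟩⟩,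
  ⟨⟨(2, 0), (0, 0), (0, 0), (0, 0)⟩, ⟨(-1, 2), (-1, 0), (1, 0), (-1, 0)⟩, ⟨(0, 0), (0, 0), (-2, 0), (0, 0)⟩⟩,
  ⟨⟨(2, 0), (0, 0), (0, 0), (0, 0)⟩, ⟨(-1, 2), (-1, 0), (1, 0), (-1, 0)⟩, ⟨(0, 0), (0, 0), (2, 0), (0, 0)⟩⟩,
  ⟨⟨(2, 0), (0, 0), (0, 0), (0, 0)⟩, ⟨(-1, 2), (1, 0), (-1, 0), (-1, 0)⟩, ⟨(0, 0), (-2, 0), (0, 0), (0, 0)⟩⟩,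
  ⟨⟨(2, 0), (0, 0), (0, 0), (0, 0)⟩, ⟨(-1, 2), (1, 0), (-1, 0), (-1, 0)⟩, ⟨(0, 0), (2, 0), (0, 0), (0, 0)⟩⟩,
  ⟨⟨(2, 0), (0, 0), (0, 0), (0, 0)⟩, ⟨(-1, 2), (1, 0), (1, 0), (1, 0)⟩, ⟨(-2, 0), (0, 0), (0, 0), (0, 0)⟩⟩,
  ⟨⟨(2, 0), (0, 0), (0, 0), (0, 0)⟩, ⟨(-1, 2), (1, 0), (1, 0), (1, 0)⟩, ⟨(2, 0), (0, 0), (0, 0), (0, 0)⟩⟩,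
  ⟨⟨(2, 0), (0, 0), (0, 0), (0, 0)⟩, ⟨(0, -1), (0, -1), (0, -1), (0, 1)⟩, ⟨(-1, 1), (-1, 1), (1, -1), (1, -1)⟩⟩,
  ⟨⟨(2, 0), (0, 0), (0, 0), (0, 0)⟩, ⟨(0, -1), (0, -1), (0, -1), (0, 1)⟩, ⟨(1, -1), (1, -1), (-1, 1), (-1, 1)⟩⟩,
  ⟨⟨(2, 0), (0, 0), (0, 0), (0, 0)⟩, ⟨(0, -1), (0, -1), (0, 1), (0, -1)⟩, ⟨(-1, 1), (1, -1), (1, -1), (-1, 1)⟩⟩,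
  ⟨⟨(2, 0), (0, 0), (0, 0), (0, 0)⟩, ⟨(0, -1), (0, -1), (0, 1), (0, -1)⟩, ⟨(1, -1), (-1, 1), (-1, 1), (1, -1)⟩⟩,
  ⟨⟨(2, 0), (0, 0), (0, 0), (0, 0)⟩, ⟨(0, -1), (0, 1), (0, -1), (0, -1)⟩, ⟨(-1, 1), (1, -1), (-1, 1), (1, -1)⟩⟩,
  ⟨⟨(2, 0), (0, 0), (0, 0), (0, 0)⟩, ⟨(0, -1), (0, 1), (0, -1), (0, -1)⟩, ⟨(1, -1), (-1, 1), (1, -1), (-1, 1)⟩⟩,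
  ⟨⟨(2, 0), (0, 0), (0, 0), (0, 0)⟩, ⟨(0, -1), (0, 1), (0, 1), (0, 1)⟩, ⟨(-1, 1), (-1, 1), (-1, 1), (-1, 1)⟩⟩,
  ⟨⟨(2, 0), (0, 0), (0, 0), (0, 0)⟩, ⟨(0, -1), (0, 1), (0, 1), (0, 1)⟩, ⟨(1, -1), (1, -1), (1, -1), (1, -1)⟩⟩,
  ⟨⟨(2, 0), (0, 0), (0, 0), (0, 0)⟩, ⟨(0, 0), (-2, 0), (0, 0), (0, 0)⟩, ⟨(-1, 0), (-1, 0), (-1, 0), (1, -2)⟩⟩,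
  ⟨⟨(2, 0), (0, 0), (0, 0), (0, 0)⟩, ⟨(0, 0), (-2, 0), (0, 0), (0, 0)⟩, ⟨(-1, 0), (-1, 2), (1, 0), (-1, 0)⟩⟩,
  ⟨⟨(2, 0), (0, 0), (0, 0), (0, 0)⟩, ⟨(0, 0), (-2, 0), (0, 0), (0, 0)⟩, ⟨(-1, 0), (1, 0), (1, -2), (1, 0)⟩⟩,
  ⟨⟨(2, 0), (0, 0), (0, 0), (0, 0)⟩, ⟨(0, 0), (-2, 0), (0, 0), (0, 0)⟩, ⟨(-1, 2), (1, 0), (-1, 0), (-1, 0)⟩⟩,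
  ⟨⟨(2, 0), (0, 0), (0, 0), (0, 0)⟩, ⟨(0, 0), (-2, 0), (0, 0), (0, 0)⟩, ⟨(1, -2), (-1, 0), (1, 0), (1, 0)⟩⟩,
  ⟨⟨(2, 0), (0, 0), (0, 0), (0, 0)⟩, ⟨(0, 0), (-2, 0), (0, 0), (0, 0)⟩, ⟨(1, 0), (-1, 0), (-1, 2), (-1, 0)⟩⟩,
  ⟨⟨(2, 0), (0, 0), (0, 0), (0, 0)⟩, ⟨(0, 0), (-2, 0), (0, 0), (0, 0)⟩, ⟨(1, 0), (1, -2), (-1, 0), (1, 0)⟩⟩,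
  ⟨⟨(2, 0), (0, 0), (0, 0), (0, 0)⟩, ⟨(0, 0), (-2, 0), (0, 0), (0, 0)⟩, ⟨(1, 0), (1, 0), (1, 0), (-1, 2)⟩⟩,
  ⟨⟨(2, 0), (0, 0), (0, 0), (0, 0)⟩, ⟨(0, 0), (0, 0), (-2, 0), (0, 0)⟩, ⟨(-1, 0), (-1, 0), (-1, 2), (1, 0)⟩⟩,
  ⟨⟨(2, 0), (0, 0), (0, 0), (0, 0)⟩, ⟨(0, 0), (0, 0), (-2, 0), (0, 0)⟩, ⟨(-1, 0), (1, -2), (-1, 0), (-1, 0)⟩⟩,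
  ⟨⟨(2, 0), (0, 0), (0, 0), (0, 0)⟩, ⟨(0, 0), (0, 0), (-2, 0), (0, 0)⟩, ⟨(-1, 0), (1, 0), (1, 0), (1, -2)⟩⟩,
  ⟨⟨(2, 0), (0, 0), (0, 0), (0, 0)⟩, ⟨(0, 0), (0, 0), (-2, 0), (0, 0)⟩, ⟨(-1, 2), (-1, 0), (1, 0), (-1, 0)⟩⟩,
  ⟨⟨(2, 0), (0, 0), (0, 0), (0, 0)⟩, ⟨(0, 0), (0, 0), (-2, 0), (0, 0)⟩, ⟨(1, -2), (1, 0), (-1, 0), (1, 0)⟩⟩,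
  ⟨⟨(2, 0), (0, 0), (0, 0), (0, 0)⟩, ⟨(0, 0), (0, 0), (-2, 0), (0, 0)⟩, ⟨(1, 0), (-1, 0), (-1, 0), (-1, 2)⟩⟩,
  ⟨⟨(2, 0), (0, 0), (0, 0), (0, 0)⟩, ⟨(0, 0), (0, 0), (-2, 0), (0, 0)⟩, ⟨(1, 0), (-1, 2), (1, 0), (1, 0)⟩⟩,
  ⟨⟨(2, 0), (0, 0), (0, 0), (0, 0)⟩, ⟨(0, 0), (0, 0), (-2, 0), (0, 0)⟩, ⟨(1, 0), (1, 0), (1, -2), (-1, 0)⟩⟩,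
  ⟨⟨(2, 0), (0, 0), (0, 0), (0, 0)⟩, ⟨(0, 0), (0, 0), (0, 0), (-2, 0)⟩, ⟨(-1, 0), (-1, 0), (1, -2), (-1, 0)⟩⟩,
  ⟨⟨(2, 0), (0, 0), (0, 0), (0, 0)⟩, ⟨(0, 0), (0, 0), (0, 0), (-2, 0)⟩, ⟨(-1, 0), (1, -2), (1, 0), (1, 0)⟩⟩,
  ⟨⟨(2, 0), (0, 0), (0, 0), (0, 0)⟩, ⟨(0, 0), (0, 0), (0, 0), (-2, 0)⟩, ⟨(-1, 0), (1, 0), (-1, 0), (-1, 2)⟩⟩,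
  ⟨⟨(2, 0), (0, 0), (0, 0), (0, 0)⟩, ⟨(0, 0), (0, 0), (0, 0), (-2, 0)⟩, ⟨(-1, 2), (-1, 0), (-1, 0), (1, 0)⟩⟩,
  ⟨⟨(2, 0), (0, 0), (0, 0), (0, 0)⟩, ⟨(0, 0), (0, 0), (0, 0), (-2, 0)⟩, ⟨(1, -2), (1, 0), (1, 0), (-1, 0)⟩⟩,
  ⟨⟨(2, 0), (0, 0), (0, 0), (0, 0)⟩, ⟨(0, 0), (0, 0), (0, 0), (-2, 0)⟩, ⟨(1, 0), (-1, 0), (1, 0), (1, -2)⟩⟩,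
  ⟨⟨(2, 0), (0, 0), (0, 0), (0, 0)⟩, ⟨(0, 0), (0, 0), (0, 0), (-2, 0)⟩, ⟨(1, 0), (-1, 2), (-1, 0), (-1, 0)⟩⟩,
  ⟨⟨(2, 0), (0, 0), (0, 0), (0, 0)⟩, ⟨(0, 0), (0, 0), (0, 0), (-2, 0)⟩, ⟨(1, 0), (1, 0), (-1, 2), (1, 0)⟩⟩,
  ⟨⟨(2, 0), (0, 0), (0, 0), (0, 0)⟩, ⟨(0, 0), (0, 0), (0, 0), (2, 0)⟩, ⟨(-1, 0), (-1, 0), (1, -2), (-1, 0)⟩⟩,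
  ⟨⟨(2, 0), (0, 0), (0, 0), (0, 0)⟩, ⟨(0, 0), (0, 0), (0, 0), (2, 0)⟩, ⟨(-1, 0), (1, -2), (1, 0), (1, 0)⟩⟩,
  ⟨⟨(2, 0), (0, 0), (0, 0), (0, 0)⟩, ⟨(0, 0), (0, 0), (0, 0), (2, 0)⟩, ⟨(-1, 0), (1, 0), (-1, 0), (-1, 2)⟩⟩,
  ⟨⟨(2, 0), (0, 0), (0, 0), (0, 0)⟩, ⟨(0, 0), (0, 0), (0, 0), (2, 0)⟩, ⟨(-1, 2), (-1, 0), (-1, 0), (1, 0)⟩⟩,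
  ⟨⟨(2, 0), (0, 0), (0, 0), (0, 0)⟩, ⟨(0, 0), (0, 0), (0, 0), (2, 0)⟩, ⟨(1, -2), (1, 0), (1, 0), (-1, 0)⟩⟩,
  ⟨⟨(2, 0), (0, 0), (0, 0), (0, 0)⟩, ⟨(0, 0), (0, 0), (0, 0), (2, 0)⟩, ⟨(1, 0), (-1, 0), (1, 0), (1, -2)⟩⟩,
  ⟨⟨(2, 0), (0, 0), (0, 0), (0, 0)⟩, ⟨(0, 0), (0, 0), (0, 0), (2, 0)⟩, ⟨(1, 0), (-1, 2), (-1, 0), (-1, 0)⟩⟩,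
  ⟨⟨(2, 0), (0, 0), (0, 0), (0, 0)⟩, ⟨(0, 0), (0, 0), (0, 0), (2, 0)⟩, ⟨(1, 0), (1, 0), (-1, 2), (1, 0)⟩⟩,
  ⟨⟨(2, 0), (0, 0), (0, 0), (0, 0)⟩, ⟨(0, 0), (0, 0), (2, 0), (0, 0)⟩, ⟨(-1, 0), (-1, 0), (-1, 2), (1, 0)⟩⟩,
  ⟨⟨(2, 0), (0, 0), (0, 0), (0, 0)⟩, ⟨(0, 0), (0, 0), (2, 0), (0, 0)⟩, ⟨(-1, 0), (1, -2), (-1, 0), (-1, 0)⟩⟩,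
  ⟨⟨(2, 0), (0, 0), (0, 0), (0, 0)⟩, ⟨(0, 0), (0, 0), (2, 0), (0, 0)⟩, ⟨(-1, 0), (1, 0), (1, 0), (1, -2)⟩⟩,
  ⟨⟨(2, 0), (0, 0), (0, 0), (0, 0)⟩, ⟨(0, 0), (0, 0), (2, 0), (0, 0)⟩, ⟨(-1, 2), (-1, 0), (1, 0), (-1, 0)⟩⟩,
  ⟨⟨(2, 0), (0, 0), (0, 0), (0, 0)⟩, ⟨(0, 0), (0, 0), (2, 0), (0, 0)⟩, ⟨(1, -2), (1, 0), (-1, 0), (1, 0)⟩⟩,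
  ⟨⟨(2, 0), (0, 0), (0, 0), (0, 0)⟩, ⟨(0, 0), (0, 0), (2, 0), (0, 0)⟩, ⟨(1, 0), (-1, 0), (-1, 0), (-1, 2)⟩⟩,
  ⟨⟨(2, 0), (0, 0), (0, 0), (0, 0)⟩, ⟨(0, 0), (0, 0), (2, 0), (0, 0)⟩, ⟨(1, 0), (-1, 2), (1, 0), (1, 0)⟩⟩,
  ⟨⟨(2, 0), (0, 0), (0, 0), (0, 0)⟩, ⟨(0, 0), (0, 0), (2, 0), (0, 0)⟩, ⟨(1, 0), (1, 0), (1, -2), (-1, 0)⟩⟩,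
  ⟨⟨(2, 0), (0, 0), (0, 0), (0, 0)⟩, ⟨(0, 0), (2, 0), (0, 0), (0, 0)⟩, ⟨(-1, 0), (-1, 0), (-1, 0), (1, -2)⟩⟩,
  ⟨⟨(2, 0), (0, 0), (0, 0), (0, 0)⟩, ⟨(0, 0), (2, 0), (0, 0), (0, 0)⟩, ⟨(-1, 0), (-1, 2), (1, 0), (-1, 0)⟩⟩,
  ⟨⟨(2, 0), (0, 0), (0, 0), (0, 0)⟩, ⟨(0, 0), (2, 0), (0, 0), (0, 0)⟩, ⟨(-1, 0), (1, 0), (1, -2), (1, 0)⟩⟩,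
  ⟨⟨(2, 0), (0, 0), (0, 0), (0, 0)⟩, ⟨(0, 0), (2, 0), (0, 0), (0, 0)⟩, ⟨(-1, 2), (1, 0), (-1, 0), (-1, 0)⟩⟩,
  ⟨⟨(2, 0), (0, 0), (0, 0), (0, 0)⟩, ⟨(0, 0), (2, 0), (0, 0), (0, 0)⟩, ⟨(1, -2), (-1, 0), (1, 0), (1, 0)⟩⟩,
  ⟨⟨(2, 0), (0, 0), (0, 0), (0, 0)⟩, ⟨(0, 0), (2, 0), (0, 0), (0, 0)⟩, ⟨(1, 0), (-1, 0), (-1, 2), (-1, 0)⟩⟩,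
  ⟨⟨(2, 0), (0, 0), (0, 0), (0, 0)⟩, ⟨(0, 0), (2, 0), (0, 0), (0, 0)⟩, ⟨(1, 0), (1, -2), (-1, 0), (1, 0)⟩⟩,
  ⟨⟨(2, 0), (0, 0), (0, 0), (0, 0)⟩, ⟨(0, 0), (2, 0), (0, 0), (0, 0)⟩, ⟨(1, 0), (1, 0), (1, 0), (-1, 2)⟩⟩,
  ⟨⟨(2, 0), (0, 0), (0, 0), (0, 0)⟩, ⟨(0, 1), (0, -1), (0, -1), (0, -1)⟩, ⟨(-1, 1), (-1, 1), (-1, 1), (-1, 1)⟩⟩,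
  ⟨⟨(2, 0), (0, 0), (0, 0), (0, 0)⟩, ⟨(0, 1), (0, -1), (0, -1), (0, -1)⟩, ⟨(1, -1), (1, -1), (1, -1), (1, -1)⟩⟩,
  ⟨⟨(2, 0), (0, 0), (0, 0), (0, 0)⟩, ⟨(0, 1), (0, -1), (0, 1), (0, 1)⟩, ⟨(-1, 1), (1, -1), (-1, 1), (1, -1)⟩⟩,
  ⟨⟨(2, 0), (0, 0), (0, 0), (0, 0)⟩, ⟨(0, 1), (0, -1), (0, 1), (0, 1)⟩, ⟨(1, -1), (-1, 1), (1, -1), (-1, 1)⟩⟩,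
  ⟨⟨(2, 0), (0, 0), (0, 0), (0, 0)⟩, ⟨(0, 1), (0, 1), (0, -1), (0, 1)⟩, ⟨(-1, 1), (1, -1), (1, -1), (-1, 1)⟩⟩,
  ⟨⟨(2, 0), (0, 0), (0, 0), (0, 0)⟩, ⟨(0, 1), (0, 1), (0, -1), (0, 1)⟩, ⟨(1, -1), (-1, 1), (-1, 1), (1, -1)⟩⟩,
  ⟨⟨(2, 0), (0, 0), (0, 0), (0, 0)⟩, ⟨(0, 1), (0, 1), (0, 1), (0, -1)⟩, ⟨(-1, 1), (-1, 1), (1, -1), (1, -1)⟩⟩,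
  ⟨⟨(2, 0), (0, 0), (0, 0), (0, 0)⟩, ⟨(0, 1), (0, 1), (0, 1), (0, -1)⟩, ⟨(1, -1), (1, -1), (-1, 1), (-1, 1)⟩⟩,
  ⟨⟨(2, 0), (0, 0), (0, 0), (0, 0)⟩, ⟨(1, -2), (-1, 0), (-1, 0), (-1, 0)⟩, ⟨(-2, 0), (0, 0), (0, 0), (0, 0)⟩⟩,
  ⟨⟨(2, 0), (0, 0), (0, 0), (0, 0)⟩, ⟨(1, -2), (-1, 0), (-1, 0), (-1, 0)⟩, ⟨(2, 0), (0, 0), (0, 0), (0, 0)⟩⟩,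
  ⟨⟨(2, 0), (0, 0), (0, 0), (0, 0)⟩, ⟨(1, -2), (-1, 0), (1, 0), (1, 0)⟩, ⟨(0, 0), (-2, 0), (0, 0), (0, 0)⟩⟩,
  ⟨⟨(2, 0), (0, 0), (0, 0), (0, 0)⟩, ⟨(1, -2), (-1, 0), (1, 0), (1, 0)⟩, ⟨(0, 0), (2, 0), (0, 0), (0, 0)⟩⟩,
  ⟨⟨(2, 0), (0, 0), (0, 0), (0, 0)⟩, ⟨(1, -2), (1, 0), (-1, 0), (1, 0)⟩, ⟨(0, 0), (0, 0), (-2, 0), (0, 0)⟩⟩,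
  ⟨⟨(2, 0), (0, 0), (0, 0), (0, 0)⟩, ⟨(1, -2), (1, 0), (-1, 0), (1, 0)⟩, ⟨(0, 0), (0, 0), (2, 0), (0, 0)⟩⟩,
  ⟨⟨(2, 0), (0, 0), (0, 0), (0, 0)⟩, ⟨(1, -2), (1, 0), (1, 0), (-1, 0)⟩, ⟨(0, 0), (0, 0), (0, 0), (-2, 0)⟩⟩,
  ⟨⟨(2, 0), (0, 0), (0, 0), (0, 0)⟩, ⟨(1, -2), (1, 0), (1, 0), (-1, 0)⟩, ⟨(0, 0), (0, 0), (0, 0), (2, 0)⟩⟩,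
  ⟨⟨(2, 0), (0, 0), (0, 0), (0, 0)⟩, ⟨(1, -1), (-1, 1), (-1, 1), (1, -1)⟩, ⟨(0, -1), (0, -1), (0, 1), (0, -1)⟩⟩,
  ⟨⟨(2, 0), (0, 0), (0, 0), (0, 0)⟩, ⟨(1, -1), (-1, 1), (-1, 1), (1, -1)⟩, ⟨(0, 1), (0, 1), (0, -1), (0, 1)⟩⟩,
  ⟨⟨(2, 0), (0, 0), (0, 0), (0, 0)⟩, ⟨(1, -1), (-1, 1), (1, -1), (-1, 1)⟩, ⟨(0, -1), (0, 1), (0, -1), (0, -1)⟩⟩,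
  ⟨⟨(2, 0), (0, 0), (0, 0), (0, 0)⟩, ⟨(1, -1), (-1, 1), (1, -1), (-1, 1)⟩, ⟨(0, 1), (0, -1), (0, 1), (0, 1)⟩⟩,
  ⟨⟨(2, 0), (0, 0), (0, 0), (0, 0)⟩, ⟨(1, -1), (1, -1), (-1, 1), (-1, 1)⟩, ⟨(0, -1), (0, -1), (0, -1), (0, 1)⟩⟩,
  ⟨⟨(2, 0), (0, 0), (0, 0), (0, 0)⟩, ⟨(1, -1), (1, -1), (-1, 1), (-1, 1)⟩, ⟨(0, 1), (0, 1), (0, 1), (0, -1)⟩⟩,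
  ⟨⟨(2, 0), (0, 0), (0, 0), (0, 0)⟩, ⟨(1, -1), (1, -1), (1, -1), (1, -1)⟩, ⟨(0, -1), (0, 1), (0, 1), (0, 1)⟩⟩,
  ⟨⟨(2, 0), (0, 0), (0, 0), (0, 0)⟩, ⟨(1, -1), (1, -1), (1, -1), (1, -1)⟩, ⟨(0, 1), (0, -1), (0, -1), (0, -1)⟩⟩,
  ⟨⟨(2, 0), (0, 0), (0, 0), (0, 0)⟩, ⟨(1, 0), (-1, 0), (-1, 0), (-1, 2)⟩, ⟨(0, 0), (0, 0), (-2, 0), (0, 0)⟩⟩,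
  ⟨⟨(2, 0), (0, 0), (0, 0), (0, 0)⟩, ⟨(1, 0), (-1, 0), (-1, 0), (-1, 2)⟩, ⟨(0, 0), (0, 0), (2, 0), (0, 0)⟩⟩,
  ⟨⟨(2, 0), (0, 0), (0, 0), (0, 0)⟩, ⟨(1, 0), (-1, 0), (-1, 2), (-1, 0)⟩, ⟨(0, 0), (-2, 0), (0, 0), (0, 0)⟩⟩,
  ⟨⟨(2, 0), (0, 0), (0, 0), (0, 0)⟩, ⟨(1, 0), (-1, 0), (-1, 2), (-1, 0)⟩, ⟨(0, 0), (2, 0), (0, 0), (0, 0)⟩⟩,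
  ⟨⟨(2, 0), (0, 0), (0, 0), (0, 0)⟩, ⟨(1, 0), (-1, 0), (1, -2), (1, 0)⟩, ⟨(-2, 0), (0, 0), (0, 0), (0, 0)⟩⟩,
  ⟨⟨(2, 0), (0, 0), (0, 0), (0, 0)⟩, ⟨(1, 0), (-1, 0), (1, -2), (1, 0)⟩, ⟨(2, 0), (0, 0), (0, 0), (0, 0)⟩⟩,
  ⟨⟨(2, 0), (0, 0), (0, 0), (0, 0)⟩, ⟨(1, 0), (-1, 0), (1, 0), (1, -2)⟩, ⟨(0, 0), (0, 0), (0, 0), (-2, 0)⟩⟩,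
  ⟨⟨(2, 0), (0, 0), (0, 0), (0, 0)⟩, ⟨(1, 0), (-1, 0), (1, 0), (1, -2)⟩, ⟨(0, 0), (0, 0), (0, 0), (2, 0)⟩⟩,
  ⟨⟨(2, 0), (0, 0), (0, 0), (0, 0)⟩, ⟨(1, 0), (-1, 2), (-1, 0), (-1, 0)⟩, ⟨(0, 0), (0, 0), (0, 0), (-2, 0)⟩⟩,
  ⟨⟨(2, 0), (0, 0), (0, 0), (0, 0)⟩, ⟨(1, 0), (-1, 2), (-1, 0), (-1, 0)⟩, ⟨(0, 0), (0, 0), (0, 0), (2, 0)⟩⟩,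
  ⟨⟨(2, 0), (0, 0), (0, 0), (0, 0)⟩, ⟨(1, 0), (-1, 2), (1, 0), (1, 0)⟩, ⟨(0, 0), (0, 0), (-2, 0), (0, 0)⟩⟩,
  ⟨⟨(2, 0), (0, 0), (0, 0), (0, 0)⟩, ⟨(1, 0), (-1, 2), (1, 0), (1, 0)⟩, ⟨(0, 0), (0, 0), (2, 0), (0, 0)⟩⟩,
  ⟨⟨(2, 0), (0, 0), (0, 0), (0, 0)⟩, ⟨(1, 0), (1, -2), (-1, 0), (1, 0)⟩, ⟨(0, 0), (-2, 0), (0, 0), (0, 0)⟩⟩,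
  ⟨⟨(2, 0), (0, 0), (0, 0), (0, 0)⟩, ⟨(1, 0), (1, -2), (-1, 0), (1, 0)⟩, ⟨(0, 0), (2, 0), (0, 0), (0, 0)⟩⟩,
  ⟨⟨(2, 0), (0, 0), (0, 0), (0, 0)⟩, ⟨(1, 0), (1, -2), (1, 0), (-1, 0)⟩, ⟨(-2, 0), (0, 0), (0, 0), (0, 0)⟩⟩,
  ⟨⟨(2, 0), (0, 0), (0, 0), (0, 0)⟩, ⟨(1, 0), (1, -2), (1, 0), (-1, 0)⟩, ⟨(2, 0), (0, 0), (0, 0), (0, 0)⟩⟩,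
  ⟨⟨(2, 0), (0, 0), (0, 0), (0, 0)⟩, ⟨(1, 0), (1, 0), (-1, 0), (1, -2)⟩, ⟨(-2, 0), (0, 0), (0, 0), (0, 0)⟩⟩,
  ⟨⟨(2, 0), (0, 0), (0, 0), (0, 0)⟩, ⟨(1, 0), (1, 0), (-1, 0), (1, -2)⟩, ⟨(2, 0), (0, 0), (0, 0), (0, 0)⟩⟩,
  ⟨⟨(2, 0), (0, 0), (0, 0), (0, 0)⟩, ⟨(1, 0), (1, 0), (-1, 2), (1, 0)⟩, ⟨(0, 0), (0, 0), (0, 0), (-2, 0)⟩⟩,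
  ⟨⟨(2, 0), (0, 0), (0, 0), (0, 0)⟩, ⟨(1, 0), (1, 0), (-1, 2), (1, 0)⟩, ⟨(0, 0), (0, 0), (0, 0), (2, 0)⟩⟩,
  ⟨⟨(2, 0), (0, 0), (0, 0), (0, 0)⟩, ⟨(1, 0), (1, 0), (1, -2), (-1, 0)⟩, ⟨(0, 0), (0, 0), (-2, 0), (0, 0)⟩⟩,
  ⟨⟨(2, 0), (0, 0), (0, 0), (0, 0)⟩, ⟨(1, 0), (1, 0), (1, -2), (-1, 0)⟩, ⟨(0, 0), (0, 0), (2, 0), (0, 0)⟩⟩,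
  ⟨⟨(2, 0), (0, 0), (0, 0), (0, 0)⟩, ⟨(1, 0), (1, 0), (1, 0), (-1, 2)⟩, ⟨(0, 0), (-2, 0), (0, 0), (0, 0)⟩⟩,
  ⟨⟨(2, 0), (0, 0), (0, 0), (0, 0)⟩, ⟨(1, 0), (1, 0), (1, 0), (-1, 2)⟩, ⟨(0, 0), (2, 0), (0, 0), (0, 0)⟩⟩,
  ⟨⟨(2, 0), (0, 0), (0, 0), (0, 0)⟩, ⟨(2, 0), (0, 0), (0, 0), (0, 0)⟩, ⟨(-1, 0), (-1, 0), (1, 0), (-1, 2)⟩⟩,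
  ⟨⟨(2, 0), (0, 0), (0, 0), (0, 0)⟩, ⟨(2, 0), (0, 0), (0, 0), (0, 0)⟩, ⟨(-1, 0), (-1, 2), (-1, 0), (1, 0)⟩⟩,
  ⟨⟨(2, 0), (0, 0), (0, 0), (0, 0)⟩, ⟨(2, 0), (0, 0), (0, 0), (0, 0)⟩, ⟨(-1, 0), (1, 0), (-1, 2), (-1, 0)⟩⟩,
  ⟨⟨(2, 0), (0, 0), (0, 0), (0, 0)⟩, ⟨(2, 0), (0, 0), (0, 0), (0, 0)⟩, ⟨(-1, 2), (1, 0), (1, 0), (1, 0)⟩⟩,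
  ⟨⟨(2, 0), (0, 0), (0, 0), (0, 0)⟩, ⟨(2, 0), (0, 0), (0, 0), (0, 0)⟩, ⟨(1, -2), (-1, 0), (-1, 0), (-1, 0)⟩⟩,
  ⟨⟨(2, 0), (0, 0), (0, 0), (0, 0)⟩, ⟨(2, 0), (0, 0), (0, 0), (0, 0)⟩, ⟨(1, 0), (-1, 0), (1, -2), (1, 0)⟩⟩,
  ⟨⟨(2, 0), (0, 0), (0, 0), (0, 0)⟩, ⟨(2, 0), (0, 0), (0, 0), (0, 0)⟩, ⟨(1, 0), (1, -2), (1, 0), (-1, 0)⟩⟩,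
  ⟨⟨(2, 0), (0, 0), (0, 0), (0, 0)⟩, ⟨(2, 0), (0, 0), (0, 0), (0, 0)⟩, ⟨(1, 0), (1, 0), (-1, 0), (1, -2)⟩⟩,
  ⟨⟨(4, 0), (0, 0), (0, 0), (0, 0)⟩, ⟨(0, 0), (0, 0), (0, 0), (0, 0)⟩, ⟨(0, 0), (0, 0), (0, 0), (0, 0)⟩⟩]

end CfsgLib.Char.J2
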