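import Cfsg.Agent.Lib.Char.J2.Quat

/-!
Triples of icosians: lattice test, reflections, norms.
-/

set_option autoImplicit false

namespace CfsgLib.Char.J2

open Quaternion Cfsg.Spor

/-- A triple. -/
structure Tr where
  x : Qt
  y : Qt
  z : Qt
  deriving DecidableEq

/-- The vector of a triple. -/
noncomputable def toV (t : Tr) : Fin 3 → ℍ[ℝ] := ![toQ t.x, toQ t.y, toQ t.z]

theorem toV_injective : Function.Injective toV := by
  rintro ⟨a, b, c⟩ ⟨a', b', c'⟩ h
  obtain rfl : a = a' := toQ_injective (congrFun h 0)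
  obtain rfl : b = b' := toQ_injective (congrFun h 1)
  obtain rfl : c = c' := toQ_injective (congrFun h 2)
  rfl

/-- All coordinates are icosians. -/
def icoT (t : Tr) : Bool := isIco t.x && isIco t.y && isIco t.z

/-- Sum of triples. -/
def tadd (s t : Tr) : Tr := ⟨qadd s.x t.x, qadd s.y t.y, qadd s.z t.z⟩

/-- Negation of a triple. -/
def tneg (t : Tr) : Tr := ⟨qneg t.x, qneg t.y, qneg t.z⟩

/-- Left multiple of a triple. -/
def tsmul (u : Qt) (t : Tr) : Tr := ⟨qmul u t.x, qmul u t.y, qmul u t.z⟩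

/-- The lattice test. -/
def memL (t : Tr) : Bool :=
  icoT t && divBy (qconj qh) (qadd t.x (qneg t.y)) && divBy (qconj qh) (qadd t.y (qneg t.z))
    && divBy qh (qadd (qadd t.x t.y) t.z)

theorem icoT_iff {t : Tr} :
    icoT t = true ↔ isIco t.x = true ∧ isIco t.y = true ∧ isIco t.z = true := by
  simp [icoT, and_assoc]

theorem icoT_of_memL {t : Tr} (h : memL t = true) : icoT t = true := by
  simp only [memL, Bool.and_eq_true] at h
  exact h.1.1.1

theorem toV_mem_iff (t : Tr) : toV t ∈ icoLeech ↔ memL t = true := by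
  simp only [memL, Bool.and_eq_true, icoT_iff]
  rw [← mem_Ih_iff, ← mem_Ih_iff, ← mem_Ihbar_iff, toQ_add, toQ_add, toQ_add, toQ_add, toQ_neg,
    toQ_neg, ← sub_eq_add_neg, ← sub_eq_add_neg, ← toQ_mem_icosians_iff, ← toQ_mem_icosians_iff,
    ← toQ_mem_icosians_iff]
  show (∀ i, toV t i ∈ icosians) ∧ _ ∧ _ ∧ _ ↔ _
  constructor
  · rintro ⟨h, a, b, c⟩
    exact ⟨⟨⟨⟨h 0, h 1, h 2⟩, a⟩, b⟩, c⟩
  · rintro ⟨⟨⟨⟨h0, h1, h2⟩, a⟩, b⟩, c⟩
    exact ⟨fun i => by fin_cases i <;> assumption, a, b, c⟩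

theorem exists_tr_of_mem {v : Fin 3 → ℍ[ℝ]} (hv : v ∈ icoLeech) :
    ∃ t, memL t = true ∧ toV t = v := by
  obtain ⟨x, -, hx⟩ := mem_icosians_iff.1 (hv.1 0)
  obtain ⟨y, -, hy⟩ := mem_icosians_iff.1 (hv.1 1)
  obtain ⟨z, -, hz⟩ := mem_icosians_iff.1 (hv.1 2)
  have e : toV ⟨x, y, z⟩ = v := by funext i; fin_cases i <;> assumption
  exact ⟨_, (toV_mem_iff _).1 (e ▸ hv), e⟩

theorem toV_add (s t : Tr) : toV (tadd s t) = toV s + toV t := by
  funext i; fin_cases i <;> simp [toV, tadd, toQ_add]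

theorem toV_neg (t : Tr) : toV (tneg t) = -toV t := by
  funext i; fin_cases i <;> simp [toV, tneg, toQ_neg]

theorem toV_smul {u : Qt} {t : Tr} (hu : isIco u = true) (ht : icoT t = true) :
    toV (tsmul u t) = fun i => toQ u * toV t i := by
  rw [icoT_iff] at ht
  funext i
  fin_cases i <;> simp [toV, tsmul, toQ_qmul, hu, ht]

theorem icoT_tsmul {u : Qt} {t : Tr} (hu : isIco u = true) (ht : icoT t = true) :
    icoT (tsmul u t) = true := by
  rw [icoT_iff] at ht ⊢
  exact ⟨(isIco_qmul hu ht.1).1, (isIco_qmul hu ht.2.1).1, (isIco_qmul hu ht.2.2).1⟩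

/-- Four times half the inner product. -/
def ipNum (x r : Tr) : Qt :=
  qadd (qadd (qm2 x.x (qconj r.x)) (qm2 x.y (qconj r.y))) (qm2 x.z (qconj r.z))

theorem toQ_ipNum (x r : Tr) : toQ (ipNum x r) = (2 : ℝ) • qip (toV x) (toV r) := by
  simp [ipNum, toQ_add, toQ_m2, toQ_conj, qip, Fin.sum_univ_three, toV, smul_add]

/-- The reflection on triples. -/
def treflC (r x : Tr) : Tr := tadd x (tneg (tsmul (qdiv 4 (ipNum x r)) r))

/-- The test that the reflection is computed exactly. -/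
def reflOK (r x : Tr) : Bool :=
  decide (qsc 4 (qdiv 4 (ipNum x r)) = ipNum x r) && isIco (qdiv 4 (ipNum x r))

theorem toV_trefl {r x : Tr} (hr : icoT r = true) (h : reflOK r x = true) :
    qrefl (toV r) (toV x) = toV (treflC r x) := by
  simp only [reflOK, Bool.and_eq_true, decide_eq_true_eq] at h
  have e := congrArg toQ h.1
  rw [toQ_sc, toQ_ipNum] at e
  have e2 : (1 / 2 : ℝ) • qip (toV x) (toV r) = toQ (qdiv 4 (ipNum x r)) := by
    have := congrArg (fun q : ℍ[ℝ] => (1 / 4 : ℝ) • q) e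
    simp only [smul_smul] at this
    norm_num at this ⊢
    exact this.symm
  funext i
  rw [treflC, toV_add, toV_neg, toV_smul h.2 hr]
  show toV x i - _ * toV r i = _
  rw [e2]
  simp [sub_eq_add_neg]

end CfsgLib.Char.J2
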